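import Cfsg.Agent.S0182
import Cfsg.Agent.S0208
import Cfsg.Agent.S1230
import Cfsg.Agent.PermGroups.ZassenhausChar
import Cfsg.Agent.PermGroups.ZassenhausSimple

/-! # Simple groups with abelian centralizers

The centralizer `A` of an involution is abelian and meets its conjugates trivially. Counting the
involutions inverting a two-point stabilizer shows that the action on the conjugates of `A` is doubly
transitive with only the identity fixing three points, and then that `A` is elementary abelian.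
-/

set_option autoImplicit false
set_option linter.unusedSectionVars false

open MulAction Finset
open scoped Classical

namespace Cfsg.Agent.GeomClasses.CT

variable {G : Type*} [Group G] [Fintype G]

/-- The hypothesis: centralizers of nontrivial elements are abelian. -/
def AbCent (G : Type*) [Group G] : Prop :=
  ∀ x a b : G, x ≠ 1 → a * x = x * a → b * x = x * b → a * b = b * a

/-- The centralizer of an element. -/
abbrev Cz (t : G) : Subgroup G := Subgroup.centralizer ({t} : Set G)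

/-- Its normalizer. -/
abbrev Nz (t : G) : Subgroup G := Subgroup.normalizer ((Cz t : Subgroup G) : Set G)

theorem mem_Cz {t g : G} : g ∈ Cz t ↔ t * g = g * t := by
  simp [Subgroup.mem_centralizer_iff]

theorem inv2 {v : G} (h : orderOf v = 2) : v ≠ 1 ∧ v⁻¹ = v ∧ v * v = 1 := by
  have h1 : v * v = 1 := by rw [← pow_two, ← h]; exact pow_orderOf_eq_one v
  exact ⟨fun e => by rw [e, orderOf_one] at h; omega, inv_eq_of_mul_eq_one_right h1, h1⟩

variable (hct : AbCent G)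
include hct

theorem Cz_eq {t x : G} (ht : t ≠ 1) (hx : x ∈ Cz t) (hx1 : x ≠ 1) : Cz x = Cz t := by
  have hx' := mem_Cz.mp hx
  ext y
  rw [mem_Cz, mem_Cz]
  exact ⟨fun h => (hct x t y hx1 hx' h.symm), fun h => hct t x y ht hx'.symm h.symm⟩

omit hct in
theorem map_Cz (g t : G) : (Cz t).map (MulAut.conj g).toMonoidHom = Cz (g * t * g⁻¹) := by
  ext y
  constructor
  · rintro ⟨x, hx, rfl⟩
    have := mem_Cz.mp hx
    rw [mem_Cz]
    show g * t * g⁻¹ * (g * x * g⁻¹) = g * x * g⁻¹ * (g * t * g⁻¹)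
    simp only [mul_assoc, inv_mul_cancel_left]
    rw [← mul_assoc t, this, mul_assoc]
  · intro hy
    refine ⟨g⁻¹ * y * g, mem_Cz.mpr ?_, by simp [mul_assoc]⟩
    have := mem_Cz.mp hy
    calc t * (g⁻¹ * y * g) = g⁻¹ * (g * t * g⁻¹ * y) * g := by group
      _ = g⁻¹ * (y * (g * t * g⁻¹)) * g := by rw [this]
      _ = g⁻¹ * y * g * t := by group

/-- Trivial intersection. -/
theorem mem_Nz_of_conj {t x g : G} (ht : t ≠ 1) (hx : x ∈ Cz t) (hx1 : x ≠ 1) (h : g * x * g⁻¹ ∈ Cz t) :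
    g ∈ Nz t := by
  have e1 := Cz_eq hct ht hx hx1
  have e2 := Cz_eq hct ht h (fun e => hx1 (conj_eq_one_iff.mp e))
  have e3 : (Cz t).map (MulAut.conj g).toMonoidHom = Cz t := by
    rw [← e1, map_Cz, e2, e1]
  rw [Subgroup.mem_normalizer_iff]
  intro y
  constructor
  · exact fun hy => e3 ▸ ⟨y, hy, rfl⟩
  · intro hy
    have : g * y * g⁻¹ ∈ (Cz t).map (MulAut.conj g).toMonoidHom := e3.symm ▸ hy
    obtain ⟨z, hz, hz'⟩ := this
    have hz'' : g * z * g⁻¹ = g * y * g⁻¹ := hz'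
    rwa [← mul_left_cancel (mul_right_cancel hz'')]

variable [IsSimpleGroup G] (hna : ¬ IsMulCommutative G)
include hna

theorem not_central {x : G} (hx : x ≠ 1) : Cz x ≠ ⊤ := by
  intro h
  have hz : x ∈ Subgroup.center G := Subgroup.mem_center_iff.mpr fun g => (mem_Cz.mp (h ▸ Subgroup.mem_top g)).symm
  rcases (inferInstance : (Subgroup.center G).Normal).eq_bot_or_eq_top with e | e
  · exact hx (Subgroup.mem_bot.mp (e ▸ hz))
  · exact hna ⟨⟨fun a b => (Subgroup.mem_center_iff.mp (e ▸ Subgroup.mem_top a) b).symm⟩⟩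

theorem exists_involution : ∃ t : G, orderOf t = 2 := by
  haveI : Fact (Nat.Prime 2) := ⟨Nat.prime_two⟩
  refine exists_prime_orderOf_dvd_card' 2 ?_
  by_contra hodd
  have hsol : Group.IsSolvable G := S0182.result (Nat.odd_iff.mpr (by omega)) fun x hx a ha b hb =>
    hct x a b hx (mem_Cz.mp ha).symm (mem_Cz.mp hb).symm
  exact hna ((IsSimpleGroup.comm_iff_isSolvable (G := G)).mpr hsol |> fun h => ⟨⟨h⟩⟩)

theorem exists_sylow_le {t : G} (ht : orderOf t = 2) : ∃ S : Sylow 2 G, (S : Subgroup G) ≤ Cz t ∧ t ∈ S := by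
  haveI : Fact (Nat.Prime 2) := ⟨Nat.prime_two⟩
  obtain ⟨ht1, -, -⟩ := inv2 ht
  have hp : IsPGroup 2 (Subgroup.zpowers t) := IsPGroup.of_card (n := 1) (by rw [Nat.card_zpowers, ht, pow_one])
  obtain ⟨S, hS⟩ := hp.exists_le_sylow
  have htS : t ∈ (S : Subgroup G) := hS (Subgroup.mem_zpowers t)
  refine ⟨S, fun s hs => mem_Cz.mpr ?_, htS⟩
  haveI : Nontrivial S := ⟨⟨⟨t, htS⟩, 1, fun e => ht1 (congrArg Subtype.val e)⟩⟩
  haveI := S.2.center_nontrivial
  obtain ⟨⟨z, hz⟩, hz1⟩ := exists_ne (1 : Subgroup.center S)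
  have hzne : (z : G) ≠ 1 := fun e => hz1 (Subtype.ext (Subtype.ext e))
  exact hct z t s hzne (congrArg Subtype.val (Subgroup.mem_center_iff.mp hz ⟨t, htS⟩))
    (congrArg Subtype.val (Subgroup.mem_center_iff.mp hz ⟨s, hs⟩))

theorem isConj_noncomm {v w : G} (hv : orderOf v = 2) (hw : orderOf w = 2) (hvw : v * w ≠ w * v) :
    ∃ d : G, d * v * d⁻¹ = w := by
  rcases Nat.even_or_odd (orderOf (v * w)) with ⟨k, hk⟩ | hodd
  · exfalso
    obtain ⟨hv1, hvi, hvv⟩ := inv2 hv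
    obtain ⟨hw1, hwi, hww⟩ := inv2 hw
    have hk0 : 0 < k := by have := orderOf_pos (v * w); omega
    set z := (v * w) ^ k with hz
    have hzz : z⁻¹ = z := inv_eq_of_mul_eq_one_right (by rw [hz, ← pow_add, ← hk]; exact pow_orderOf_eq_one _)
    have hz1 : z ≠ 1 := fun e => pow_ne_one_of_lt_orderOf (by omega) (by omega) e
    have hinvv : v * (v * w) * v⁻¹ = (v * w)⁻¹ := by
      rw [← mul_assoc v v, hvv, one_mul, mul_inv_rev, hwi]
    have hinvw : w * (v * w) * w⁻¹ = (v * w)⁻¹ := by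
      rw [mul_inv_rev, hwi, hvi]; rw [mul_assoc w (v * w) w, mul_assoc v w w, hww, mul_one]
    have c1 : v * z = z * v := by
      have e : v * z * v⁻¹ = z := by rw [hz, ← conj_pow, hinvv, inv_pow, ← hz, hzz]
      exact mul_inv_eq_iff_eq_mul.mp e
    have c2 : w * z = z * w := by
      have e : w * z * w⁻¹ = z := by rw [hz, ← conj_pow, hinvw, inv_pow, ← hz, hzz]
      exact mul_inv_eq_iff_eq_mul.mp e
    exact hvw (hct z v w hz1 c1 c2)
  · obtain ⟨d, -, hd⟩ := S0208.result v w hv hw hodd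
    exact ⟨d, hd⟩

theorem isConj_involutions {v w : G} (hv : orderOf v = 2) (hw : orderOf w = 2) : ∃ g : G, g * v * g⁻¹ = w := by
  by_cases hvw : v * w = w * v
  swap
  · exact isConj_noncomm hct hna hv hw hvw
  obtain ⟨hv1, -, -⟩ := inv2 hv
  obtain ⟨hw1, -, -⟩ := inv2 hw
  obtain ⟨g, hg⟩ : ∃ g : G, g * v * g⁻¹ ∉ Cz v := by
    by_contra hcon
    push Not at hcon
    have hle : Subgroup.normalClosure ({v} : Set G) ≤ Cz v := by
      refine (Subgroup.closure_le _).mpr fun x hx => ?_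
      obtain ⟨u, hu, hux⟩ := Group.mem_conjugatesOfSet_iff.mp hx
      obtain ⟨g, rfl⟩ := isConj_iff.mp hux
      rw [Set.mem_singleton_iff.mp hu]
      exact hcon g
    rcases (Subgroup.normalClosure_normal (s := ({v} : Set G))).eq_bot_or_eq_top with e | e
    · exact hv1 (Subgroup.mem_bot.mp (e ▸ Subgroup.subset_normalClosure rfl))
    · exact not_central hct hna hv1 (top_le_iff.mp (e ▸ hle))
  set r := g * v * g⁻¹ with hr
  have hro : orderOf r = 2 := by
    rw [hr, ← hv]; exact orderOf_injective (MulAut.conj g).toMonoidHom (MulAut.conj g).injective v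
  have hrv : v * r ≠ r * v := fun e => hg (mem_Cz.mpr e)
  have hrw : r * w ≠ w * r := fun e => hrv (hct w v r hw1 hvw e)
  obtain ⟨d, hd⟩ := isConj_noncomm hct hna hv hro hrv
  obtain ⟨e, he⟩ := isConj_noncomm hct hna hro hw hrw
  exact ⟨e * d, by rw [← he, ← hd]; group⟩

/-- The involutions centralizing `t`. -/
noncomputable def invs (t : G) : Finset G := univ.filter fun v => orderOf v = 2 ∧ v ∈ Cz t

omit hct hna in
theorem Cz_le_Nz (t : G) : Cz t ≤ Nz t := Subgroup.le_normalizer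

theorem card_Nz {t : G} (ht : orderOf t = 2) : Nat.card (Nz t) = (invs t).card * Nat.card (Cz t) := by
  obtain ⟨ht1, -, -⟩ := inv2 ht
  have hmaps : ∀ g ∈ univ.filter (fun g : G => g ∈ Nz t), g * t * g⁻¹ ∈ invs t := fun g hg =>
    mem_filter.mpr ⟨mem_univ _, by rw [← ht]; exact orderOf_injective (MulAut.conj g).toMonoidHom (MulAut.conj g).injective t,
      (Subgroup.mem_normalizer_iff.mp (mem_filter.mp hg).2 t).mp (mem_Cz.mpr rfl)⟩
  rw [Nat.card_eq_fintype_card, Fintype.card_subtype,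
    card_eq_sum_card_fiberwise (f := fun g : G => g * t * g⁻¹) (t := invs t) hmaps]
  rw [sum_congr rfl fun v hv => ?_, sum_const, smul_eq_mul]
  obtain ⟨hvo, hvA⟩ := (mem_filter.mp hv).2
  obtain ⟨g₀, hg₀⟩ := isConj_involutions hct hna ht hvo
  have hg₀N : g₀ ∈ Nz t := mem_Nz_of_conj hct ht1 (mem_Cz.mpr rfl) ht1 (hg₀ ▸ hvA)
  rw [Nat.card_eq_fintype_card, Fintype.card_subtype]
  refine (card_bij (fun a _ => g₀ * a) ?_ (fun a _ b _ e => mul_left_cancel e) ?_).symm
  · intro a ha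
    have ha' := mem_Cz.mp (mem_filter.mp ha).2
    simp only [mem_filter, mem_univ, true_and] at ha ⊢
    refine ⟨(Nz t).mul_mem hg₀N (Cz_le_Nz t ha), ?_⟩
    rw [← hg₀, show g₀ * a * t * (g₀ * a)⁻¹ = g₀ * (a * t) * (g₀ * a)⁻¹ by group, ← ha']
    group
  · intro g hg
    simp only [mem_filter, mem_univ, true_and] at hg
    refine ⟨g₀⁻¹ * g, ?_, mul_inv_cancel_left g₀ g⟩
    simp only [mem_filter, mem_univ, true_and]
    rw [mem_Cz]
    have e : g * t * g⁻¹ = g₀ * t * g₀⁻¹ := hg.2.trans hg₀.symm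
    calc t * (g₀⁻¹ * g) = g₀⁻¹ * (g₀ * t * g₀⁻¹) * g := by group
      _ = g₀⁻¹ * (g * t * g⁻¹) * g := by rw [e]
      _ = g₀⁻¹ * g * t := by group

theorem invs_odd {t : G} (ht : orderOf t = 2) : Odd (invs t).card := by
  haveI : Fact (Nat.Prime 2) := ⟨Nat.prime_two⟩
  obtain ⟨S, hS, -⟩ := exists_sylow_le hct hna ht
  by_contra heven
  rw [Nat.not_odd_iff_even] at heven
  obtain ⟨k, hk⟩ := heven.two_dvd
  have h1 : 2 * Nat.card (S : Subgroup G) ∣ Nat.card G := by
    refine dvd_trans ?_ (Subgroup.card_subgroup_dvd_card (Nz t))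
    rw [card_Nz hct hna ht, hk, mul_assoc]
    exact Nat.mul_dvd_mul_left 2 (Dvd.dvd.mul_left (Subgroup.card_dvd_of_le hS) k)
  have h2 := S.not_dvd_index
  apply h2
  rw [← (S : Subgroup G).card_mul_index, mul_comm 2] at h1
  exact Nat.dvd_of_mul_dvd_mul_left Nat.card_pos h1

theorem mem_Cz_of_sq {t h : G} (ht : orderOf t = 2) (hh : h ∈ Nz t) (h2 : h * h ∈ Cz t) : h ∈ Cz t := by
  obtain ⟨k, hk⟩ := invs_odd hct hna ht
  set A' := (Cz t).subgroupOf (Nz t) with hA'
  haveI : A'.Normal := Subgroup.normal_in_normalizer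
  have hidx : A'.index = (invs t).card := by
    have h1 := A'.card_mul_index
    rw [Nat.card_congr (Subgroup.subgroupOfEquivOfLe (Cz_le_Nz t)).toEquiv, card_Nz hct hna ht,
      mul_comm (invs t).card] at h1
    exact Nat.eq_of_mul_eq_mul_left Nat.card_pos h1
  have h3 := Subgroup.pow_index_mem A' (⟨h, hh⟩ : Nz t)
  rw [hidx, hk, pow_succ, pow_mul] at h3
  have h4 : ((⟨h, hh⟩ : Nz t) ^ 2) ^ k ∈ A' := A'.pow_mem (show ((⟨h, hh⟩ : Nz t) ^ 2) ∈ A' by
    rw [hA', Subgroup.mem_subgroupOf]; simpa [pow_two] using h2) k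
  exact (A'.mul_mem_cancel_left h4).mp h3

theorem mem_Cz_of_involution {t v : G} (ht : orderOf t = 2) (hv : orderOf v = 2) (hvN : v ∈ Nz t) : v ∈ Cz t :=
  mem_Cz_of_sq hct hna ht hvN (by rw [(inv2 hv).2.2]; exact (Cz t).one_mem)

theorem invs_one_lt {t : G} (ht : orderOf t = 2) : 1 < (invs t).card := by
  haveI : Fact (Nat.Prime 2) := ⟨Nat.prime_two⟩
  obtain ⟨ht1, -, -⟩ := inv2 ht
  have hpos : 0 < (invs t).card := card_pos.mpr ⟨t, mem_filter.mpr ⟨mem_univ _, ht, mem_Cz.mpr rfl⟩⟩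
  by_contra hle
  have h1 : (invs t).card = 1 := by omega
  obtain ⟨S, hS, htS⟩ := exists_sylow_le hct hna ht
  have hNC : Subgroup.normalizer ((S : Subgroup G) : Set G) ≤ Subgroup.centralizer ((S : Subgroup G) : Set G) := by
    intro g hg
    have hgN : g ∈ Nz t := mem_Nz_of_conj hct ht1 (mem_Cz.mpr rfl) ht1
      (hS ((Subgroup.mem_normalizer_iff.mp hg t).mp htS))
    have e : Nz t = Cz t := (Subgroup.eq_of_le_of_card_ge (Cz_le_Nz t) (by rw [card_Nz hct hna ht, h1, one_mul])).symm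
    rw [e] at hgN
    exact Subgroup.mem_centralizer_iff.mpr fun s hs =>
      hct t s g ht1 (mem_Cz.mp (hS hs)).symm (mem_Cz.mp hgN).symm
  have hcomp := MonoidHom.ker_transferSylow_isComplement' S hNC
  rcases (MonoidHom.normal_ker (MonoidHom.transferSylow S hNC)).eq_bot_or_eq_top with e | e <;> rw [e] at hcomp
  · have hT : (S : Subgroup G) = ⊤ := Subgroup.isComplement'_bot_left.mp hcomp
    exact not_central hct hna ht1 (top_le_iff.mp (hT ▸ hS))
  · have hb : (S : Subgroup G) = ⊥ := Subgroup.isComplement'_top_left.mp hcomp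
    exact ht1 (Subgroup.mem_bot.mp (hb ▸ htS))

variable {t₀ : G} (ht₀ : orderOf t₀ = 2)
include ht₀

omit hct hna ht₀ in
theorem mk_fixed_iff (g v : G) :
    v • (QuotientGroup.mk g : G ⧸ Nz t₀) = QuotientGroup.mk g ↔ g⁻¹ * v * g ∈ Nz t₀ := by
  rw [Quotient.smul_mk, QuotientGroup.eq, smul_eq_mul, ← (Nz t₀).inv_mem_iff]
  simp [mul_assoc]

theorem involution_fixed {g v : G} (hv : orderOf v = 2) :
    v • (QuotientGroup.mk g : G ⧸ Nz t₀) = QuotientGroup.mk g ↔ g⁻¹ * v * g ∈ invs t₀ := by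
  have ho : orderOf (g⁻¹ * v * g) = 2 := by
    rw [← hv]
    have := orderOf_injective (MulAut.conj g⁻¹).toMonoidHom (MulAut.conj g⁻¹).injective v
    simpa using this
  rw [mk_fixed_iff]
  exact ⟨fun h => mem_filter.mpr ⟨mem_univ _, ho, mem_Cz_of_involution hct hna ht₀ ho h⟩,
    fun h => Cz_le_Nz t₀ (mem_filter.mp h).2.2⟩

theorem fixed_unique {v : G} (hv : orderOf v = 2) {X Y : G ⧸ Nz t₀} (hX : v • X = X) (hY : v • Y = Y) : X = Y := by
  obtain ⟨g, rfl⟩ := QuotientGroup.mk_surjective X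
  obtain ⟨h, rfl⟩ := QuotientGroup.mk_surjective Y
  obtain ⟨ht1, -, -⟩ := inv2 ht₀
  have h1 := (mem_filter.mp ((involution_fixed hct hna ht₀ hv).mp hX)).2
  have h2 := (mem_filter.mp ((involution_fixed hct hna ht₀ hv).mp hY)).2
  rw [QuotientGroup.eq]
  have e : (h⁻¹ * g) * (g⁻¹ * v * g) * (h⁻¹ * g)⁻¹ = h⁻¹ * v * h := by group
  have := mem_Nz_of_conj hct ht1 h1.2 (inv2 h1.1).1 (g := h⁻¹ * g) (by rw [e]; exact h2.2)
  simpa using (Nz t₀).inv_mem this

theorem card_fixing (X : G ⧸ Nz t₀) :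
    (univ.filter fun v : G => orderOf v = 2 ∧ v • X = X).card = (invs t₀).card := by
  obtain ⟨g, rfl⟩ := QuotientGroup.mk_surjective X
  refine card_bij (fun v _ => g⁻¹ * v * g) ?_ (fun a _ b _ e => mul_left_cancel (mul_right_cancel e)) ?_
  · intro v hv
    obtain ⟨h1, h2⟩ := (mem_filter.mp hv).2
    exact (involution_fixed hct hna ht₀ h1).mp h2
  · intro w hw
    have ho : orderOf (g * w * g⁻¹) = 2 := by
      rw [← (mem_filter.mp hw).2.1]
      exact orderOf_injective (MulAut.conj g).toMonoidHom (MulAut.conj g).injective w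
    have e : g⁻¹ * (g * w * g⁻¹) * g = w := by group
    exact ⟨g * w * g⁻¹, mem_filter.mpr ⟨mem_univ _, ho, (involution_fixed hct hna ht₀ ho).mpr (e.symm ▸ hw)⟩, e⟩

/-- The stabilizer of two points. -/
abbrev Hst (X Y : G ⧸ Nz t₀) : Subgroup G := stabilizer G X ⊓ stabilizer G Y

omit hct hna ht₀ in
theorem stab_base : stabilizer G (QuotientGroup.mk (1 : G) : G ⧸ Nz t₀) = Nz t₀ := by
  ext v; rw [mem_stabilizer_iff, mk_fixed_iff]; simp

omit hct hna ht₀ in
theorem mem_stab_base {g : G} :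
    g ∈ stabilizer G (QuotientGroup.mk (1 : G) : G ⧸ Nz t₀) ↔ g ∈ Nz t₀ := by rw [stab_base]

omit hct hna ht₀ in
theorem card_filter_mem (M : Subgroup G) : (univ.filter fun g : G => g ∈ M).card = Nat.card M := by
  rw [Nat.card_eq_fintype_card, Fintype.card_subtype]

theorem Cz_free {Y : G ⧸ Nz t₀} (hY : Y ≠ QuotientGroup.mk 1) {x : G} (hx : x ∈ Cz t₀) (hxY : x • Y = Y) :
    x = 1 := by
  obtain ⟨g, rfl⟩ := QuotientGroup.mk_surjective Y
  obtain ⟨ht1, -, -⟩ := inv2 ht₀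
  by_contra hx1
  set y := g⁻¹ * x * g with hy
  have hyN : y ∈ Nz t₀ := (mk_fixed_iff g x).mp hxY
  have hy1 : y ≠ 1 := fun e => hx1 (by
    rw [hy] at e
    calc x = g * (g⁻¹ * x * g) * g⁻¹ := by group
      _ = 1 := by rw [e]; group)
  have hfree : ∀ z : G, z ∈ Cz t₀ → y * z * y⁻¹ = z → z = 1 := by
    intro z hz hzy
    by_contra hz1
    have hyA : y ∈ Cz t₀ := by
      rw [← Cz_eq hct ht1 hz hz1, mem_Cz]
      exact (mul_inv_eq_iff_eq_mul.mp hzy).symm
    apply hY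
    rw [QuotientGroup.eq, mul_one]
    refine (Nz t₀).inv_mem (mem_Nz_of_conj hct ht1 hyA hy1 ?_)
    rw [hy, show g * (g⁻¹ * x * g) * g⁻¹ = x by group]
    exact hx
  obtain ⟨p, hp, hpdvd⟩ := Nat.exists_prime_and_dvd (fun e => hy1 (orderOf_eq_one_iff.mp e) : orderOf y ≠ 1)
  haveI := Fact.mk hp
  have hyx : orderOf y = orderOf x := by
    rw [hy]
    have := orderOf_injective (MulAut.conj g⁻¹).toMonoidHom (MulAut.conj g⁻¹).injective x
    simpa using this
  have hpA : p ∣ Nat.card (Cz t₀) := hpdvd.trans (hyx ▸ Subgroup.orderOf_dvd_natCard _ hx)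
  set y' := y ^ (orderOf y / p) with hy'
  have hy'o : orderOf y' = p := orderOf_pow_orderOf_div (orderOf_pos y).ne' hpdvd
  have hy'N : y' ∈ Nz t₀ := (Nz t₀).pow_mem hyN _
  have hy'1 : y' ≠ 1 := fun e => by rw [e, orderOf_one] at hy'o; exact hp.ne_one hy'o.symm
  have hfree' : ∀ z : G, z ∈ Cz t₀ → y' * z * y'⁻¹ = z → z = 1 := by
    intro z hz hzy
    by_contra hz1
    have hy'A : y' ∈ Cz t₀ := by
      rw [← Cz_eq hct ht1 hz hz1, mem_Cz]
      exact (mul_inv_eq_iff_eq_mul.mp hzy).symm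
    have hyA : y ∈ Cz t₀ := by
      rw [← Cz_eq hct ht1 hy'A hy'1, mem_Cz, hy']
      exact (Commute.pow_self y _).eq
    exact hz1 (hfree z hz (mul_inv_eq_iff_eq_mul.mpr (hct t₀ y z ht1 (mem_Cz.mp hyA).symm (mem_Cz.mp hz).symm)))
  let P := Subgroup.zpowers y'
  have hP : IsPGroup p P := IsPGroup.of_card (n := 1) (by rw [Nat.card_zpowers, hy'o, pow_one])
  have hPN : P ≤ Nz t₀ := Subgroup.zpowers_le.mpr hy'N
  letI : MulAction P (Cz t₀) :=
    { smul := fun u z => ⟨u * z * (u : G)⁻¹, (Subgroup.mem_normalizer_iff.mp (hPN u.2) z).mp z.2⟩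
      one_smul := fun z => Subtype.ext (by show (1 : G) * z * (1 : G)⁻¹ = z; simp)
      mul_smul := fun u w z => Subtype.ext (by
        show ((u * w : P) : G) * z * ((u * w : P) : G)⁻¹ = u * (w * z * (w : G)⁻¹) * (u : G)⁻¹
        simp [mul_assoc]) }
  have hfix : Nat.card (fixedPoints P (Cz t₀)) = 1 := by
    refine Nat.card_eq_one_iff_unique.mpr ⟨⟨fun a b => ?_⟩, ⟨⟨1, fun u => Subtype.ext ?_⟩⟩⟩
    · have : ∀ c : fixedPoints P (Cz t₀), ((c : Cz t₀) : G) = 1 := fun c =>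
        hfree' _ (c : Cz t₀).2 (congrArg Subtype.val (c.2 ⟨y', Subgroup.mem_zpowers y'⟩))
      exact Subtype.ext (Subtype.ext ((this a).trans (this b).symm))
    · show (u : G) * ((1 : Cz t₀) : G) * (u : G)⁻¹ = ((1 : Cz t₀) : G)
      simp
  have hmod := hP.card_modEq_card_fixedPoints (Cz t₀)
  rw [hfix] at hmod
  unfold Nat.ModEq at hmod
  rw [Nat.mod_eq_zero_of_dvd hpA, Nat.mod_eq_of_lt hp.one_lt] at hmod
  exact absurd hmod (by omega)

omit hna ht₀ in
theorem card_le_of_inter (M : Subgroup G) (t : G) (hM : M ≤ Nz t) (h : ∀ x ∈ M, x ∈ Cz t → x = 1) :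
    Nat.card M * Nat.card (Cz t) ≤ Nat.card (Nz t) := by
  rw [← Nat.card_prod]
  refine Nat.card_le_card_of_injective
    (fun p : M × Cz t => (⟨p.1 * p.2, (Nz t).mul_mem (hM p.1.2) (Cz_le_Nz t p.2.2)⟩ : Nz t)) ?_
  rintro ⟨a, b⟩ ⟨a', b'⟩ e
  have e' : (a : G) * b = a' * b' := congrArg Subtype.val e
  have h1 : (a' : G)⁻¹ * a = b' * (b : G)⁻¹ := by
    rw [eq_mul_inv_iff_mul_eq, mul_assoc, e', inv_mul_cancel_left]
  have h2 := h _ (M.mul_mem (M.inv_mem a'.2) a.2) (h1 ▸ (Cz t).mul_mem b'.2 ((Cz t).inv_mem b.2))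
  have ha : (a : G) = a' := (inv_mul_eq_one.mp h2).symm
  refine Prod.ext (Subtype.ext ha) (Subtype.ext ?_)
  rw [ha] at e'
  exact mul_left_cancel e'

theorem Hst_le {Y : G ⧸ Nz t₀} (hY : Y ≠ QuotientGroup.mk 1) :
    Nat.card (Hst (QuotientGroup.mk 1) Y) ≤ (invs t₀).card := by
  have h := card_le_of_inter hct (Hst (QuotientGroup.mk 1) Y) t₀ (fun x hx => mem_stab_base.mp hx.1)
    fun x hx hxA => Cz_free hct hna ht₀ hY hxA (mem_stabilizer_iff.mp hx.2)
  rw [card_Nz hct hna ht₀] at h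
  exact Nat.le_of_mul_le_mul_right h Nat.card_pos

/-- The involutions moving `X` to `Y`. -/
noncomputable def swaps (X Y : G ⧸ Nz t₀) : Finset G := univ.filter fun v => orderOf v = 2 ∧ v • X = Y

theorem base_pair {Y : G ⧸ Nz t₀} (hY : Y ≠ QuotientGroup.mk 1) :
    Nat.card (Hst (QuotientGroup.mk 1) Y) = (invs t₀).card ∧
      (swaps (QuotientGroup.mk 1) Y).card = (invs t₀).card ∧
      ∀ v ∈ swaps (QuotientGroup.mk 1) Y, ∀ h ∈ Hst (QuotientGroup.mk 1) Y, v * h * v⁻¹ = h⁻¹ := by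
  set x0 : G ⧸ Nz t₀ := QuotientGroup.mk 1 with hx0
  -- each fibre is small
  have hprod : ∀ Z, Z ≠ x0 → ∀ v ∈ swaps x0 Z, ∀ w ∈ swaps x0 Z,
      v * w ∈ Hst x0 Z ∧ v * (v * w) * v⁻¹ = (v * w)⁻¹ := by
    intro Z _ v hv w hw
    obtain ⟨hvo, hvX⟩ := (mem_filter.mp hv).2
    obtain ⟨hwo, hwX⟩ := (mem_filter.mp hw).2
    obtain ⟨-, hvi, hvv⟩ := inv2 hvo
    obtain ⟨-, hwi, hww⟩ := inv2 hwo
    have hvZ : v • Z = x0 := by rw [← hvX, ← mul_smul, hvv, one_smul]
    have hwZ : w • Z = x0 := by rw [← hwX, ← mul_smul, hww, one_smul]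
    refine ⟨⟨mem_stabilizer_iff.mpr (by rw [mul_smul, hwX, hvZ]), mem_stabilizer_iff.mpr (by rw [mul_smul, hwZ, hvX])⟩, ?_⟩
    rw [← mul_assoc v v, hvv, one_mul, mul_inv_rev, hwi]
  have hle : ∀ Z, Z ≠ x0 → (swaps x0 Z).card ≤ Nat.card (Hst x0 Z) := by
    intro Z hZ
    rcases (swaps x0 Z).eq_empty_or_nonempty with e | ⟨v, hv⟩
    · rw [e]; simp
    rw [Nat.card_eq_fintype_card, Fintype.card_subtype]
    refine card_le_card_of_injOn (fun w => v * w) (fun w hw => ?_) fun a _ b _ e => mul_left_cancel e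
    exact mem_coe.mpr (mem_filter.mpr ⟨mem_univ _, (hprod Z hZ v hv w hw).1⟩)
  -- the total
  set J := univ.filter fun v : G => orderOf v = 2 with hJ
  have hJcard : J.card = Fintype.card (G ⧸ Nz t₀) * (invs t₀).card := by
    have hone : ∀ v ∈ J, ∃ X : G ⧸ Nz t₀, v • X = X := by
      intro v hv
      obtain ⟨g, hg⟩ := isConj_involutions hct hna ht₀ (mem_filter.mp hv).2
      refine ⟨QuotientGroup.mk g, (mk_fixed_iff g v).mpr ?_⟩
      rw [← hg, show g⁻¹ * (g * t₀ * g⁻¹) * g = t₀ by group]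
      exact Cz_le_Nz t₀ (mem_Cz.mpr rfl)
    choose! φ hφ using hone
    rw [card_eq_sum_card_fiberwise (f := φ) (t := univ) fun v _ => mem_univ _,
      sum_congr rfl fun X _ => ?_, sum_const, card_univ, smul_eq_mul]
    rw [← card_fixing hct hna ht₀ X]
    congr 1
    ext v
    simp only [hJ, mem_filter, mem_univ, true_and]
    constructor
    · rintro ⟨h1, rfl⟩; exact ⟨h1, hφ v (mem_filter.mpr ⟨mem_univ _, h1⟩)⟩
    · rintro ⟨h1, h2⟩
      exact ⟨h1, fixed_unique hct hna ht₀ h1 (hφ v (mem_filter.mpr ⟨mem_univ _, h1⟩)) h2⟩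
  have hJsum : J.card = ∑ Z : G ⧸ Nz t₀, (swaps x0 Z).card := by
    rw [card_eq_sum_card_fiberwise (f := fun v : G => v • x0) (t := univ) fun v _ => mem_univ _]
    refine sum_congr rfl fun Z _ => congrArg Finset.card ?_
    ext v; simp [hJ, swaps]
  have hbase : (swaps x0 x0).card = (invs t₀).card := card_fixing hct hna ht₀ x0
  have hsum : ∑ Z ∈ univ.erase x0, (swaps x0 Z).card = ∑ _Z ∈ univ.erase x0, (invs t₀).card := by
    have := add_sum_erase univ (fun Z => (swaps x0 Z).card) (mem_univ x0)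
    rw [hbase, ← hJsum, hJcard] at this
    rw [sum_const, card_erase_of_mem (mem_univ x0), card_univ, smul_eq_mul, Nat.sub_mul, one_mul]
    omega
  have hall := (sum_eq_sum_iff_of_le fun Z hZ => (hle Z (mem_erase.mp hZ).1).trans
    (Hst_le hct hna ht₀ (mem_erase.mp hZ).1)).mp hsum Y (mem_erase.mpr ⟨hY, mem_univ Y⟩)
  have hH : Nat.card (Hst x0 Y) = (invs t₀).card :=
    le_antisymm (Hst_le hct hna ht₀ hY) (hall ▸ hle Y hY)
  refine ⟨hH, hall, fun v hv h hh => ?_⟩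
  have himg : (swaps x0 Y).image (fun w => v * w) = univ.filter fun x : G => x ∈ Hst x0 Y := by
    refine eq_of_subset_of_card_le ?_ ?_
    · intro x hx
      obtain ⟨w, hw, rfl⟩ := mem_image.mp hx
      exact mem_filter.mpr ⟨mem_univ _, (hprod Y hY v hv w hw).1⟩
    · rw [card_image_of_injective _ (mul_right_injective v), hall, ← hH, Nat.card_eq_fintype_card,
        Fintype.card_subtype]
  obtain ⟨w, hw, rfl⟩ := mem_image.mp (himg.symm ▸ mem_filter.mpr ⟨mem_univ h, hh⟩ :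
    h ∈ (swaps x0 Y).image fun w => v * w)
  exact (hprod Y hY v hv w hw).2

theorem pair {X Y : G ⧸ Nz t₀} (hXY : X ≠ Y) :
    Nat.card (Hst X Y) = (invs t₀).card ∧ (swaps X Y).card = (invs t₀).card ∧
      ∀ v ∈ swaps X Y, ∀ h ∈ Hst X Y, v * h * v⁻¹ = h⁻¹ := by
  obtain ⟨g, rfl⟩ := QuotientGroup.mk_surjective X
  set Y' := g⁻¹ • Y with hY'
  have hgx : g • (QuotientGroup.mk 1 : G ⧸ Nz t₀) = QuotientGroup.mk g := by
    rw [Quotient.smul_mk, smul_eq_mul, mul_one]
  have hY'ne : Y' ≠ QuotientGroup.mk 1 := fun e => hXY (by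
    rw [← hgx, ← e, hY', smul_inv_smul])
  obtain ⟨h1, h2, h3⟩ := base_pair hct hna ht₀ hY'ne
  have hmemH : ∀ h : G, h ∈ Hst (QuotientGroup.mk g) Y ↔ g⁻¹ * h * g ∈ Hst (QuotientGroup.mk 1) Y' := by
    intro h
    simp only [Subgroup.mem_inf, mem_stabilizer_iff, mul_smul, hgx, hY', smul_inv_smul, inv_smul_eq_iff]
  have hswap : ∀ v : G, v ∈ swaps (QuotientGroup.mk g) Y ↔ g⁻¹ * v * g ∈ swaps (QuotientGroup.mk 1) Y' := by
    intro v
    have ho : orderOf (g⁻¹ * v * g) = orderOf v := by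
      have := orderOf_injective (MulAut.conj g⁻¹).toMonoidHom (MulAut.conj g⁻¹).injective v
      simpa using this
    simp only [swaps, mem_filter, mem_univ, true_and, ho, mul_smul, hgx, hY', smul_left_cancel_iff]
  refine ⟨?_, ?_, fun v hv h hh => ?_⟩
  · rw [← h1]
    refine Nat.card_congr
      { toFun := fun h => ⟨g⁻¹ * h * g, (hmemH h).mp h.2⟩
        invFun := fun h => ⟨g * h * g⁻¹, (hmemH _).mpr (by simpa [mul_assoc] using h.2)⟩
        left_inv := fun h => Subtype.ext (by simp [mul_assoc])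
        right_inv := fun h => Subtype.ext (by simp [mul_assoc]) }
  · rw [← h2]
    refine card_bij (fun v _ => g⁻¹ * v * g) (fun v hv => (hswap v).mp hv)
      (fun a _ b _ e => mul_left_cancel (mul_right_cancel e)) fun w hw =>
        ⟨g * w * g⁻¹, (hswap _).mpr (by simpa [mul_assoc] using hw), by group⟩
  · have := h3 _ ((hswap v).mp hv) _ ((hmemH h).mp hh)
    calc v * h * v⁻¹ = g * ((g⁻¹ * v * g) * (g⁻¹ * h * g) * (g⁻¹ * v * g)⁻¹) * g⁻¹ := by group
      _ = h⁻¹ := by rw [this]; group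

theorem Hst_comm {X Y : G ⧸ Nz t₀} (hXY : X ≠ Y) {a b : G} (ha : a ∈ Hst X Y) (hb : b ∈ Hst X Y) :
    a * b = b * a := by
  obtain ⟨-, h2, h3⟩ := pair hct hna ht₀ hXY
  obtain ⟨v, hv⟩ : (swaps X Y).Nonempty := card_pos.mp (by have := invs_one_lt hct hna ht₀; omega)
  have h := h3 v hv (a * b) ((Hst X Y).mul_mem ha hb)
  rw [show v * (a * b) * v⁻¹ = (v * a * v⁻¹) * (v * b * v⁻¹) by group, h3 v hv a ha, h3 v hv b hb,
    mul_inv_rev] at h
  simpa [mul_inv_rev] using (congrArg (·⁻¹) h).symm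

theorem exists_ne_one_Hst {X Y : G ⧸ Nz t₀} (hXY : X ≠ Y) : ∃ h ∈ Hst X Y, h ≠ 1 := by
  have h1 := (pair hct hna ht₀ hXY).1
  by_contra hcon
  push Not at hcon
  rw [(Subgroup.eq_bot_iff_forall _).mpr hcon, Subgroup.card_bot] at h1
  have := invs_one_lt hct hna ht₀
  omega

theorem inter_normalizer {Y : G ⧸ Nz t₀} (hY : Y ≠ QuotientGroup.mk 1) {x : G} (hx : x ∈ Cz t₀)
    (hxn : x ∈ Subgroup.normalizer ((Hst (QuotientGroup.mk 1) Y : Subgroup G) : Set G)) : x = 1 := by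
  by_contra hx1
  obtain ⟨h, hh, hh1⟩ := exists_ne_one_Hst hct hna ht₀ hY.symm
  have h2 := (Subgroup.mem_normalizer_iff.mp hxn h).mp hh
  have hhN : h ∈ Nz t₀ := mem_stab_base.mp hh.1
  have hA : x * h * x⁻¹ * h⁻¹ ∈ Cz t₀ := by
    have := (Subgroup.mem_normalizer_iff.mp hhN x⁻¹).mp ((Cz t₀).inv_mem hx)
    have := (Cz t₀).mul_mem hx this
    simpa [mul_assoc] using this
  have e := Cz_free hct hna ht₀ hY hA
    (mem_stabilizer_iff.mp ((Hst _ Y).mul_mem h2 ((Hst _ Y).inv_mem hh)).2)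
  have hcomm : x * h = h * x := mul_inv_eq_iff_eq_mul.mp (mul_inv_eq_one.mp e)
  have hhA : h ∈ Cz t₀ := by
    rw [← Cz_eq hct (inv2 ht₀).1 hx hx1, mem_Cz]; exact hcomm
  exact hh1 (Cz_free hct hna ht₀ hY hhA (mem_stabilizer_iff.mp hh.2))

/-- A two-point stabilizer fixes only two points. -/
theorem fixed_two {Y : G ⧸ Nz t₀} (hY : Y ≠ QuotientGroup.mk 1) (Z : G ⧸ Nz t₀)
    (hZ : ∀ h ∈ Hst (QuotientGroup.mk 1) Y, h • Z = Z) : Z = QuotientGroup.mk 1 ∨ Z = Y := by
  set x0 : G ⧸ Nz t₀ := QuotientGroup.mk 1 with hx0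
  set H := Hst x0 Y with hH
  set d := (invs t₀).card with hd
  set F := univ.filter fun W : G ⧸ Nz t₀ => ∀ h ∈ H, h • W = W with hF
  have hHF : ∀ W ∈ F, ∀ W' ∈ F, W ≠ W' → Hst W W' = H := by
    intro W hW W' hW' hne
    refine (Subgroup.eq_of_le_of_card_ge (fun h hh => Subgroup.mem_inf.mpr ⟨mem_stabilizer_iff.mpr ((mem_filter.mp hW).2 h hh),
      mem_stabilizer_iff.mpr ((mem_filter.mp hW').2 h hh)⟩) (le_of_eq ?_)).symm
    rw [(pair hct hna ht₀ hne).1, (pair hct hna ht₀ hY.symm).1]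
  set J := univ.filter fun v : G => orderOf v = 2 ∧ ∀ h ∈ H, v * h * v⁻¹ = h⁻¹ with hJ
  have hJF : ∀ v ∈ J, ∀ W ∈ F, v • W ∈ F ∧ v • W ≠ W := by
    intro v hv W hW
    obtain ⟨hvo, hvinv⟩ := (mem_filter.mp hv).2
    obtain ⟨-, hvi, hvv⟩ := inv2 hvo
    refine ⟨mem_filter.mpr ⟨mem_univ _, fun h hh => ?_⟩, fun e => ?_⟩
    · have e : h * v = v * h⁻¹ := by
        rw [← hvinv h hh, hvi, ← mul_assoc, ← mul_assoc, hvv, one_mul]
      rw [← mul_smul, e, mul_smul, inv_smul_eq_iff.mpr ((mem_filter.mp hW).2 h hh).symm]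
    · obtain ⟨g, rfl⟩ := QuotientGroup.mk_surjective W
      obtain ⟨h, hh, hh1⟩ := exists_ne_one_Hst hct hna ht₀ hY.symm
      have hv' := (mem_filter.mp ((involution_fixed hct hna ht₀ hvo).mp e)).2.2
      set h' := g⁻¹ * h * g with hh'
      have hN : h' ∈ Nz t₀ := (mk_fixed_iff g h).mp ((mem_filter.mp hW).2 h hh)
      have hsq : h' * h' ∈ Cz t₀ := by
        have a := (Subgroup.mem_normalizer_iff.mp hN (g⁻¹ * v * g)).mp hv'
        have b := (Cz t₀).mul_mem a ((Cz t₀).inv_mem hv')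
        have e' : h' * (g⁻¹ * v * g) * h'⁻¹ * (g⁻¹ * v * g)⁻¹ = h' * h' := by
          rw [hh', show g⁻¹ * h * g * (g⁻¹ * v * g) * (g⁻¹ * h * g)⁻¹ * (g⁻¹ * v * g)⁻¹ =
            g⁻¹ * h * (v * h * v⁻¹)⁻¹ * g by group, hvinv h hh, inv_inv]
          group
        rwa [e'] at b
      have hA' := mem_Cz_of_sq hct hna ht₀ hN hsq
      obtain ⟨Z', hZ', hZne⟩ : ∃ Z' ∈ F, Z' ≠ (QuotientGroup.mk g : G ⧸ Nz t₀) := by
        by_cases hg : (QuotientGroup.mk g : G ⧸ Nz t₀) = x0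
        · exact ⟨Y, mem_filter.mpr ⟨mem_univ _, fun h hh => mem_stabilizer_iff.mp hh.2⟩, by rw [hg]; exact hY⟩
        · exact ⟨x0, mem_filter.mpr ⟨mem_univ _, fun h hh => mem_stabilizer_iff.mp hh.1⟩, Ne.symm hg⟩
      have hgne : g⁻¹ • Z' ≠ QuotientGroup.mk 1 := fun e' => hZne (by
        rw [inv_smul_eq_iff.mp e', Quotient.smul_mk, smul_eq_mul, mul_one])
      have h4 := Cz_free hct hna ht₀ hgne hA' (by
        rw [hh', mul_smul, mul_smul, smul_inv_smul, (mem_filter.mp hZ').2 h hh])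
      exact hh1 (by
        calc h = g * h' * g⁻¹ := by rw [hh']; group
          _ = 1 := by rw [h4]; group)
  have hx0F : x0 ∈ F := mem_filter.mpr ⟨mem_univ _, fun h hh => mem_stabilizer_iff.mp hh.1⟩
  have hJc : J.card = (F.card - 1) * d := by
    rw [card_eq_sum_card_fiberwise (f := fun v : G => v • x0) (t := F.erase x0)
      fun v hv => mem_erase.mpr ⟨(hJF v hv x0 hx0F).2, (hJF v hv x0 hx0F).1⟩,
      sum_congr rfl fun W hW => ?_, sum_const, card_erase_of_mem hx0F, smul_eq_mul]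
    obtain ⟨hne, hWF⟩ := mem_erase.mp hW
    obtain ⟨-, h2, h3⟩ := pair hct hna ht₀ (Ne.symm hne)
    rw [hd, ← h2]
    congr 1
    ext v
    simp only [hJ, swaps, mem_filter, mem_univ, true_and]
    exact ⟨fun h => ⟨h.1.1, h.2⟩, fun h => ⟨⟨h.1, fun k hk => h3 v (mem_filter.mpr ⟨mem_univ _, h⟩) k
      (by rw [hHF x0 hx0F W hWF (Ne.symm hne)]; exact hk)⟩, h.2⟩⟩
  -- the normalizer of `H`
  set NH := Subgroup.normalizer ((H : Subgroup G) : Set G) with hNH
  have hJN : ∀ v ∈ J, v ∈ NH := by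
    intro v hv
    obtain ⟨hvo, hvinv⟩ := (mem_filter.mp hv).2
    obtain ⟨-, hvi, hvv⟩ := inv2 hvo
    refine Subgroup.mem_normalizer_iff.mpr fun h => ⟨fun hh => hvinv h hh ▸ H.inv_mem hh, fun hh => ?_⟩
    have := hvinv _ hh
    rw [hvi, show v * (v * h * v) * v = (v * v) * h * (v * v) by group, hvv, one_mul, mul_one] at this
    rw [this]
    have := H.inv_mem hh
    rwa [hvi] at this
  obtain ⟨u, hu⟩ : J.Nonempty := card_pos.mp (by
    rw [hJc]
    have h1 : 1 < F.card := one_lt_card.mpr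
      ⟨x0, hx0F, Y, mem_filter.mpr ⟨mem_univ _, fun h hh => mem_stabilizer_iff.mp hh.2⟩, hY.symm⟩
    exact Nat.mul_pos (by omega) (by have := invs_one_lt hct hna ht₀; omega))
  set NHf := univ.filter fun g : G => g ∈ NH with hNHf
  have hge : 2 * J.card ≤ NHf.card := by
    have hdisj : Disjoint J (J.image fun v => v * u) := by
      refine disjoint_left.mpr fun w hw hw' => ?_
      obtain ⟨v, hv, rfl⟩ := mem_image.mp hw'
      obtain ⟨h, hh, hh1⟩ := exists_ne_one_Hst hct hna ht₀ hY.symm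
      obtain ⟨-, hvinv⟩ := (mem_filter.mp hv).2
      obtain ⟨-, huinv⟩ := (mem_filter.mp hu).2
      have e1 := (mem_filter.mp hw).2.2 h hh
      rw [show v * u * h * (v * u)⁻¹ = v * (u * h * u⁻¹) * v⁻¹ by group, huinv h hh,
        show v * h⁻¹ * v⁻¹ = (v * h * v⁻¹)⁻¹ by group, hvinv h hh, inv_inv] at e1
      have hsq : h * h ∈ Cz t₀ := by
        have e2 : h * h = 1 := by
          calc h * h = h * h⁻¹ := by rw [← e1]
            _ = 1 := mul_inv_cancel h
        rw [e2]; exact (Cz t₀).one_mem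
      exact hh1 (Cz_free hct hna ht₀ hY (mem_Cz_of_sq hct hna ht₀ (mem_stab_base.mp hh.1) hsq)
        (mem_stabilizer_iff.mp hh.2))
    rw [two_mul]
    nth_rw 2 [← card_image_of_injective J (mul_left_injective u)]
    rw [← card_union_of_disjoint hdisj]
    refine card_le_card fun w hw => mem_filter.mpr ⟨mem_univ _, ?_⟩
    rcases mem_union.mp hw with h | h
    · exact hJN w h
    · obtain ⟨v, hv, rfl⟩ := mem_image.mp h
      exact NH.mul_mem (hJN v hv) (hJN u hu)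
  have hle : NHf.card ≤ F.card * d := by
    rw [card_eq_sum_card_fiberwise (f := fun g : G => g • x0) (t := F) fun g hg =>
      mem_filter.mpr ⟨mem_univ _, fun h hh => ?_⟩]
    swap
    · have h1 : g⁻¹ * h * g ∈ H := by
        have := (Subgroup.mem_normalizer_iff.mp (NH.inv_mem (mem_filter.mp hg).2) h).mp hh
        simpa using this
      have h2 := mem_stabilizer_iff.mp h1.1
      rw [mul_smul, mul_smul, inv_smul_eq_iff] at h2
      exact h2
    rw [← smul_eq_mul]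
    refine sum_le_card_nsmul _ _ _ fun W _ => ?_
    rcases (NHf.filter fun g => g • x0 = W).eq_empty_or_nonempty with e | ⟨g₀, hg₀⟩
    · rw [e]; simp
    obtain ⟨hg₀N, hg₀W⟩ := mem_filter.mp hg₀
    have hcard : Nat.card ↥(NH ⊓ Nz t₀) ≤ d := by
      have h := card_le_of_inter hct (NH ⊓ Nz t₀) t₀ inf_le_right
        fun x hx hxA => inter_normalizer hct hna ht₀ hY hxA hx.1
      rw [card_Nz hct hna ht₀] at h
      exact Nat.le_of_mul_le_mul_right h Nat.card_pos
    refine le_trans ?_ hcard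
    rw [Nat.card_eq_fintype_card, Fintype.card_subtype]
    refine card_le_card_of_injOn (fun g => g₀⁻¹ * g) (fun g hg => ?_) fun a _ b _ e => mul_left_cancel e
    obtain ⟨hgN, hgW⟩ := mem_filter.mp hg
    refine mem_coe.mpr (mem_filter.mpr ⟨mem_univ _, Subgroup.mem_inf.mpr
      ⟨NH.mul_mem (NH.inv_mem (mem_filter.mp hg₀N).2) (mem_filter.mp hgN).2, mem_stab_base.mp ?_⟩⟩)
    show (g₀⁻¹ * g) • x0 = x0
    rw [mul_smul, hgW, inv_smul_eq_iff, hg₀W]
  rw [hJc] at hge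
  have hF2 : F.card ≤ 2 := by
    have hd0 : 0 < d := by have := invs_one_lt hct hna ht₀; omega
    have h1 : 2 * (F.card - 1) * d ≤ F.card * d := by rw [mul_assoc]; exact hge.trans hle
    have := Nat.le_of_mul_le_mul_right h1 hd0
    omega
  by_contra hcon
  push Not at hcon
  have hsub : ({x0, Y, Z} : Finset (G ⧸ Nz t₀)) ⊆ F := by
    intro W hW
    simp only [mem_insert, mem_singleton] at hW
    rcases hW with e | e | e <;> rw [e]
    · exact hx0F
    · exact mem_filter.mpr ⟨mem_univ _, fun h hh => mem_stabilizer_iff.mp hh.2⟩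
    · exact mem_filter.mpr ⟨mem_univ _, hZ⟩
  have := (card_le_card hsub).trans hF2
  rw [card_eq_three.mpr ⟨x0, Y, Z, hY.symm, hcon.1.symm, hcon.2.symm, rfl⟩] at this
  omega

theorem base_three {Y Z : G ⧸ Nz t₀} (hY : Y ≠ QuotientGroup.mk 1) (hZ : Z ≠ QuotientGroup.mk 1)
    {h : G} (hh : h ∈ Hst (QuotientGroup.mk 1) Y) (hh' : h ∈ Hst (QuotientGroup.mk 1) Z) (h1 : h ≠ 1) : Y = Z := by
  have hsub : Hst (QuotientGroup.mk 1) Z ≤ Hst (QuotientGroup.mk 1) Y := by
    have hnorm : ∀ k ∈ Hst (QuotientGroup.mk 1) Z, k ∈ Subgroup.normalizer ((Hst (QuotientGroup.mk 1) Y : Subgroup G) : Set G) := by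
      intro k hk
      refine Subgroup.mem_normalizer_iff.mpr fun x => ?_
      have hkh := Hst_comm hct hna ht₀ hZ.symm hk hh'
      constructor
      · intro hx
        rw [hct h k x h1 hkh (Hst_comm hct hna ht₀ hY.symm hx hh), mul_inv_cancel_right]
        exact hx
      · intro hx
        have := hct h k _ h1 hkh (Hst_comm hct hna ht₀ hY.symm hx hh)
        have e : k * x * k⁻¹ = x := by
          calc k * x * k⁻¹ = k⁻¹ * (k * (k * x * k⁻¹)) := by group
            _ = k⁻¹ * ((k * x * k⁻¹) * k) := by rw [this]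
            _ = x := by group
        rwa [e] at hx
    have hHN : Hst (QuotientGroup.mk 1) Y ≤ Subgroup.normalizer ((Hst (QuotientGroup.mk 1) Y : Subgroup G) : Set G) ⊓ Nz t₀ :=
      fun x hx => ⟨Subgroup.le_normalizer hx, mem_stab_base.mp hx.1⟩
    have heq := Subgroup.eq_of_le_of_card_ge hHN (by
      rw [(pair hct hna ht₀ hY.symm).1]
      have h := card_le_of_inter hct (Subgroup.normalizer ((Hst (QuotientGroup.mk 1) Y : Subgroup G) : Set G) ⊓ Nz t₀) t₀
        inf_le_right fun x hx hxA => inter_normalizer hct hna ht₀ hY hxA hx.1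
      rw [card_Nz hct hna ht₀] at h
      exact Nat.le_of_mul_le_mul_right h Nat.card_pos)
    intro k hk
    rw [heq]
    exact ⟨hnorm k hk, mem_stab_base.mp hk.1⟩
  exact ((fixed_two hct hna ht₀ hZ Y fun k hk => mem_stabilizer_iff.mp (hsub hk).2).resolve_left hY)

theorem threeFix : PermGroups.ThreeFix G (G ⧸ Nz t₀) := by
  intro g a b c hab hbc hac ha hb hc
  by_contra hg
  obtain ⟨k, rfl⟩ := QuotientGroup.mk_surjective a
  have hkx : k • (QuotientGroup.mk 1 : G ⧸ Nz t₀) = QuotientGroup.mk k := by rw [Quotient.smul_mk, smul_eq_mul, mul_one]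
  have hmem : ∀ w, g • w = w → g • (QuotientGroup.mk k : G ⧸ Nz t₀) = QuotientGroup.mk k →
      k⁻¹ * g * k ∈ Hst (QuotientGroup.mk 1) (k⁻¹ • w) := fun w hw hk =>
    ⟨mem_stabilizer_iff.mpr (by rw [mul_smul, mul_smul, hkx, hk, ← hkx, inv_smul_smul]),
      mem_stabilizer_iff.mpr (by rw [mul_smul, mul_smul, smul_inv_smul, hw])⟩
  have hne : ∀ w, QuotientGroup.mk k ≠ w → k⁻¹ • w ≠ (QuotientGroup.mk 1 : G ⧸ Nz t₀) := fun w hw e =>
    hw (by rw [← hkx, ← e, smul_inv_smul])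
  exact hbc (smul_left_cancel k⁻¹ (base_three hct hna ht₀ (hne b hab) (hne c hac) (hmem b hb ha) (hmem c hc ha)
    (fun e => hg (by
      calc g = k * (k⁻¹ * g * k) * k⁻¹ := by group
        _ = 1 := by rw [e]; group))))

theorem regular_card :
    Fintype.card (G ⧸ Nz t₀) = Nat.card (Cz t₀) + 1 ∧
      ∀ y z : G ⧸ Nz t₀, y ≠ QuotientGroup.mk 1 → z ≠ QuotientGroup.mk 1 →
        ∃! u : Cz t₀, (u : G) • y = z := by
  set x0 : G ⧸ Nz t₀ := QuotientGroup.mk 1 with hx0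
  set d := (invs t₀).card with hd
  have hd1 := invs_one_lt hct hna ht₀
  have hAfix : ∀ x : Cz t₀, (x : G) • x0 = x0 := fun x =>
    mem_stabilizer_iff.mp (mem_stab_base.mpr (Cz_le_Nz t₀ x.2))
  -- the stabilizers fill the normalizer
  have hle : Fintype.card (G ⧸ Nz t₀) - 1 ≤ Nat.card (Cz t₀) := by
    let U := (univ.erase x0).biUnion fun Y => (univ.filter fun g : G => g ∈ Hst x0 Y).erase 1
    have hdisj : Set.PairwiseDisjoint ↑(univ.erase x0) fun Y : G ⧸ Nz t₀ => (univ.filter fun g : G => g ∈ Hst x0 Y).erase 1 := by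
      intro Y hY Z hZ hne
      refine disjoint_left.mpr fun h h1 h2 => hne ?_
      exact base_three hct hna ht₀ (mem_erase.mp hY).1 (mem_erase.mp hZ).1 (mem_filter.mp (mem_erase.mp h1).2).2
        (mem_filter.mp (mem_erase.mp h2).2).2 (mem_erase.mp h1).1
    have hU : U ⊆ (univ.filter fun g : G => g ∈ Nz t₀) \ univ.filter fun g : G => g ∈ Cz t₀ := by
      intro g hg
      obtain ⟨Y, hY, hg⟩ := mem_biUnion.mp hg
      obtain ⟨hg1, hg⟩ := mem_erase.mp hg
      have hgH := (mem_filter.mp hg).2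
      refine mem_sdiff.mpr ⟨mem_filter.mpr ⟨mem_univ _, mem_stab_base.mp hgH.1⟩, fun hA => hg1 ?_⟩
      exact Cz_free hct hna ht₀ (mem_erase.mp hY).1 (mem_filter.mp hA).2 (mem_stabilizer_iff.mp hgH.2)
    have h1 := card_le_card hU
    rw [card_biUnion hdisj, sum_congr rfl fun Y hY => ?_, sum_const, card_erase_of_mem (mem_univ x0), card_univ,
      smul_eq_mul, card_sdiff_of_subset (fun g hg => mem_filter.mpr ⟨mem_univ _, Cz_le_Nz t₀ (mem_filter.mp hg).2⟩),
      card_filter_mem, card_filter_mem, card_Nz hct hna ht₀] at h1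
    · rw [← hd] at h1 hd1
      have h2 : d * Nat.card (Cz t₀) - Nat.card (Cz t₀) = Nat.card (Cz t₀) * (d - 1) := by
        rw [Nat.mul_sub, mul_one, mul_comm]
      rw [h2] at h1
      exact Nat.le_of_mul_le_mul_right h1 (by omega)
    · rw [card_erase_of_mem (mem_filter.mpr ⟨mem_univ _, Subgroup.one_mem _⟩), card_filter_mem,
        (pair hct hna ht₀ (mem_erase.mp hY).1.symm).1]
  have hinj : ∀ y, y ≠ x0 → Function.Injective fun u : Cz t₀ => (u : G) • y := by
    intro y hy u v e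
    have := Cz_free hct hna ht₀ hy ((Cz t₀).mul_mem ((Cz t₀).inv_mem v.2) u.2)
      (by rw [mul_smul]; exact inv_smul_eq_iff.mpr e)
    exact Subtype.ext (inv_mul_eq_one.mp this).symm
  obtain ⟨y₀, hy₀⟩ : ∃ y, y ≠ x0 := by
    obtain ⟨g, hg⟩ : ∃ g : G, g ∉ Nz t₀ := by
      by_contra hcon
      push Not at hcon
      haveI : (Cz t₀).Normal := Subgroup.normalizer_eq_top_iff.mp (eq_top_iff.mpr fun g _ => hcon g)
      rcases (inferInstance : (Cz t₀).Normal).eq_bot_or_eq_top with e | e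
      · exact (inv2 ht₀).1 (Subgroup.mem_bot.mp (e ▸ mem_Cz.mpr rfl : t₀ ∈ (⊥ : Subgroup G)))
      · exact not_central hct hna (inv2 ht₀).1 e
    exact ⟨QuotientGroup.mk g, fun e => hg (by
      rw [hx0, QuotientGroup.eq, mul_one] at e; simpa using (Nz t₀).inv_mem e)⟩
  have himg : ∀ y, y ≠ x0 → (univ : Finset (Cz t₀)).image (fun u : Cz t₀ => (u : G) • y) ⊆ univ.erase x0 := by
    intro y hy w hw
    obtain ⟨u, -, rfl⟩ := mem_image.mp hw
    exact mem_erase.mpr ⟨fun e => hy (smul_left_cancel (u : G) (e.trans (hAfix u).symm)), mem_univ _⟩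
  have hcard : Fintype.card (G ⧸ Nz t₀) = Nat.card (Cz t₀) + 1 := by
    have h1 := card_le_card (himg y₀ hy₀)
    rw [card_image_of_injective _ (hinj y₀ hy₀), card_univ, card_erase_of_mem (mem_univ x0), card_univ,
      ← Nat.card_eq_fintype_card (α := Cz t₀)] at h1
    have := Nat.card_pos (α := Cz t₀)
    omega
  refine ⟨hcard, fun y z hy hz => ?_⟩
  have e : (univ : Finset (Cz t₀)).image (fun u : Cz t₀ => (u : G) • y) = univ.erase x0 := by
    refine eq_of_subset_of_card_le (himg y hy) ?_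
    rw [card_image_of_injective _ (hinj y hy), card_univ, card_erase_of_mem (mem_univ x0), card_univ,
      ← Nat.card_eq_fintype_card (α := Cz t₀), hcard]
    omega
  obtain ⟨u, -, hu⟩ := mem_image.mp (e.symm ▸ mem_erase.mpr ⟨hz, mem_univ z⟩ :
    z ∈ (univ : Finset (Cz t₀)).image fun u : Cz t₀ => (u : G) • y)
  exact ⟨u, hu, fun v hv => hinj y hy (hv.trans hu.symm)⟩

theorem twoTransitive : IsMultiplyPretransitive G (G ⧸ Nz t₀) 2 := by
  rw [is_two_pretransitive_iff]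
  intro a b c e hab hce
  obtain ⟨g, rfl⟩ := QuotientGroup.mk_surjective a
  obtain ⟨g', rfl⟩ := QuotientGroup.mk_surjective c
  have hkx : ∀ k : G, k • (QuotientGroup.mk 1 : G ⧸ Nz t₀) = QuotientGroup.mk k := fun k => by
    rw [Quotient.smul_mk, smul_eq_mul, mul_one]
  obtain ⟨u, hu, -⟩ := (regular_card hct hna ht₀).2 (g⁻¹ • b) (g'⁻¹ • e)
    (fun h => hab (by rw [← hkx g, ← h, smul_inv_smul])) (fun h => hce (by rw [← hkx g', ← h, smul_inv_smul]))
  refine ⟨g' * u * g⁻¹, ?_, ?_⟩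
  · rw [mul_smul, mul_smul, ← hkx g, inv_smul_smul,
      mem_stabilizer_iff.mp (mem_stab_base.mpr (Cz_le_Nz t₀ u.2)), hkx g']
  · rw [mul_smul, mul_smul, hu, smul_inv_smul]

/-- The centralizer of an involution is elementary abelian. -/
theorem elementary : ∀ c ∈ Cz t₀, c ^ 2 = 1 := by
  set x0 : G ⧸ Nz t₀ := QuotientGroup.mk 1 with hx0
  obtain ⟨hcard, hreg⟩ := regular_card hct hna ht₀
  obtain ⟨ht1, -, -⟩ := inv2 ht₀
  have hA2 : 2 ∣ Nat.card (Cz t₀) := ht₀ ▸ Subgroup.orderOf_dvd_natCard _ (mem_Cz.mpr rfl)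
  obtain ⟨y₀, hy₀⟩ := Fintype.exists_ne_of_one_lt_card (by rw [hcard]; have := Nat.card_pos (α := Cz t₀); omega) x0
  obtain ⟨hH, hsw, hinvs⟩ := pair hct hna ht₀ hy₀
  have hodd := invs_odd hct hna ht₀
  have hd1 := invs_one_lt hct hna ht₀
  have hinv : ∀ s : G, s • y₀ = x0 → s • x0 = y₀ → ∀ h ∈ Hst y₀ x0, s * h * s⁻¹ = h⁻¹ := by
    intro s h1 h2 h hh
    obtain ⟨v, hv⟩ : (swaps y₀ x0).Nonempty := card_pos.mp (by omega)
    obtain ⟨hvo, hvX⟩ := (mem_filter.mp hv).2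
    obtain ⟨-, hvi, hvv⟩ := inv2 hvo
    have hvY : v • x0 = y₀ := by rw [← hvX, ← mul_smul, hvv, one_smul]
    have hk : v * s ∈ Hst y₀ x0 :=
      ⟨mem_stabilizer_iff.mpr (by rw [mul_smul, h1, hvY]), mem_stabilizer_iff.mpr (by rw [mul_smul, h2, hvX])⟩
    have hc := Hst_comm hct hna ht₀ hy₀ hk hh
    calc s * h * s⁻¹ = v⁻¹ * ((v * s) * h) * (v * s)⁻¹ * v := by group
      _ = v⁻¹ * h * v := by rw [hc]; group
      _ = v * h * v⁻¹ := by rw [hvi]
      _ = h⁻¹ := hinvs v hv h hh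
  have hab : ∀ u ∈ Cz t₀, ∀ v ∈ Cz t₀, u * v = v * u := fun u hu v hv =>
    hct t₀ u v ht1 (mem_Cz.mp hu).symm (mem_Cz.mp hv).symm
  have hle := PermGroups.card_le_of_abelian_kernel (G := G) (twoTransitive hct hna ht₀) (threeFix hct hna ht₀)
    hy₀ (hH.symm ▸ hodd) (by rw [hH]; obtain ⟨k, hk⟩ := hodd; omega) hinv
    (F := Cz t₀) (fun u hu => mem_stab_base.mpr (Cz_le_Nz t₀ hu))
    (fun g hg u hu => (Subgroup.mem_normalizer_iff.mp (mem_stab_base.mp hg) u).mp hu)
    hreg hcard.symm hab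
  have hdvd := PermGroups.card_twoStabilizer_dvd (threeFix hct hna ht₀) hy₀
  rw [hH, hcard] at hle hdvd
  set d := (invs t₀).card with hd
  set a := Nat.card (Cz t₀) with ha
  have hsub : insert 1 (invs t₀) ⊆ univ.filter fun g : G => g ∈ Cz t₀ := by
    intro v hv
    rcases mem_insert.mp hv with e | e
    · rw [e]; exact mem_filter.mpr ⟨mem_univ _, Subgroup.one_mem _⟩
    · exact mem_filter.mpr ⟨mem_univ _, (mem_filter.mp e).2.2⟩
  have hcA : (univ.filter fun g : G => g ∈ Cz t₀).card = a := by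
    rw [ha, Nat.card_eq_fintype_card, Fintype.card_subtype]
  have h1 : (1 : G) ∉ invs t₀ := fun h => by simp [invs] at h
  have hda : d + 1 ≤ a := by
    rw [← hcA, hd, ← card_insert_of_notMem h1]; exact card_le_card hsub
  have heq : a = d + 1 := by
    obtain ⟨k, hk⟩ := hdvd
    rcases Nat.lt_or_ge k 3 with hk3 | hk3
    · obtain ⟨j, hj⟩ := hA2
      obtain ⟨i, hi⟩ := hodd
      interval_cases k <;> omega
    · have := Nat.mul_le_mul_left d hk3
      omega
  have hset : insert 1 (invs t₀) = univ.filter fun g : G => g ∈ Cz t₀ :=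
    eq_of_subset_of_card_le hsub (by rw [hcA, card_insert_of_notMem h1, ← hd, heq])
  intro c hc
  rcases mem_insert.mp (hset.symm ▸ mem_filter.mpr ⟨mem_univ c, hc⟩ : c ∈ insert 1 (invs t₀)) with e | e
  · rw [e, one_pow]
  · rw [pow_two]; exact (inv2 (mem_filter.mp e).2.1).2.2

omit ht₀ in
/-- Simple groups with abelian centralizers are `PSL₂` in characteristic two. -/
theorem classify : ∃ (F : Type) (_ : Field F) (_ : Fintype F) (f : ℕ), 2 ≤ f ∧ Fintype.card F = 2 ^ f ∧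
    Nonempty (G ≃* Matrix.ProjectiveSpecialLinearGroup (Fin 2) F) := by
  haveI : Fact (Nat.Prime 2) := ⟨Nat.prime_two⟩
  obtain ⟨t, ht⟩ := exists_involution hct hna
  obtain ⟨ht1, -, -⟩ := inv2 ht
  obtain ⟨S, hS, htS⟩ := exists_sylow_le hct hna ht
  have hp : IsPGroup 2 (Cz t) := fun c => ⟨1, Subtype.ext (elementary hct hna ht c c.2)⟩
  have hAS : Cz t = (S : Subgroup G) := S.is_maximal' hp hS
  have hd1 := invs_one_lt hct hna ht
  have hnc : ¬ IsCyclic (S : Subgroup G) := by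
    intro hcyc
    obtain ⟨g, hg⟩ := hcyc.exists_generator
    have hle : ∀ v ∈ invs t, v = (g : G) := by
      intro v hv
      obtain ⟨hvo, hvA⟩ := (mem_filter.mp hv).2
      obtain ⟨k, hk⟩ := Subgroup.mem_zpowers_iff.mp (hg ⟨v, hAS ▸ hvA⟩)
      have hk' : (g : G) ^ k = v := by simpa using congrArg Subtype.val hk
      have hg2 : (g : G) ^ (2 : ℤ) = 1 := by
        rw [show (2 : ℤ) = ((2 : ℕ) : ℤ) from rfl, zpow_natCast]
        exact elementary hct hna ht g (hAS.symm ▸ g.2)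
      rcases Int.even_or_odd k with ⟨j, rfl⟩ | ⟨j, rfl⟩
      · exfalso
        rw [← two_mul, zpow_mul, hg2, one_zpow] at hk'
        exact (inv2 hvo).1 hk'.symm
      · rw [zpow_add, zpow_mul, hg2, one_zpow, one_mul, zpow_one] at hk'
        exact hk'.symm
    have : (invs t).card ≤ 1 := card_le_one.mpr fun a ha b hb => (hle a ha).trans (hle b hb).symm
    omega
  have hnn : ¬ (S : Subgroup G).Normal := by
    intro hn
    rcases hn.eq_bot_or_eq_top with e | e
    · exact ht1 (Subgroup.mem_bot.mp (e ▸ htS))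
    · exact not_central hct hna ht1 (top_le_iff.mp (e ▸ hS))
  obtain ⟨F, fF, fintF, hF, hiso⟩ := S1230.result S hnc hnn fun u hu =>
    ⟨⟨⟨fun a b => Subtype.ext (hct u a b (inv2 hu).1 (mem_Cz.mp a.2).symm (mem_Cz.mp b.2).symm)⟩⟩,
      elementary hct hna hu⟩
  obtain ⟨e, he⟩ := S.2.exists_card_eq
  refine ⟨F, fF, fintF, e, ?_, hF.trans he, hiso⟩
  by_contra he2
  have h2 : (2 : ℕ) ^ e ≤ 2 := by
    calc 2 ^ e ≤ 2 ^ 1 := Nat.pow_le_pow_right (by norm_num) (by omega)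
      _ = 2 := pow_one 2
  have hsub : insert 1 (invs t) ⊆ univ.filter fun g : G => g ∈ Cz t := by
    intro v hv
    rcases mem_insert.mp hv with e' | e'
    · rw [e']; exact mem_filter.mpr ⟨mem_univ _, Subgroup.one_mem _⟩
    · exact mem_filter.mpr ⟨mem_univ _, (mem_filter.mp e').2.2⟩
  have h3 := card_le_card hsub
  rw [card_insert_of_notMem (fun h => by simp [invs] at h), ← Fintype.card_subtype, ← Nat.card_eq_fintype_card,
    show Nat.card (Cz t) = Nat.card (S : Subgroup G) by rw [hAS], he] at h3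
  omega

end Cfsg.Agent.GeomClasses.CT
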