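import Cfsg.Agent.FGS3.SU32
import Cfsg.Agent.Linear.POmega6Minus

/-!
`PSU₃(2)` has a proper subgroup containing all its elements of prime order, so its subgroup
lattice is not complemented.
-/

set_option autoImplicit false
open Cfsg

namespace Cfsg.Agent.GeomClasses.PSU32

open Cfsg.Agent.FGS3 Cfsg.Agent.FGS3.SU32

/-- the candidates outside the index four subgroup -/
def cand (i : Fin 4) (p : Fin 3 × Fin 3 × Fin 3 × Fin 2) : SU 3 GF4 2 :=
  rep i * Plane.nf sd sx st sz p

theorem no_small_order : ∀ i : Fin 4, ∀ p : Fin 3 × Fin 3 × Fin 3 × Fin 2, i ≠ 0 →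
    (∃ s : Fin 3, mat (cand i p * cand i p * ![sd, sx, st] s) ≠
      mat (![sd, sx, st] s * (cand i p * cand i p))) ∧
    (∃ s : Fin 3, mat (cand i p * cand i p * cand i p * ![sd, sx, st] s) ≠
      mat (![sd, sx, st] s * (cand i p * cand i p * cand i p))) := by
  decide +kernel

theorem exists_subgroup :
    ∃ M : Subgroup (SU 3 GF4 2), Nat.card M = 54 ∧ ∀ a : SU 3 GF4 2,
      (a ^ 2 ∈ Subgroup.center _ ∨ a ^ 3 ∈ Subgroup.center _) → a ∈ M := by
  set M : Subgroup (SU 3 GF4 2) := Subgroup.closure {sd, sx, st} with hMdef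
  have md' : sd ∈ M := Subgroup.subset_closure (by simp)
  have mx' : sx ∈ M := Subgroup.subset_closure (by simp)
  have mt' : st ∈ M := Subgroup.subset_closure (by simp)
  have hxt : sx * st = sz * (st * sx) := mat_inj (by decide +kernel)
  have mz' : sz ∈ M := by
    rw [show sz = sx * st * (st * sx)⁻¹ from (mul_inv_eq_of_eq_mul hxt).symm]
    exact mul_mem (mul_mem mx' mt') (inv_mem (mul_mem mt' mx'))
  have hdx : sd * sx * sd * sx = 1 := mat_inj (by decide +kernel)
  have hdt : sd * st * sd * st = 1 := mat_inj (by decide +kernel)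
  have hM : Plane (⟨sd, md'⟩ : M) ⟨sx, mx'⟩ ⟨st, mt'⟩ ⟨sz, mz'⟩ := by
    refine ⟨Subtype.ext (mat_inj (by decide +kernel) : sd * sd = 1),
      Subtype.ext (mat_inj (by decide +kernel) : sx ^ 3 = 1),
      Subtype.ext (mat_inj (by decide +kernel) : st ^ 3 = 1), Subtype.ext ?_, Subtype.ext ?_,
      Subtype.ext (mat_inj (by decide +kernel) : sd * sz * sd = sz),
      Subtype.ext (mat_inj (by decide +kernel) : sx * sz = sz * sx),
      Subtype.ext (mat_inj (by decide +kernel) : st * sz = sz * st), Subtype.ext hxt,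
      fun e => absurd (congrArg mat (congrArg Subtype.val e)) (show mat sz ≠ mat 1 by decide +kernel), ?_⟩
    · exact eq_inv_of_mul_eq_one_left hdx
    · exact eq_inv_of_mul_eq_one_left hdt
    · have hpre := Subgroup.closure_closure_coe_preimage (k := ({sd, sx, st} : Set (SU 3 GF4 2)))
      rw [← hpre]
      congr 1
      ext p
      simp only [Set.mem_preimage, Set.mem_insert_iff, Set.mem_singleton_iff, Subtype.ext_iff]
  have hnfM : ∀ p, Plane.nf sd sx st sz p ∈ M := fun p =>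
    mul_mem (mul_mem (mul_mem (pow_mem mx' _) (pow_mem mt' _)) (pow_mem mz' _)) (pow_mem md' _)
  have hnfcoe : ∀ p, ((Plane.nf (⟨sd, md'⟩ : M) ⟨sx, mx'⟩ ⟨st, mt'⟩ ⟨sz, mz'⟩ p : M) : SU 3 GF4 2) =
      Plane.nf sd sx st sz p := fun p => by simp [Plane.nf]
  have hcard : Nat.card (SU 3 GF4 2) = 216 := by
    have h := Cfsg.Agent.Forms.card_SU (F := GF4) (n := 3) (q := 2) (by decide +kernel) (by norm_num)
    simp only [Finset.prod_range_succ, Finset.prod_range_zero] at h
    norm_num [Nat.even_iff] at h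
    omega
  haveI : Finite M := hM.finite
  have hinj : Function.Injective fun q : Fin 4 × M => rep q.1 * (q.2 : SU 3 GF4 2) := by
    rintro ⟨i, m⟩ ⟨j, m'⟩ e
    have hij : i = j := by
      by_contra hne
      obtain ⟨p, hp⟩ := hM.nf_surjective (m * m'⁻¹)
      refine cosets i j p hne (congrArg mat ?_)
      rw [← hnfcoe, hp, Subgroup.coe_mul, Subgroup.coe_inv, ← mul_assoc,
        show rep i * (m : SU 3 GF4 2) = rep j * m' from e, mul_inv_cancel_right]
    subst hij
    exact Prod.ext rfl (Subtype.ext (mul_left_cancel e))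
  have hb := (Nat.bijective_iff_injective_and_card _).2 ⟨hinj, by
    rw [hcard, Nat.card_prod, Nat.card_fin, hM.card_eq]⟩
  refine ⟨M, hM.card_eq, fun a ha => ?_⟩
  obtain ⟨⟨i, m⟩, rfl⟩ := hb.2 a
  obtain ⟨p, rfl⟩ := hM.nf_surjective m
  simp only [hnfcoe] at ha ⊢
  rcases eq_or_ne i 0 with rfl | hi
  · simpa [rep] using hnfM p
  exfalso
  obtain ⟨⟨s, hs⟩, ⟨t, ht⟩⟩ := no_small_order i p hi
  rcases ha with ha | ha
  · refine hs (congrArg mat ?_)
    have := Subgroup.mem_center_iff.1 ha (![sd, sx, st] s)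
    rw [pow_two] at this
    exact this.symm
  · refine ht (congrArg mat ?_)
    have := Subgroup.mem_center_iff.1 ha (![sd, sx, st] t)
    rw [pow_succ, pow_two] at this
    exact this.symm

theorem exists_proper_containing_prime_order {F : Type*} [Field F] [Fintype F]
    (hF : Fintype.card F = 4) :
    Nat.card (PSU 3 F 2) = 72 → ∃ H : Subgroup (PSU 3 F 2), H ≠ ⊤ ∧
      ∀ r : ℕ, r.Prime → ∀ b : PSU 3 F 2, orderOf b = r → b ∈ H := by
  intro h72
  obtain ⟨M, hM, hmem⟩ := exists_subgroup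
  let f : SU 3 GF4 2 ≃* SU 3 F 2 :=
    Linear.suCongr 3 2 (FiniteField.ringEquivOfCardEq (card_gf4.trans hF.symm))
  refine ⟨(M.map f.toMonoidHom).map (QuotientGroup.mk' _), fun htop => ?_, fun r hr b hb => ?_⟩
  · haveI : Finite (SU 3 F 2) := inferInstance
    haveI : Finite M := Nat.finite_of_card_ne_zero (by omega)
    have h1 := Nat.card_le_card_of_surjective
      (fun m : M => (QuotientGroup.mk' (Subgroup.center (SU 3 F 2)) (f m) : PSU 3 F 2)) fun b => by
        obtain ⟨_, ⟨m, hm, rfl⟩, rfl⟩ := htop.ge (Subgroup.mem_top b)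
        exact ⟨⟨m, hm⟩, rfl⟩
    have h72' : Nat.card (SU 3 F 2 ⧸ Subgroup.center (SU 3 F 2)) = 72 := h72
    omega
  · have hr23 : r = 2 ∨ r = 3 := by
      have hd : r ∣ 2 ^ 3 * 3 ^ 2 := by
        rw [show 2 ^ 3 * 3 ^ 2 = 72 from rfl, ← h72, ← hb]; exact orderOf_dvd_natCard b
      rcases hr.dvd_mul.1 hd with h | h
      · exact Or.inl ((Nat.prime_dvd_prime_iff_eq hr Nat.prime_two).1 (hr.dvd_of_dvd_pow h))
      · exact Or.inr ((Nat.prime_dvd_prime_iff_eq hr Nat.prime_three).1 (hr.dvd_of_dvd_pow h))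
    obtain ⟨a, rfl⟩ := QuotientGroup.mk'_surjective (Subgroup.center (SU 3 F 2)) b
    have hpow : a ^ r ∈ Subgroup.center (SU 3 F 2) := by
      rw [← QuotientGroup.eq_one_iff, QuotientGroup.mk_pow]
      exact hb ▸ pow_orderOf_eq_one _
    have hc : f.symm (a ^ r) ∈ Subgroup.center (SU 3 GF4 2) :=
      Subgroup.mem_center_iff.2 fun y => f.injective (by
        simp only [map_mul, MulEquiv.apply_symm_apply]
        exact Subgroup.mem_center_iff.1 hpow (f y))
    rw [map_pow] at hc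
    have := hmem (f.symm a) (by rcases hr23 with rfl | rfl <;> [exact Or.inl hc; exact Or.inr hc])
    exact ⟨a, ⟨_, this, f.apply_symm_apply a⟩, rfl⟩

theorem not_complemented {G : Type*} [Group G] [Finite G] (H : Subgroup G) (hH : H ≠ ⊤)
    (hpr : ∀ r : ℕ, r.Prime → ∀ b : G, orderOf b = r → b ∈ H) :
    ¬ ComplementedLattice (Subgroup G) := by
  rintro ⟨hc⟩
  obtain ⟨C, hd, hu⟩ := hc H
  apply hH
  suffices C = ⊥ by
    have htop := hu.eq_top
    rwa [this, sup_bot_eq] at htop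
  by_contra hC
  obtain ⟨r, hr, hrd⟩ := Nat.exists_prime_and_dvd (fun h => hC (Subgroup.eq_bot_of_card_eq C h))
  haveI : Fact r.Prime := ⟨hr⟩
  obtain ⟨c, hcr⟩ := exists_prime_orderOf_dvd_card' r hrd
  have h1 : (c : G) ∈ H ⊓ C := ⟨hpr r hr c (by rw [Subgroup.orderOf_coe, hcr]), c.2⟩
  rw [hd.eq_bot, Subgroup.mem_bot] at h1
  have : c = 1 := Subtype.ext h1
  rw [this, orderOf_one] at hcr
  exact hr.one_lt.ne hcr

end Cfsg.Agent.GeomClasses.PSU32
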