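import Mathlib

/-! # Stabilisers of uniform partitions: blocks of overgroups, three-cycles -/

set_option autoImplicit false

namespace Cfsg.Agent.GeomClasses

open Equiv Equiv.Perm MulAction
open scoped Pointwise

variable {Ω : Type*} [Fintype Ω] [DecidableEq Ω] {β : Type*}

/-- Permutations preserving the partition into fibres of `f`. -/
def fibrePreserving (f : Ω → β) : Subgroup (Perm Ω) where
  carrier := {g | ∀ x y : Ω, f x = f y ↔ f (g x) = f (g y)}
  one_mem' := fun x y => Iff.rfl
  mul_mem' := by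
    intro g h hg hh x y
    rw [Perm.mul_apply, Perm.mul_apply]
    exact (hh x y).trans (hg _ _)
  inv_mem' := by
    intro g hg x y
    rw [Perm.inv_def]
    simpa using (hg (g.symm x) (g.symm y)).symm

theorem closure_eq_fibrePreserving (f : Ω → β) :
    Subgroup.closure {g : Perm Ω | ∀ x y : Ω, f x = f y ↔ f (g x) = f (g y)} = fibrePreserving f :=
  le_antisymm ((Subgroup.closure_le _).mpr fun _ hg => hg) fun _ hg => Subgroup.subset_closure hg

theorem swap_mem_fibrePreserving (f : Ω → β) {u v : Ω} (h : f u = f v) :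
    swap u v ∈ fibrePreserving f := by
  have key : ∀ x, f (swap u v x) = f x := by
    intro x
    rw [swap_apply_def]
    split_ifs with h1 h2
    · rw [h1, h]
    · rw [h2, h]
    · rfl
  intro x y
  rw [key, key]

theorem mem_fibrePreserving_of_comp (f : Ω → β) {g : Perm Ω} (σ : Perm β) (h : ∀ x, f (g x) = σ (f x)) :
    g ∈ fibrePreserving f := fun x y => by rw [h, h, σ.apply_eq_iff_eq]

/-- Coordinates adapted to a uniform partition. -/
theorem exists_coords [DecidableEq β] (f : Ω → β) {a : ℕ} (hf : ∀ i, Nat.card {x : Ω // f x = i} = a) :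
    ∃ E : Ω ≃ β × Fin a, ∀ x, (E x).1 = f x := by
  let e : ∀ i, {x : Ω // f x = i} ≃ Fin a := fun i =>
    Fintype.equivFinOfCardEq (by rw [← Nat.card_eq_fintype_card, hf])
  exact ⟨((Equiv.sigmaFiberEquiv f).symm.trans (Equiv.sigmaCongrRight e)).trans (Equiv.sigmaEquivProd β (Fin a)),
    fun x => rfl⟩

theorem exists_perm_blocks [DecidableEq β] (f : Ω → β) {a : ℕ} (hf : ∀ i, Nat.card {x : Ω // f x = i} = a)
    (σ : Perm β) : ∃ g : Perm Ω, g ∈ fibrePreserving f ∧ (∀ x, f (g x) = σ (f x)) ∧ ∀ x, σ (f x) = f x → g x = x := by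
  obtain ⟨E, hE⟩ := exists_coords f hf
  refine ⟨(E.trans (Equiv.prodCongr σ (Equiv.refl _))).trans E.symm, ?_, ?_, ?_⟩
  · refine mem_fibrePreserving_of_comp f σ fun x => ?_
    rw [← hE, ← hE]; simp
  · intro x; rw [← hE, ← hE]; simp
  · intro x hx
    apply E.injective
    rw [← hE] at hx
    simp [Prod.ext_iff, hx]

theorem exists_fibre_ne (f : Ω → β) {a : ℕ} (hf : ∀ i, Nat.card {x : Ω // f x = i} = a) (ha : 2 ≤ a) (i : β) (u : Ω) :
    ∃ v, f v = i ∧ v ≠ u := by
  by_contra h
  push_neg at h
  have : Subsingleton {x : Ω // f x = i} := ⟨fun p q => Subtype.ext ((h _ p.2).trans (h _ q.2).symm)⟩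
  have := (Finite.card_le_one_iff_subsingleton (α := {x : Ω // f x = i})).mpr this
  rw [hf] at this
  omega

/-- Enough partition preserving elements inside `G` to control its blocks. -/
structure HasFibreMovers (f : Ω → β) (G : Subgroup (Perm Ω)) : Prop where
  trans : ∀ y z : Ω, ∃ g ∈ G, g y = z ∧ g ∈ fibrePreserving f
  inside : ∀ x y z : Ω, f y = f z → y ≠ x → z ≠ x → ∃ g ∈ G, g x = x ∧ g y = z
  across : ∀ (x y : Ω) (j : β), f y ≠ f x → j ≠ f x → ∃ g ∈ G, g x = x ∧ f (g y) = j

/-- An overgroup of the movers is primitive unless it preserves the partition. -/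
theorem isPreprimitive_of_movers [DecidableEq β] (f : Ω → β) {a : ℕ} (hf : ∀ i, Nat.card {x : Ω // f x = i} = a)
    (ha : 2 ≤ a) (hb : Nontrivial β) {G : Subgroup (Perm Ω)} (hG : HasFibreMovers f G)
    (hne : ¬ G ≤ fibrePreserving f) : IsPreprimitive G Ω := by
  haveI : IsPretransitive G Ω := ⟨fun y z => by
    obtain ⟨g, hg, hgy, -⟩ := hG.trans y z
    exact ⟨⟨g, hg⟩, hgy⟩⟩
  have stab : ∀ {B : Set Ω}, IsBlock G B → ∀ g ∈ G, ∀ x ∈ B, g x = x → ∀ y ∈ B, g y ∈ B := by
    intro B hB g hg x hx hgx y hy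
    have := (hB.smul_eq_of_nonempty (g := (⟨g, hg⟩ : G)) ⟨x, ⟨x, hx, hgx⟩, hx⟩)
    rw [← this]
    exact ⟨y, hy, rfl⟩
  -- blocks are trivial or fibres
  have key : ∀ B : Set Ω, IsBlock G B → ¬ B.Subsingleton → B = Set.univ ∨ ∃ i, B = {x | f x = i} := by
    intro B hB hBs
    obtain ⟨x₀, hx₀, y₀, hy₀, hxy₀⟩ := Set.not_subsingleton_iff.mp hBs
    by_cases hin : ∀ w ∈ B, f w = f x₀
    · right
      refine ⟨f x₀, Set.Subset.antisymm hin fun z hz => ?_⟩
      rcases eq_or_ne z x₀ with rfl | hzx
      · exact hx₀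
      obtain ⟨g, hg, h1, h2⟩ := hG.inside x₀ y₀ z ((hin y₀ hy₀).trans hz.symm) hxy₀.symm hzx
      exact h2 ▸ stab hB g hg x₀ hx₀ h1 y₀ hy₀
    · left
      push_neg at hin
      obtain ⟨y, hy, hyx⟩ := hin
      -- whole fibres
      have full : ∀ u ∈ B, ∀ v ∈ B, f u ≠ f v → ∀ z, f z = f v → z ∈ B := by
        intro u hu v hv huv z hz
        obtain ⟨g, hg, h1, h2⟩ := hG.inside u v z hz.symm (fun h => huv (by rw [h]))
          (fun h => huv (by rw [← hz, h]))
        exact h2 ▸ stab hB g hg u hu h1 v hv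
      refine Set.eq_univ_iff_forall.mpr fun z => ?_
      by_cases hzx : f z = f x₀
      · exact full y hy x₀ hx₀ hyx z hzx
      obtain ⟨g, hg, h1, h2⟩ := hG.across x₀ y (f z) hyx hzx
      exact full x₀ hx₀ (g y) (stab hB g hg x₀ hx₀ h1 y hy) (by rw [h2]; exact Ne.symm hzx) z h2.symm
  refine IsPreprimitive.mk fun {B} hB => ?_
  by_cases hBs : B.Subsingleton
  · exact Or.inl hBs
  rcases key B hB hBs with h | ⟨i, hi⟩
  · exact Or.inr h
  exfalso
  apply hne
  intro g hg
  -- every translate of a fibre is a fibre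
  have himg : ∀ j, ∃ j', ∀ x, f x = j ↔ f (g x) = j' := by
    intro j
    obtain ⟨x₁, hx₁⟩ : ∃ x, f x = i := by
      obtain ⟨w, hw, -⟩ := exists_fibre_ne f hf ha i (Classical.choice (Set.not_subsingleton_iff.mp hBs).nonempty.to_subtype).1
      exact ⟨w, hw⟩
    obtain ⟨x₂, hx₂⟩ : ∃ x, f x = j := by
      obtain ⟨w, hw, -⟩ := exists_fibre_ne f hf ha j x₁
      exact ⟨w, hw⟩
    obtain ⟨k, hk, hk1, hkf⟩ := hG.trans x₁ x₂
    have hblock : IsBlock G ((⟨g * k, G.mul_mem hg hk⟩ : G) • B) := hB.translate _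
    have hsub : ¬ ((⟨g * k, G.mul_mem hg hk⟩ : G) • B).Subsingleton := fun h =>
      hBs fun p hp q hq => MulAction.injective (⟨g * k, G.mul_mem hg hk⟩ : G) (h ⟨p, hp, rfl⟩ ⟨q, hq, rfl⟩)
    have hmem : ∀ x, f x = j ↔ g x ∈ (⟨g * k, G.mul_mem hg hk⟩ : G) • B := by
      intro x
      rw [hi]
      constructor
      · intro hx
        refine ⟨k.symm x, ?_, ?_⟩
        · show f (k.symm x) = i
          rw [← hx₁]
          refine (hkf _ _).mpr ?_
          rw [Equiv.apply_symm_apply, hk1, hx₂, hx]
        · show g (k (k.symm x)) = g x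
          rw [Equiv.apply_symm_apply]
      · rintro ⟨p, hp, hpx⟩
        have hpx' : k p = x := g.injective hpx
        rw [← hpx', ← hx₂, ← hk1]
        exact (hkf _ _).mp (hp.trans hx₁.symm)
    rcases key _ hblock hsub with h | ⟨j', hj'⟩
    · exfalso
      obtain ⟨j₂, hj₂⟩ := exists_ne j
      obtain ⟨w, hw, -⟩ := exists_fibre_ne f hf ha j₂ x₁
      exact hj₂ (hw ▸ (hmem w).mpr (h ▸ Set.mem_univ _))
    · exact ⟨j', fun x => (hmem x).trans (by rw [hj']; rfl)⟩
  intro x y
  obtain ⟨j', hj'⟩ := himg (f y)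
  rw [(hj' y).mp rfl]
  exact hj' x

theorem movers_of_full [DecidableEq β] (f : Ω → β) {a : ℕ} (hf : ∀ i, Nat.card {x : Ω // f x = i} = a)
    {G : Subgroup (Perm Ω)} (hG : fibrePreserving f ≤ G) : HasFibreMovers f G where
  trans := by
    intro y z
    obtain ⟨g, hg, hgf, -⟩ := exists_perm_blocks f hf (swap (f y) (f z))
    have hs : swap (g y) z ∈ fibrePreserving f := swap_mem_fibrePreserving f (by rw [hgf, swap_apply_left])
    exact ⟨swap (g y) z * g, hG (mul_mem hs hg), by rw [Perm.mul_apply, swap_apply_left], mul_mem hs hg⟩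
  inside := fun x y z h h1 h2 =>
    ⟨swap y z, hG (swap_mem_fibrePreserving f h), swap_apply_of_ne_of_ne h1.symm h2.symm, swap_apply_left y z⟩
  across := by
    intro x y j hy hj
    obtain ⟨g, hg, hgf, hfix⟩ := exists_perm_blocks f hf (swap (f y) j)
    exact ⟨g, hG hg, hfix x (swap_apply_of_ne_of_ne hy.symm hj.symm), by rw [hgf, swap_apply_left]⟩

/-- Adjust the parity of a partition preserving permutation without moving given images. -/
theorem even_adjust (f : Ω → β) {G : Subgroup (Perm Ω)} (hG : fibrePreserving f ⊓ alternatingGroup Ω ≤ G)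
    {g : Perm Ω} (hg : g ∈ fibrePreserving f) {u v : Ω} (huv : u ≠ v) (hf : f u = f v) :
    ∃ h ∈ G, h ∈ fibrePreserving f ∧ (h = g ∨ h = g * swap u v) := by
  rcases Int.units_eq_one_or (sign g) with h | h
  · exact ⟨g, hG ⟨hg, h⟩, hg, Or.inl rfl⟩
  · have hm := mul_mem hg (swap_mem_fibrePreserving f hf)
    refine ⟨g * swap u v, hG ⟨hm, ?_⟩, hm, Or.inr rfl⟩
    show sign (g * swap u v) = 1
    rw [map_mul, h, sign_swap huv]; rfl

theorem exists_pair_avoiding [DecidableEq β] (f : Ω → β) {a : ℕ} (hf : ∀ i, Nat.card {x : Ω // f x = i} = a) (ha : 2 ≤ a)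
    (i : β) : ∃ u v, u ≠ v ∧ f u = i ∧ f v = i := by
  obtain ⟨E, hE⟩ := exists_coords f hf
  refine ⟨E.symm (i, ⟨0, by omega⟩), E.symm (i, ⟨1, by omega⟩), ?_, ?_, ?_⟩
  · simp
  · rw [← hE]; simp
  · rw [← hE]; simp

theorem movers_of_even [Fintype β] [DecidableEq β] (f : Ω → β) {a : ℕ} (hf : ∀ i, Nat.card {x : Ω // f x = i} = a)
    (ha : 2 ≤ a) (hb : 2 ≤ Fintype.card β) (h22 : a = 2 → 3 ≤ Fintype.card β)
    {G : Subgroup (Perm Ω)} (hG : fibrePreserving f ⊓ alternatingGroup Ω ≤ G) : HasFibreMovers f G where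
  trans := by
    intro y z
    obtain ⟨i, hi⟩ := Fintype.exists_ne_of_one_lt_card hb (f y)
    obtain ⟨u, v, huv, hu, hv⟩ := exists_pair_avoiding f hf ha i
    obtain ⟨g, hg, hgf, -⟩ := exists_perm_blocks f hf (swap (f y) (f z))
    have hs : swap (g y) z ∈ fibrePreserving f := swap_mem_fibrePreserving f (by rw [hgf, swap_apply_left])
    obtain ⟨h, hh, hhf, hcase⟩ := even_adjust f hG (mul_mem hs hg) huv (hu.trans hv.symm)
    refine ⟨h, hh, ?_, hhf⟩
    rcases hcase with rfl | rfl
    · rw [Perm.mul_apply, swap_apply_left]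
    · rw [Perm.mul_apply, swap_apply_of_ne_of_ne (fun h => hi (h ▸ hu).symm) (fun h => hi (h ▸ hv).symm),
        Perm.mul_apply, swap_apply_left]
  inside := by
    intro x y z hyz hyx hzx
    rcases eq_or_ne y z with rfl | hne
    · exact ⟨1, G.one_mem, rfl, rfl⟩
    -- a second transposition avoiding the three points
    obtain ⟨u, v, huv, hf', hu, hv⟩ : ∃ u v, u ≠ v ∧ f u = f v ∧ u ∉ ({x, y, z} : Finset Ω) ∧ v ∉ ({x, y, z} : Finset Ω) := by
      by_cases hxy : f x = f y
      · obtain ⟨i, hi⟩ := Fintype.exists_ne_of_one_lt_card hb (f y)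
        obtain ⟨u, v, huv, hu, hv⟩ := exists_pair_avoiding f hf ha i
        refine ⟨u, v, huv, hu.trans hv.symm, ?_, ?_⟩ <;> simp only [Finset.mem_insert, Finset.mem_singleton, not_or] <;>
          refine ⟨fun h => ?_, fun h => ?_, fun h => ?_⟩ <;> subst h <;> simp_all
      · by_cases ha3 : 3 ≤ a
        · obtain ⟨E, hE⟩ := exists_coords f hf
          obtain ⟨p, q, hpq, hp, hq⟩ : ∃ p q : Fin a, p ≠ q ∧ p ≠ (E x).2 ∧ q ≠ (E x).2 := by
            have hc : 1 < ((Finset.univ : Finset (Fin a)).erase (E x).2).card := by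
              rw [Finset.card_erase_of_mem (Finset.mem_univ _), Finset.card_univ, Fintype.card_fin]; omega
            obtain ⟨p, hp, q, hq, hpq⟩ := Finset.one_lt_card.mp hc
            exact ⟨p, q, hpq, Finset.ne_of_mem_erase hp, Finset.ne_of_mem_erase hq⟩
          have hfu : ∀ p : Fin a, f (E.symm (f x, p)) = f x := fun p => by rw [← hE]; simp [hE]
          refine ⟨E.symm (f x, p), E.symm (f x, q), fun h => hpq (by simpa using h), (hfu p).trans (hfu q).symm, ?_, ?_⟩ <;>
            simp only [Finset.mem_insert, Finset.mem_singleton, not_or]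
          · refine ⟨fun h => hp (by rw [← h]; simp), fun h => hxy ?_, fun h => hxy ?_⟩
            · rw [← hfu p, h]
            · rw [hyz, ← hfu p, h]
          · refine ⟨fun h => hq (by rw [← h]; simp), fun h => hxy ?_, fun h => hxy ?_⟩
            · rw [← hfu q, h]
            · rw [hyz, ← hfu q, h]
        · obtain ⟨i, -, hi⟩ := Finset.exists_mem_notMem_of_card_lt_card (s := ({f x, f y} : Finset β)) (t := Finset.univ)
            (lt_of_le_of_lt Finset.card_le_two (by rw [Finset.card_univ]; have := h22 (by omega); omega))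
          simp only [Finset.mem_insert, Finset.mem_singleton, not_or] at hi
          obtain ⟨u, v, huv, hu, hv⟩ := exists_pair_avoiding f hf ha i
          refine ⟨u, v, huv, hu.trans hv.symm, ?_, ?_⟩ <;> simp only [Finset.mem_insert, Finset.mem_singleton, not_or] <;>
            refine ⟨fun h => ?_, fun h => ?_, fun h => ?_⟩ <;> subst h <;> simp_all
    simp only [Finset.mem_insert, Finset.mem_singleton, not_or] at hu hv
    refine ⟨swap y z * swap u v, hG ⟨mul_mem (swap_mem_fibrePreserving f hyz) (swap_mem_fibrePreserving f hf'), ?_⟩, ?_, ?_⟩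
    · show sign (swap y z * swap u v) = 1
      rw [map_mul, sign_swap hne, sign_swap huv]; rfl
    · rw [Perm.mul_apply, swap_apply_of_ne_of_ne (Ne.symm hu.1) (Ne.symm hv.1), swap_apply_of_ne_of_ne hyx.symm hzx.symm]
    · rw [Perm.mul_apply, swap_apply_of_ne_of_ne (Ne.symm hu.2.1) (Ne.symm hv.2.1), swap_apply_left]
  across := by
    intro x y j hy hj
    obtain ⟨g, hg, hgf, hfix⟩ := exists_perm_blocks f hf (swap (f y) j)
    obtain ⟨u, v, huv, hu, hv⟩ := exists_pair_avoiding f hf ha (f y)
    obtain ⟨h, hh, -, hcase⟩ := even_adjust f hG hg huv (hu.trans hv.symm)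
    refine ⟨h, hh, ?_, ?_⟩
    all_goals rcases hcase with rfl | rfl
    · exact hfix x (swap_apply_of_ne_of_ne hy.symm hj.symm)
    · rw [Perm.mul_apply, swap_apply_of_ne_of_ne (fun h => hy (h ▸ hu).symm) (fun h => hy (h ▸ hv).symm)]
      exact hfix x (swap_apply_of_ne_of_ne hy.symm hj.symm)
    · rw [hgf, swap_apply_left]
    · rw [Perm.mul_apply, hgf, swap_apply_def u v y]
      split_ifs <;> simp_all

/-- For pairs: an overgroup not preserving the partition contains a three-cycle. -/
theorem exists_threeCycle_pairs [Fintype β] [DecidableEq β] (f : Ω → β) (hf : ∀ i, Nat.card {x : Ω // f x = i} = 2)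
    (hb : 3 ≤ Fintype.card β) (h4 : Fintype.card β ≠ 4) {G : Subgroup (Perm Ω)}
    (hG : fibrePreserving f ⊓ alternatingGroup Ω ≤ G) {g : Perm Ω} (hgG : g ∈ G) (hg : g ∉ fibrePreserving f) :
    ∃ t ∈ G, t.IsThreeCycle := by
  obtain ⟨E, hE⟩ := exists_coords f hf
  let prt : Ω → Ω := fun x => E.symm (f x, Equiv.swap 0 1 (E x).2)
  have hpf : ∀ x, f (prt x) = f x := fun x => by rw [← hE]; simp [prt, hE]
  have hpne : ∀ x, prt x ≠ x := fun x h => by
    have := congrArg (fun w => (E w).2) h
    simp only [prt, Equiv.apply_symm_apply] at this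
    revert this; generalize (E x).2 = c; revert c; decide
  have hpair : ∀ x z, f z = f x → z = x ∨ z = prt x := by
    intro x z h
    have h1 : (E z).2 = (E x).2 ∨ (E z).2 = Equiv.swap 0 1 (E x).2 := by
      generalize (E z).2 = c; generalize (E x).2 = d; revert c d; decide
    rcases h1 with h1 | h1
    · exact Or.inl (E.injective (Prod.ext (by rw [hE, hE, h]) h1))
    · exact Or.inr (E.injective (by rw [Equiv.apply_symm_apply]; exact Prod.ext (by rw [hE, h]) h1))
  have hpp : ∀ x, prt (prt x) = x := fun x =>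
    ((hpair (prt x) x (hpf x).symm).resolve_left (fun h => hpne x h.symm)).symm
  have heven : ∀ u v : Ω, f u ≠ f v → swap u (prt u) * swap v (prt v) ∈ G := fun u v _ =>
    hG ⟨mul_mem (swap_mem_fibrePreserving f (hpf u).symm) (swap_mem_fibrePreserving f (hpf v).symm), by
      show sign _ = 1
      rw [map_mul, sign_swap (hpne u).symm, sign_swap (hpne v).symm]; rfl⟩
  -- a pair split by g
  obtain ⟨u, hu⟩ : ∃ u, g (prt u) ≠ prt (g u) := by
    by_contra hc
    push_neg at hc
    apply hg
    intro x y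
    constructor
    · intro h
      rcases hpair y x h with rfl | rfl
      · rfl
      · rw [hc y, hpf]
    · intro h
      rcases hpair (g y) (g x) h with h' | h'
      · rw [g.injective h']
      · rw [← hc y] at h'; rw [g.injective h', hpf]
  -- another pair, not sent to the partners
  obtain ⟨v, hvu, hv⟩ : ∃ v, f v ≠ f u ∧
      ¬ ((g v = prt (g u) ∧ g (prt v) = prt (g (prt u))) ∨ (g v = prt (g (prt u)) ∧ g (prt v) = prt (g u))) := by
    obtain ⟨i, hi, k, hk, hik⟩ : ∃ i, i ≠ f u ∧ ∃ k, k ≠ f u ∧ i ≠ k := by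
      have hc : 1 < ((Finset.univ : Finset β).erase (f u)).card := by
        rw [Finset.card_erase_of_mem (Finset.mem_univ _), Finset.card_univ]; omega
      obtain ⟨p, hp, q, hq, hpq⟩ := Finset.one_lt_card.mp hc
      exact ⟨p, Finset.ne_of_mem_erase hp, q, Finset.ne_of_mem_erase hq, hpq⟩
    obtain ⟨p, -, -, hp, -⟩ := exists_pair_avoiding f hf le_rfl i
    obtain ⟨q, -, -, hq, -⟩ := exists_pair_avoiding f hf le_rfl k
    by_contra hc
    push_neg at hc
    have hqp : q ≠ p := fun h => hik (by rw [← hp, ← hq, h])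
    have hqp' : q ≠ prt p := fun h => hik (by rw [← hp, ← hq, h, hpf])
    rcases hc p (hp ▸ hi) with ⟨h1, h2⟩ | ⟨h1, h2⟩ <;> rcases hc q (hq ▸ hk) with ⟨h3, -⟩ | ⟨h3, -⟩
    · exact hqp (g.injective (h3.trans h1.symm))
    · exact hqp' (g.injective (h3.trans h2.symm))
    · exact hqp' (g.injective (h3.trans h2.symm))
    · exact hqp (g.injective (h3.trans h1.symm))
  -- s = conjugate of a double transposition
  set A := g u
  set B := g (prt u)
  set C := g v
  set D := g (prt v)
  have hs : swap A B * swap C D ∈ G := by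
    have := mul_mem (mul_mem hgG (heven u v hvu.symm)) (inv_mem hgG)
    convert this using 1
    simp only [A, B, C, D, swap_apply_apply]
    group
  have hAB : A ≠ B := fun h => hpne u (g.injective h).symm
  have hCD : C ≠ D := fun h => hpne v (g.injective h).symm
  have hAC : A ≠ C := fun h => hvu (by rw [g.injective h])
  have hAD : A ≠ D := fun h => hvu (by rw [g.injective h, hpf])
  have hBC : B ≠ C := fun h => hvu (by rw [← g.injective h, hpf])
  have hBD : B ≠ D := fun h => hvu (by
    have := congrArg f (g.injective h)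
    rw [hpf, hpf] at this; exact this.symm)
  -- put the names in standard position
  have main : ∀ x y z w : Ω, swap x y * swap z w ∈ G → x ≠ y → z ≠ w → x ≠ z → x ≠ w → y ≠ z → y ≠ w →
      f x ≠ f y → prt x ≠ z → prt x ≠ w → ∃ t ∈ G, t.IsThreeCycle := by
    intro x y z w hsG hxy hzw hxz hxw hyz hyw hfxy hez hew
    have hey : prt x ≠ y := fun h => hfxy (by rw [← h, hpf])
    by_cases hyp : prt y = z ∨ prt y = w
    · -- exchange the two pairs
      obtain ⟨z, w, hsG, hzw, hxz, hxw, hyz, hyw, hez, hew, rfl⟩ : ∃ z' w', swap x y * swap z' w' ∈ G ∧ z' ≠ w' ∧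
          x ≠ z' ∧ x ≠ w' ∧ y ≠ z' ∧ y ≠ w' ∧ prt x ≠ z' ∧ prt x ≠ w' ∧ prt y = z' := by
        rcases hyp with h | h
        · exact ⟨z, w, hsG, hzw, hxz, hxw, hyz, hyw, hez, hew, h⟩
        · exact ⟨w, z, by rwa [swap_comm w z], hzw.symm, hxw, hxz, hyw, hyz, hew, hez, h⟩
      have hc : swap x y * swap (prt x) (prt y) ∈ G := by
        refine hG ⟨mem_fibrePreserving_of_comp f (swap (f x) (f y)) fun t => ?_, ?_⟩
        · have h1 := hpair x t
          have h2 := hpair y t
          rw [Perm.mul_apply]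
          by_cases hx : f t = f x
          · rw [hx, swap_apply_left]
            rcases h1 hx with rfl | rfl
            · rw [swap_apply_of_ne_of_ne (hpne _).symm hxz, swap_apply_left]
            · rw [swap_apply_left, swap_apply_of_ne_of_ne hxz.symm hyz.symm, hpf]
          by_cases hy : f t = f y
          · rw [hy, swap_apply_right]
            rcases h2 hy with rfl | rfl
            · rw [swap_apply_of_ne_of_ne hey.symm hyz, swap_apply_right]
            · rw [swap_apply_right, swap_apply_of_ne_of_ne (hpne x) hey, hpf]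
          have e1 : swap (prt x) (prt y) t = t :=
            swap_apply_of_ne_of_ne (fun h => hx (by rw [h, hpf])) (fun h => hy (by rw [h, hpf]))
          have e2 : swap x y t = t := swap_apply_of_ne_of_ne (fun h => hx (by rw [h])) (fun h => hy (by rw [h]))
          rw [swap_apply_of_ne_of_ne hx hy, e1, e2]
        · show sign _ = 1
          rw [map_mul, sign_swap hxy, sign_swap hez]; rfl
      have hcomm : Commute (swap x y) (swap (prt y) w) := by
        refine Perm.Disjoint.commute fun t => ?_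
        rcases eq_or_ne t x with rfl | h1
        · exact Or.inr (swap_apply_of_ne_of_ne hxz hxw)
        rcases eq_or_ne t y with rfl | h2
        · exact Or.inr (swap_apply_of_ne_of_ne hyz hyw)
        exact Or.inl (swap_apply_of_ne_of_ne h1 h2)
      refine ⟨_, mul_mem hsG hc, ?_⟩
      rw [hcomm.eq, ← mul_assoc, mul_assoc (swap (prt y) w), swap_mul_self, mul_one,
        swap_comm (prt x) (prt y)]
      exact isThreeCycle_swap_mul_swap_same hzw hez.symm hew.symm
    push_neg at hyp
    -- an auxiliary pair commuting with the element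
    obtain ⟨p, hpx, hp⟩ : ∃ p, f p ≠ f x ∧ (swap x y * swap z w) * swap p (prt p) = swap p (prt p) * (swap x y * swap z w) := by
      by_cases hzwp : prt z = w
      · refine ⟨z, fun h => ?_, ?_⟩
        · rcases hpair x z h with h' | h'
          · exact hxz h'.symm
          · exact hez h'.symm
        · rw [hzwp]
          refine (Commute.mul_left ?_ (Commute.refl _)).eq
          refine Perm.Disjoint.commute fun t => ?_
          rcases eq_or_ne t x with rfl | h1
          · exact Or.inr (swap_apply_of_ne_of_ne hxz hxw)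
          rcases eq_or_ne t y with rfl | h2
          · exact Or.inr (swap_apply_of_ne_of_ne hyz hyw)
          exact Or.inl (swap_apply_of_ne_of_ne h1 h2)
      · obtain ⟨i, -, hi⟩ := Finset.exists_mem_notMem_of_card_lt_card (s := ({f x, f y, f z, f w} : Finset β)) (t := Finset.univ) (by
          have hfour : ({f x, f y, f z, f w} : Finset β).card = 4 := by
            have ne : ∀ p q : Ω, p ≠ q → prt p ≠ q → f p ≠ f q := fun p q h1 h2 h =>
              (hpair p q h.symm).elim (fun h' => h1 h'.symm) (fun h' => h2 h'.symm)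
            have e1 := ne x z hxz hez
            have e2 := ne x w hxw hew
            have e3 := ne y z hyz hyp.1
            have e4 := ne y w hyw hyp.2
            have e5 := ne z w hzw hzwp
            simp [hfxy, e1, e2, e3, e4, e5]
          have := Finset.card_le_univ ({f x, f y, f z, f w} : Finset β)
          rw [hfour, Finset.card_univ]; omega)
        simp only [Finset.mem_insert, Finset.mem_singleton, not_or] at hi
        obtain ⟨p, -, -, hp, -⟩ := exists_pair_avoiding f hf le_rfl i
        refine ⟨p, fun h => hi.1 (hp ▸ h), ?_⟩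
        have ne : ∀ q, f q ≠ i → q ≠ p ∧ q ≠ prt p := fun q h =>
          ⟨fun e => h (by rw [e, hp]), fun e => h (by rw [e, hpf, hp])⟩
        refine (Commute.mul_left ?_ ?_).eq
        · refine Perm.Disjoint.commute fun t => ?_
          rcases eq_or_ne t x with rfl | h1
          · exact Or.inr (swap_apply_of_ne_of_ne (ne _ (Ne.symm hi.1)).1 (ne _ (Ne.symm hi.1)).2)
          rcases eq_or_ne t y with rfl | h2
          · exact Or.inr (swap_apply_of_ne_of_ne (ne _ (Ne.symm hi.2.1)).1 (ne _ (Ne.symm hi.2.1)).2)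
          exact Or.inl (swap_apply_of_ne_of_ne h1 h2)
        · refine Perm.Disjoint.commute fun t => ?_
          rcases eq_or_ne t z with rfl | h1
          · exact Or.inr (swap_apply_of_ne_of_ne (ne _ (Ne.symm hi.2.2.1)).1 (ne _ (Ne.symm hi.2.2.1)).2)
          rcases eq_or_ne t w with rfl | h2
          · exact Or.inr (swap_apply_of_ne_of_ne (ne _ (Ne.symm hi.2.2.2)).1 (ne _ (Ne.symm hi.2.2.2)).2)
          exact Or.inl (swap_apply_of_ne_of_ne h1 h2)
    set s := swap x y * swap z w with hsdef
    set P := swap p (prt p)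
    set R := swap x (prt x)
    have hr : R * P ∈ G := heven x p hpx.symm
    have hss : s * s = 1 := by
      have hc : Commute (swap x y) (swap z w) := by
        refine Perm.Disjoint.commute fun t => ?_
        rcases eq_or_ne t x with rfl | h1
        · exact Or.inr (swap_apply_of_ne_of_ne hxz hxw)
        rcases eq_or_ne t y with rfl | h2
        · exact Or.inr (swap_apply_of_ne_of_ne hyz hyw)
        exact Or.inl (swap_apply_of_ne_of_ne h1 h2)
      rw [hsdef, ← sq, hc.mul_pow, sq, sq, swap_mul_self, swap_mul_self, one_mul]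
    have hsinv : s⁻¹ = s := inv_eq_of_mul_eq_one_right hss
    have hsx : s x = y := by rw [hsdef, Perm.mul_apply, swap_apply_of_ne_of_ne hxz hxw, swap_apply_left]
    have hse : s (prt x) = prt x := by
      rw [hsdef, Perm.mul_apply, swap_apply_of_ne_of_ne hez hew, swap_apply_of_ne_of_ne (hpne x) hey]
    have hRP : R * P = P * R := by
      refine (Perm.Disjoint.commute fun t => ?_).eq
      rcases eq_or_ne t x with rfl | h1
      · exact Or.inr (swap_apply_of_ne_of_ne (fun h => hpx (by rw [h])) (fun h => hpx (by rw [h, hpf])))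
      rcases eq_or_ne t (prt x) with rfl | h2
      · exact Or.inr (swap_apply_of_ne_of_ne (fun h => hpx (by rw [← h, hpf])) (fun h => hpx (by
          have h' := congrArg f h
          rw [hpf, hpf] at h'; exact h'.symm)))
      exact Or.inl (swap_apply_of_ne_of_ne h1 h2)
    refine ⟨s * (R * P) * s⁻¹ * (R * P), mul_mem (mul_mem (mul_mem hsG hr) (inv_mem hsG)) hr, ?_⟩
    have h1 : s * (R * P) * s⁻¹ * (R * P) = swap y (prt x) * R := by
      have h2 : s * R * s⁻¹ = swap y (prt x) := by rw [← swap_apply_apply, hsx, hse]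
      have h3 : s * P * s⁻¹ = P := by rw [hp, mul_assoc, mul_inv_cancel, mul_one]
      calc s * (R * P) * s⁻¹ * (R * P) = (s * R * s⁻¹) * (s * P * s⁻¹) * (P * R) := by rw [hRP]; nth_rw 1 [← hRP]; group
        _ = swap y (prt x) * R := by rw [h2, h3, ← mul_assoc, mul_assoc (swap y (prt x)), swap_mul_self, mul_one]
    rw [h1, swap_comm y (prt x), show R = swap (prt x) x from swap_comm _ _]
    exact isThreeCycle_swap_mul_swap_same hey (hpne x) hxy.symm
  have hcomm : Commute (swap A B) (swap C D) := by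
    refine Perm.Disjoint.commute fun t => ?_
    rcases eq_or_ne t A with rfl | h1
    · exact Or.inr (swap_apply_of_ne_of_ne hAC hAD)
    rcases eq_or_ne t B with rfl | h2
    · exact Or.inr (swap_apply_of_ne_of_ne hBC hBD)
    exact Or.inl (swap_apply_of_ne_of_ne h1 h2)
  have hfAB : f A ≠ f B := fun h => by
    rcases hpair A B h.symm with h' | h'
    · exact hAB h'.symm
    · exact hu h'
  by_cases hA : prt A = C ∨ prt A = D
  · by_cases hB : prt B = C ∨ prt B = D
    · exfalso
      apply hv
      rcases hA with hA | hA <;> rcases hB with hB | hB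
      · exact absurd (congrArg prt (hA.trans hB.symm)) (by rw [hpp, hpp]; exact hAB)
      · exact Or.inl ⟨hA.symm, hB.symm⟩
      · exact Or.inr ⟨hB.symm, hA.symm⟩
      · exact absurd (congrArg prt (hA.trans hB.symm)) (by rw [hpp, hpp]; exact hAB)
    · push_neg at hB
      exact main B A C D (by rwa [swap_comm B A]) hAB.symm hCD hBC hBD hAC hAD hfAB.symm hB.1 hB.2
  · push_neg at hA
    exact main A B C D hs hAB hCD hAC hAD hBC hBD hfAB hA.1 hA.2

end Cfsg.Agent.GeomClasses
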