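import Cfsg.Agent.GeomClasses.UnitaryInSL

/-! # Arbitrary unitary forms: transport to the standard one -/

set_option autoImplicit false

namespace Cfsg.Agent.GeomClasses.Unitary

open Matrix Cfsg.Agent.Forms

variable {F : Type*} [Field F] [Fintype F] {n : ℕ}

theorem exists_congr_std {σ : F ≃+* F} {f : (Fin n → F) → (Fin n → F) → F} (hf : Cfsg.Geo.IsUnitaryForm σ f) :
    ∃ (q : ℕ) (P : GL (Fin n) F), Fintype.card F = q ^ 2 ∧
      ∀ u v, f u v = Cfsg.hermForm n F q ((P : Matrix (Fin n) (Fin n) F) *ᵥ u) ((P : Matrix (Fin n) (Fin n) F) *ᵥ v) := by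
  classical
  have hadd_r : ∀ x y y', f x (y + y') = f x y + f x y' := fun x y y' => by
    rw [hf.herm x (y + y'), hf.add_left, map_add, ← hf.herm, ← hf.herm]
  have hsmul_r : ∀ (c : F) x y, f x (c • y) = σ c * f x y := fun c x y => by
    rw [hf.herm x (c • y), hf.smul_left, map_mul, ← hf.herm]
  let B : (Fin n → F) →ₛₗ[(σ : F →+* F)] (Fin n → F) →ₗ[F] F :=
    LinearMap.mk₂'ₛₗ (σ : F →+* F) (RingHom.id F) (fun x y => f y x) (fun x x' y => hadd_r y x x')
      (fun c x y => hsmul_r c y x) (fun x y y' => hf.add_left y y' x) (fun c x y => hf.smul_left c y x)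
  have hσ : (σ : F →+* F) ≠ RingHom.id F := fun h =>
    hf.ne_refl (RingEquiv.ext fun a => (DFunLike.congr_fun h a : (σ : F →+* F) a = a))
  have hS : B.IsSymm := ⟨fun x y => (hf.herm x y).symm⟩
  have hB : B.Nondegenerate := by
    constructor
    · intro v hv
      by_contra h0
      obtain ⟨⟨x, hx⟩, -⟩ := hf.nondegenerate v h0
      exact hx (hv x)
    · intro v hv
      by_contra h0
      obtain ⟨-, x, hx⟩ := hf.nondegenerate v h0
      exact hx (hv x)
  obtain ⟨q, hF, hH⟩ := isHerm_of_involution hσ hf.involutive hS hB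
  obtain ⟨b, hb⟩ := hH.exists_orthonormal hF
  let b' := b.reindex (finCongr (Module.finrank_fin_fun F))
  have hb' : ∀ i j, f (b' j) (b' i) = if i = j then 1 else 0 := fun i j => by
    show B (b' i) (b' j) = _
    simp only [b', Module.Basis.reindex_apply, hb]
    simp
  let P : GL (Fin n) F := (glEquiv (Fin n) F).symm b'.equivFun
  have hP : ∀ u, (P : Matrix (Fin n) (Fin n) F) *ᵥ u = b'.equivFun u := fun u => glEquiv_symm_mulVec _ u
  refine ⟨q, P, hF, fun u v => ?_⟩
  rw [hP, hP]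
  show B v u = _
  conv_lhs => rw [← b'.sum_equivFun v, ← b'.sum_equivFun u]
  simp only [map_sum, LinearMap.map_smulₛₗ, LinearMap.sum_apply, LinearMap.smul_apply, RingHom.id_apply, smul_eq_mul]
  refine Finset.sum_congr rfl fun i _ => ?_
  rw [Finset.sum_eq_single i]
  · rw [show B (b' i) (b' i) = f (b' i) (b' i) from rfl, hb', if_pos rfl, hH.sigma_eq]
    ring
  · intro j _ hj
    rw [show B (b' j) (b' i) = f (b' i) (b' j) from rfl, hb', if_neg hj]
    ring
  · exact fun h => absurd (Finset.mem_univ i) h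

theorem isMaximalIn_map {G : Type*} [Group G] (e : G ≃* G) {K H : Subgroup G}
    (h : Cfsg.Geo.IsMaximalIn K H) : Cfsg.Geo.IsMaximalIn (K.map e.toMonoidHom) (H.map e.toMonoidHom) := by
  obtain ⟨hlt, hmax⟩ := h
  refine ⟨Subgroup.map_lt_map_iff_of_injective e.injective |>.mpr hlt, fun M hM hMK => ?_⟩
  have e1 : (M.comap e.toMonoidHom).map e.toMonoidHom = M := Subgroup.map_comap_eq_self_of_surjective e.surjective M
  rcases hmax (M.comap e.toMonoidHom) (Subgroup.map_le_iff_le_comap.mp hM) (fun x hx => by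
    obtain ⟨y, hy, hyx⟩ := hMK hx
    exact (e.injective hyx) ▸ hy) with h | h
  · exact Or.inl (by rw [← e1, h])
  · exact Or.inr (by rw [← e1, h])

theorem isMaximalIn_sim_general (hn : 8 ≤ n) {σ : F ≃+* F} {f : (Fin n → F) → (Fin n → F) → F}
    (hf : Cfsg.Geo.IsUnitaryForm σ f) :
    Cfsg.Geo.IsMaximalIn (Cfsg.Geo.specialLinear (Fin n) F)
      (Cfsg.Geo.similarityGroup f ⊓ Cfsg.Geo.specialLinear (Fin n) F) := by
  obtain ⟨q, P, hF, hfP⟩ := exists_congr_std hf
  let e := MulAut.conj P⁻¹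
  have hSL : (Cfsg.Geo.specialLinear (Fin n) F).map e.toMonoidHom = Cfsg.Geo.specialLinear (Fin n) F := by
    haveI : (Cfsg.Geo.specialLinear (Fin n) F).Normal := MonoidHom.normal_ker _
    ext x
    rw [Subgroup.mem_map]
    constructor
    · rintro ⟨y, hy, rfl⟩
      exact Subgroup.Normal.conj_mem inferInstance y hy P⁻¹
    · intro hx
      refine ⟨P * x * P⁻¹, Subgroup.Normal.conj_mem inferInstance x hx P, ?_⟩
      show MulAut.conj P⁻¹ _ = x
      rw [MulAut.conj_apply]; group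
  have hmem : ∀ g : GL (Fin n) F, g ∈ (Cfsg.Geo.similarityGroup (Cfsg.hermForm n F q)).map e.toMonoidHom ↔
      g ∈ Cfsg.Geo.similarityGroup f := by
    intro g
    have key : ∀ x, ((P * g * P⁻¹ : GL (Fin n) F) : Matrix (Fin n) (Fin n) F) *ᵥ ((P : Matrix (Fin n) (Fin n) F) *ᵥ x)
        = (P : Matrix (Fin n) (Fin n) F) *ᵥ ((g : Matrix (Fin n) (Fin n) F) *ᵥ x) := fun x => by
      rw [Matrix.mulVec_mulVec, Matrix.mulVec_mulVec, ← Units.val_mul, ← Units.val_mul, inv_mul_cancel_right]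
    constructor
    · rintro ⟨k, ⟨c, hc⟩, rfl⟩
      refine ⟨c, fun u v => ?_⟩
      have hk : P * (e k) * P⁻¹ = k := by simp only [e, MulAut.conj_apply]; group
      rw [hfP, hfP, ← key, ← key]
      simp only [MulEquiv.coe_toMonoidHom, hk]
      exact hc _ _
    · rintro ⟨c, hc⟩
      refine ⟨P * g * P⁻¹, ⟨c, fun u v => ?_⟩, by
        show MulAut.conj P⁻¹ _ = g
        rw [MulAut.conj_apply]; group⟩
      have hu : ∀ u, (P : Matrix (Fin n) (Fin n) F) *ᵥ (((P⁻¹ : GL (Fin n) F) : Matrix (Fin n) (Fin n) F) *ᵥ u) = u :=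
        fun u => by rw [Matrix.mulVec_mulVec, ← Units.val_mul, mul_inv_cancel, Units.val_one, Matrix.one_mulVec]
      have h1 := hc (((P⁻¹ : GL (Fin n) F) : Matrix (Fin n) (Fin n) F) *ᵥ u) (((P⁻¹ : GL (Fin n) F) : Matrix (Fin n) (Fin n) F) *ᵥ v)
      rwa [hfP, hfP, ← key, ← key, hu, hu] at h1
  have h := isMaximalIn_map e (isMaximalIn_sim hF hn)
  rw [hSL] at h
  convert h using 1
  rw [simSL, Subgroup.map_inf _ _ _ e.injective, hSL]
  ext g
  rw [Subgroup.mem_inf, Subgroup.mem_inf, hmem]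

end Cfsg.Agent.GeomClasses.Unitary
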