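import Cfsg.Agent.GeomClasses.TwoByTwo
import Cfsg.Agent.GeomClasses.Basic
import Cfsg.Agent.GeomClasses.UnitaryInSLGeneral
import Cfsg.Prelude.Def_GeometricClasses

/-! # Subfield groups are maximal in special linear groups -/

set_option autoImplicit false
set_option linter.unusedSectionVars false

namespace Cfsg.Agent.GeomClasses.SubfieldSL

open Matrix Cfsg.Agent.GeomClasses

variable {n : ℕ} {F : Type*} [Field F] {F₀ : Subfield F}

local notation "Vec" => Fin n → F

/-- Rational vectors. -/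
def Rat' (F₀ : Subfield F) {ι : Type*} (v : ι → F) : Prop := ∀ i, v i ∈ F₀

theorem rat_single (i : Fin n) {c : F} (hc : c ∈ F₀) : Rat' F₀ (Pi.single i c : Vec) := fun j => by
  rcases eq_or_ne j i with rfl | h
  · rw [Pi.single_eq_same]; exact hc
  · rw [Pi.single_eq_of_ne h]; exact F₀.zero_mem

theorem rat_one (i : Fin n) : Rat' F₀ (Pi.single i 1 : Vec) := rat_single i F₀.one_mem

theorem dot_single_single {i j : Fin n} (h : j ≠ i) (a b : F) :
    (Pi.single j a : Vec) ⬝ᵥ Pi.single i b = 0 := by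
  rw [single_dotProduct, Pi.single_eq_of_ne h, mul_zero]

theorem tv_smul_comm (c : F) (v w : Vec) (h : w ⬝ᵥ (c • v) = 0) (h' : (c • w) ⬝ᵥ v = 0) :
    tv (c • v) w h = tv v (c • w) h' := by
  refine Units.ext (Matrix.ext_iff_mulVec.mpr fun x => ?_)
  rw [tv_mulVec, tv_mulVec, smul_dotProduct, smul_smul, smul_eq_mul, mul_comm]

theorem tv_congr {v w v' w' : Vec} (h : w ⬝ᵥ v = 0) (hv : v = v') (hw : w = w') :
    tv v w h = tv v' w' (hv ▸ hw ▸ h) := by
  subst hv hw; rfl

/-- The commutator of two transvections. -/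
theorem tv_comm_mem {M : Subgroup (GL (Fin n) F)} {v w v' w' : Vec} {h : w ⬝ᵥ v = 0} {h' : w' ⬝ᵥ v' = 0}
    (hu : tv v w h ∈ M) (hu' : tv v' w' h' ∈ M) (h0 : w' ⬝ᵥ v = 0)
    (hd : w' ⬝ᵥ ((w ⬝ᵥ v') • v) = 0) : tv ((w ⬝ᵥ v') • v) w' hd ∈ M := by
  have key : tv v w h * tv v' w' h' = tv ((w ⬝ᵥ v') • v) w' hd * (tv v' w' h' * tv v w h) := by
    refine Units.ext (Matrix.ext_iff_mulVec.mpr fun x => ?_)
    simp only [Units.val_mul, ← Matrix.mulVec_mulVec, tv_mulVec]
    simp only [dotProduct_add, dotProduct_smul, smul_eq_mul, h', h0, smul_smul, mul_zero, add_zero, mul_one, add_smul]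
    module
  rw [eq_mul_inv_of_mul_eq key.symm]
  exact M.mul_mem (M.mul_mem hu hu') (M.inv_mem (M.mul_mem hu' hu))

/-- Conjugates of transvections. -/
theorem conj_tv (g : (GL (Fin n) F)) (v w : Vec) (h : w ⬝ᵥ v = 0) :
    ∃ h', g * tv v w h * g⁻¹ =
      tv ((g : Matrix (Fin n) (Fin n) F) *ᵥ v) (w ᵥ* ((g⁻¹ : (GL (Fin n) F)) : Matrix (Fin n) (Fin n) F)) h' := by
  refine ⟨?_, Units.ext ?_⟩
  · rw [← Matrix.dotProduct_mulVec, Matrix.mulVec_mulVec, ← Units.val_mul, inv_mul_cancel, Units.val_one,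
      Matrix.one_mulVec, h]
  · simp only [Units.val_mul, tv_val, mul_add, add_mul, mul_one]
    rw [← Units.val_mul, mul_inv_cancel, Units.val_one, Matrix.mul_vecMulVec, Matrix.vecMulVec_mul]

theorem mem_range_of_rat {g : (GL (Fin n) F)} (h : ∀ i j, (g : Matrix (Fin n) (Fin n) F) i j ∈ F₀) :
    g ∈ (Matrix.GeneralLinearGroup.map (n := Fin n) (F₀.subtype : F₀ →+* F)).range := by
  let A : Matrix (Fin n) (Fin n) F₀ := fun i j => ⟨_, h i j⟩
  have hA : (F₀.subtype).mapMatrix A = (g : Matrix (Fin n) (Fin n) F) := rfl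
  have hdet : A.det ≠ 0 := fun h0 => by
    have h1 := RingHom.map_det (F₀.subtype : F₀ →+* F) A
    rw [hA, h0, map_zero] at h1
    exact g.det_ne_zero h1.symm
  refine ⟨Matrix.GeneralLinearGroup.mkOfDetNeZero A hdet, Units.ext ?_⟩
  exact hA

theorem entries_mem {g : (GL (Fin n) F)} (hg : g ∈ (Matrix.GeneralLinearGroup.map (n := Fin n) (F₀.subtype : F₀ →+* F)).range)
    (i j : Fin n) : (g : Matrix (Fin n) (Fin n) F) i j ∈ F₀ := by
  obtain ⟨g', rfl⟩ := hg
  exact ((g' : Matrix (Fin n) (Fin n) F₀) i j).2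

variable [Fintype F] {r : ℕ}

theorem subalgebra_top (hr : r.Prime) (hcard : Fintype.card F = Nat.card F₀ ^ r) (A : Subalgebra F₀ F) {a : F}
    (ha : a ∈ A) (h0 : a ∉ F₀) : A = ⊤ := by
  classical
  haveI : Fintype F₀ := Fintype.ofFinite _
  have hrk : Module.finrank F₀ F = r := by
    have h1 := Module.card_eq_pow_finrank (K := F₀) (V := F)
    rw [hcard, Nat.card_eq_fintype_card] at h1
    exact (Nat.pow_right_injective Fintype.one_lt_card h1).symm
  haveI := Subalgebra.isSimpleOrder_of_finrank_prime F₀ F (hrk ▸ hr)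
  refine (eq_bot_or_eq_top A).resolve_left fun hA => ?_
  rw [hA, Algebra.mem_bot] at ha
  obtain ⟨b, hb⟩ := ha
  exact h0 (hb ▸ b.2)

/-- Setting: a subgroup containing the rational elements of determinant one. -/
structure Setting (F₀ : Subfield F) (r : ℕ) (M : Subgroup (GL (Fin n) F)) : Prop where
  three : 3 ≤ n
  prime : r.Prime
  card : Fintype.card F = Nat.card F₀ ^ r
  rat : ∀ g : GL (Fin n) F, g ∈ Cfsg.Geo.specialLinear (Fin n) F →
    (∀ i j, (g : Matrix (Fin n) (Fin n) F) i j ∈ F₀) → g ∈ M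

variable {M : Subgroup (GL (Fin n) F)}

theorem Setting.tv_mem (S : Setting F₀ r M) {v w : Vec} (hv : Rat' F₀ v) (hw : Rat' F₀ w) (h : w ⬝ᵥ v = 0) :
    tv v w h ∈ M := by
  refine S.rat _ (tv_mem_specialLinear _ _ _) fun i j => ?_
  rw [tv_val, Matrix.add_apply, Matrix.vecMulVec_apply, Matrix.one_apply]
  refine F₀.add_mem ?_ (F₀.mul_mem (hv i) (hw j))
  split_ifs
  · exact F₀.one_mem
  · exact F₀.zero_mem

/-- The elementary parameter at `(i, j)`. -/
def El (M : Subgroup (GL (Fin n) F)) (i j : Fin n) (s : F) : Prop :=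
  ∀ h, tv (Pi.single i s : Fin n → F) (Pi.single j 1) h ∈ M

theorem smul_single' (s a : F) (i : Fin n) : s • (Pi.single i a : Vec) = Pi.single i (s * a) := by
  rw [← Pi.single_smul, smul_eq_mul]

theorem third (hn : 3 ≤ n) (i j : Fin n) : ∃ k, k ≠ i ∧ k ≠ j := by
  classical
  have h2 : ({i, j} : Finset (Fin n)).card ≤ 2 := (Finset.card_insert_le _ _).trans (by simp)
  obtain ⟨k, hk⟩ := Finset.exists_mem_notMem_of_card_lt_card (s := ({i, j} : Finset (Fin n))) (t := Finset.univ)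
    (by rw [Finset.card_univ, Fintype.card_fin]; omega)
  exact ⟨k, by simpa [not_or] using hk.2⟩

theorem El.left (S : Setting F₀ r M) {i j l : Fin n} {s : F} (h : El M i j s) (hij : i ≠ j) (hli : l ≠ i)
    (hlj : l ≠ j) : El M l j s := fun hd => by
  have h1 := tv_comm_mem (S.tv_mem (rat_one l) (rat_one i) (dot_single_single (Ne.symm hli) 1 1))
    (h (dot_single_single (Ne.symm hij) 1 s)) (dot_single_single (Ne.symm hlj) 1 1)
    (by rw [dotProduct_smul, dot_single_single (Ne.symm hlj), smul_zero])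
  convert h1 using 1
  refine tv_congr hd ?_ rfl
  rw [smul_single', single_dotProduct, Pi.single_eq_same, one_mul, mul_one]

theorem El.right (S : Setting F₀ r M) {i j l : Fin n} {s : F} (h : El M i j s) (hij : i ≠ j) (hli : l ≠ i)
    (hlj : l ≠ j) : El M i l s := fun hd => by
  have h1 := tv_comm_mem (h (dot_single_single (Ne.symm hij) 1 s))
    (S.tv_mem (rat_one j) (rat_one l) (dot_single_single hlj 1 1)) (dot_single_single hli 1 s)
    (by rw [dotProduct_smul, dot_single_single hli, smul_zero])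
  convert h1 using 1
  refine tv_congr hd ?_ rfl
  rw [smul_single', single_dotProduct, Pi.single_eq_same, one_mul, one_mul]

theorem El.all (S : Setting F₀ r M) {i j : Fin n} {s : F} (h : El M i j s) (hij : i ≠ j) {l m : Fin n}
    (hlm : l ≠ m) : El M l m s := by
  obtain ⟨k, hki, hkl⟩ := third S.three i l
  have h1 : El M i k s := by
    rcases eq_or_ne k j with rfl | hkj
    · exact h
    · exact h.right S hij hki hkj
  have h2 : El M l k s := by
    rcases eq_or_ne l i with rfl | hli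
    · exact h1
    · exact h1.left S (Ne.symm hki) hli (Ne.symm hkl)
  rcases eq_or_ne m k with rfl | hmk
  · exact h2
  · exact h2.right S (Ne.symm hkl) (Ne.symm hlm) hmk

theorem El.mul (S : Setting F₀ r M) {s t : F} (hs : ∀ i j, i ≠ j → El M i j s) (ht : ∀ i j, i ≠ j → El M i j t)
    (i j : Fin n) (hij : i ≠ j) : El M i j (s * t) := fun hd => by
  obtain ⟨k, hki, hkj⟩ := third S.three i j
  have h1 := tv_comm_mem (hs i k (Ne.symm hki) (dot_single_single hki 1 s))
    (ht k j hkj (dot_single_single (Ne.symm hkj) 1 t)) (dot_single_single (Ne.symm hij) 1 s)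
    (by rw [dotProduct_smul, dot_single_single (Ne.symm hij), smul_zero])
  convert h1 using 1
  refine tv_congr hd ?_ rfl
  rw [smul_single', single_dotProduct, Pi.single_eq_same, one_mul, mul_comm t s]

/-- One non-rational elementary transvection gives everything. -/
theorem Setting.top_of_el (S : Setting F₀ r M) {i j : Fin n} (hij : i ≠ j) {s : F} (hs : s ∉ F₀)
    (h : El M i j s) : Cfsg.Geo.specialLinear (Fin n) F ≤ M := by
  let A : Subalgebra F₀ F :=
    { carrier := {a | ∀ i j : Fin n, i ≠ j → El M i j a}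
      mul_mem' := fun {a b} ha hb => El.mul S ha hb
      one_mem' := fun i j _ hd => S.tv_mem (rat_one i) (rat_one j) hd
      add_mem' := fun {a b} ha hb i j hij hd => by
        have e : tv (Pi.single i (a + b) : Vec) (Pi.single j 1) hd =
            tv (Pi.single i a) (Pi.single j 1) (dot_single_single (Ne.symm hij) 1 a) *
              tv (Pi.single i b) (Pi.single j 1) (dot_single_single (Ne.symm hij) 1 b) := by
          refine Units.ext (Matrix.ext_iff_mulVec.mpr fun x => ?_)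
          rw [Units.val_mul, ← Matrix.mulVec_mulVec]
          simp only [tv_mulVec, Pi.single_add, dotProduct_add, dotProduct_smul, dot_single_single (Ne.symm hij),
            smul_zero, add_zero, smul_add]
          abel
        rw [e]; exact M.mul_mem (ha i j hij _) (hb i j hij _)
      zero_mem' := fun i j _ hd => S.tv_mem (rat_single i F₀.zero_mem) (rat_one j) hd
      algebraMap_mem' := fun a i j _ hd => S.tv_mem (rat_single i a.2) (rat_one j) hd }
  have hA : A = ⊤ := subalgebra_top S.prime S.card A (a := s) (fun l m hlm => h.all S hij hlm) hs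
  have hall : ∀ (a : F) (i j : Fin n), i ≠ j → El M i j a := fun a => (hA ▸ Algebra.mem_top : a ∈ A)
  intro g hg
  let B : Matrix.SpecialLinearGroup (Fin n) F := ⟨(g : Matrix (Fin n) (Fin n) F), mem_specialLinear_iff.mp hg⟩
  suffices ∀ B : Matrix.SpecialLinearGroup (Fin n) F, Matrix.SpecialLinearGroup.toGL B ∈ M by
    have := this B
    rwa [show Matrix.SpecialLinearGroup.toGL B = g from Units.ext rfl] at this
  intro B
  haveI : Nontrivial (Fin n) := ⟨⟨i, j, hij⟩⟩
  classical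
  induction B using Cfsg.Agent.Linear.transvection_induction with
  | ht i j hij c =>
    convert hall c i j hij (dot_single_single (Ne.symm hij) 1 c) using 1
    refine Units.ext ?_
    show Matrix.transvection i j c = _
    rw [tv_val, Matrix.transvection]
    congr 1
    ext x y
    simp only [Matrix.vecMulVec_apply, Matrix.single_apply, Pi.single_apply]
    by_cases h1 : x = i <;> by_cases h2 : y = j <;> simp [h1, h2, Ne.symm, eq_comm (a := i), eq_comm (a := j)]
  | hmul A B hA hB => rw [map_mul]; exact M.mul_mem hA hB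

/-- A rational centre and axis with a non-rational scalar. -/
theorem Setting.top_of_scaled (S : Setting F₀ r M) {a w : Vec} (ha : Rat' F₀ a) (ha0 : a ≠ 0) (hw : Rat' F₀ w)
    (hw0 : w ≠ 0) (hd : w ⬝ᵥ a = 0) {c : F} (hc : c ∉ F₀) (hm : ∀ h, tv (c • a) w h ∈ M) :
    Cfsg.Geo.specialLinear (Fin n) F ≤ M := by
  obtain ⟨d, hd0⟩ : ∃ d, a d ≠ 0 := Function.ne_iff.mp ha0
  obtain ⟨e, he0⟩ : ∃ e, w e ≠ 0 := Function.ne_iff.mp hw0
  have hu : tv (c • a) w (by rw [dotProduct_smul, hd, smul_zero]) ∈ M := hm _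
  -- a rational centre with two-element support, killed by `w` and vanishing at `d`
  obtain ⟨l, m, v, hv, hv0, hvd, hvw, hsupp, hl, hm'⟩ : ∃ (l m : Fin n) (v : Vec), Rat' F₀ v ∧ v ≠ 0 ∧ v d = 0 ∧
      w ⬝ᵥ v = 0 ∧ (∀ i, i ≠ l → i ≠ m → v i = 0) ∧ l ≠ d ∧ m ≠ d := by
    by_cases h : ∃ i, i ≠ d ∧ w i = 0
    · obtain ⟨i, hid, hi⟩ := h
      exact ⟨i, i, Pi.single i 1, rat_one i, Pi.single_ne_zero_iff.mpr one_ne_zero, Pi.single_eq_of_ne (Ne.symm hid) _,
        by rw [dotProduct_single, mul_one, hi], fun k hk _ => Pi.single_eq_of_ne hk _, hid, hid⟩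
    · push Not at h
      obtain ⟨i, hi, -⟩ := third S.three d d
      obtain ⟨j, hj, hji⟩ := third S.three d i
      refine ⟨i, j, Pi.single i (w j) - Pi.single j (w i), fun k => ?_, fun h0 => h j hj ?_, ?_, ?_, fun k hk hk' => ?_,
        hi, hj⟩
      · exact F₀.sub_mem (rat_single i (hw j) k) (rat_single j (hw i) k)
      · have := congrFun h0 i
        simpa [Pi.single_eq_of_ne (Ne.symm hji)] using this
      · simp [Pi.single_eq_of_ne (Ne.symm hi), Pi.single_eq_of_ne (Ne.symm hj)]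
      · rw [dotProduct_sub, dotProduct_single, dotProduct_single, mul_comm, sub_self]
      · simp [Pi.single_eq_of_ne hk, Pi.single_eq_of_ne hk']
  have hdd : ∀ {x : Vec}, x d = 0 → (Pi.single d (a d)⁻¹ : Vec) ⬝ᵥ x = 0 := fun {x} hx => by
    rw [single_dotProduct, hx, mul_zero]
  have h1 : tv (c • v) w (by rw [dotProduct_smul, hvw, smul_zero]) ∈ M := by
    have := tv_comm_mem (S.tv_mem hv (rat_single d (F₀.inv_mem (ha d))) (hdd hvd)) hu hvw
      (by rw [dotProduct_smul, hvw, smul_zero])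
    convert this using 1
    refine tv_congr _ ?_ rfl
    rw [single_dotProduct, Pi.smul_apply, smul_eq_mul, mul_comm c, ← mul_assoc, inv_mul_cancel₀ hd0, one_mul]
  -- move the axis to a coordinate outside the support
  obtain ⟨j, hjd⟩ : ∃ j, v j = 0 ∧ ∃ e, e ≠ j ∧ w e ≠ 0 := by
    by_cases h : ∃ e, e ≠ d ∧ w e ≠ 0
    · exact ⟨d, hvd, h⟩
    · push Not at h
      have hed : e = d := by_contra fun hne => he0 (h e hne)
      obtain ⟨k, hk⟩ : ∃ k, v k = 0 ∧ k ≠ d := by
        by_contra hcon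
        push Not at hcon
        exact hd0 (by
          have hwd : w ⬝ᵥ a = w d * a d :=
            Finset.sum_eq_single d (fun i _ hi => by rw [h i hi, zero_mul]) (fun hh => absurd (Finset.mem_univ d) hh)
          rw [hwd] at hd
          exact (mul_eq_zero.mp hd).resolve_left (hed ▸ he0))
      exact ⟨k, hk.1, d, Ne.symm hk.2, hed ▸ he0⟩
  obtain ⟨hvj, e', he'j, he'⟩ := hjd
  have h2 : tv (c • v) (Pi.single j 1) (by rw [dotProduct_smul, single_dotProduct, hvj, mul_zero, smul_zero]) ∈ M := by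
    have := tv_comm_mem h1 (S.tv_mem (rat_single e' (F₀.inv_mem (hw e'))) (rat_one j) (dot_single_single (Ne.symm he'j) 1 _))
      (by rw [dotProduct_smul, single_dotProduct, hvj, mul_zero, smul_zero])
      (by rw [dotProduct_smul, dotProduct_smul, single_dotProduct, hvj, mul_zero, smul_zero, smul_zero])
    convert this using 1
    refine tv_congr _ ?_ rfl
    rw [dotProduct_single, mul_inv_cancel₀ he', one_smul]
  obtain ⟨k, hk⟩ : ∃ k, v k ≠ 0 := Function.ne_iff.mp hv0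
  obtain ⟨i, hik, hij⟩ := third S.three k j
  have hkj : k ≠ j := fun h => hk (h ▸ hvj)
  refine S.top_of_el (i := i) (j := j) hij hc fun hd' => ?_
  have := tv_comm_mem (S.tv_mem (rat_one i) (rat_single k (F₀.inv_mem (hv k))) (dot_single_single (Ne.symm hik) _ 1)) h2
    (dot_single_single (Ne.symm hij) 1 1) (by rw [dotProduct_smul, dot_single_single (Ne.symm hij), smul_zero])
  convert this using 1
  refine tv_congr _ ?_ rfl
  rw [single_dotProduct, Pi.smul_apply, smul_eq_mul, mul_comm c, ← mul_assoc, inv_mul_cancel₀ hk, one_mul,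
    smul_single', mul_one]

theorem exists_ker {w : Vec} (hw : Rat' F₀ w) (hn : 3 ≤ n) (p : Fin n) :
    ∃ a : Vec, Rat' F₀ a ∧ a ≠ 0 ∧ a p = 0 ∧ w ⬝ᵥ a = 0 := by
  obtain ⟨i, hi, -⟩ := third hn p p
  obtain ⟨j, hj, hji⟩ := third hn p i
  by_cases h : w i = 0
  · exact ⟨Pi.single i 1, rat_one i, Pi.single_ne_zero_iff.mpr one_ne_zero, Pi.single_eq_of_ne (Ne.symm hi) _,
      by rw [dotProduct_single, mul_one, h]⟩
  · refine ⟨Pi.single i (w j) - Pi.single j (w i), fun k => F₀.sub_mem (rat_single i (hw j) k) (rat_single j (hw i) k),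
      fun h0 => h ?_, ?_, ?_⟩
    · have := congrFun h0 j
      simpa [Pi.single_eq_of_ne hji] using this
    · simp [Pi.single_eq_of_ne (Ne.symm hi), Pi.single_eq_of_ne (Ne.symm hj)]
    · rw [dotProduct_sub, dotProduct_single, dotProduct_single, mul_comm, sub_self]

/-- A rational axis with a non-rational centre. -/
theorem Setting.top_of_axis (S : Setting F₀ r M) {b w : Vec} {h : w ⬝ᵥ b = 0} (hu : tv b w h ∈ M) (hw : Rat' F₀ w)
    (hw0 : w ≠ 0) (hb : ¬ Rat' F₀ b) : Cfsg.Geo.specialLinear (Fin n) F ≤ M := by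
  obtain ⟨p, hp⟩ : ∃ p, b p ∉ F₀ := by simpa [Rat'] using hb
  obtain ⟨a, ha, ha0, hap, hwa⟩ := exists_ker hw S.three p
  have hpa : (Pi.single p (1 : F) : Vec) ⬝ᵥ a = 0 := by rw [single_dotProduct, hap, mul_zero]
  refine S.top_of_scaled ha ha0 hw hw0 hwa hp fun hd => ?_
  have := tv_comm_mem (S.tv_mem ha (rat_one p) hpa) hu hwa (by rw [dotProduct_smul, hwa, smul_zero])
  convert this using 1
  refine tv_congr _ ?_ rfl
  rw [single_dotProduct, one_mul]

/-- A rational centre with a non-rational axis. -/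
theorem Setting.top_of_center (S : Setting F₀ r M) {v φ : Vec} {h : φ ⬝ᵥ v = 0} (hu : tv v φ h ∈ M) (hv : Rat' F₀ v)
    (hv0 : v ≠ 0) (hb : ¬ Rat' F₀ φ) : Cfsg.Geo.specialLinear (Fin n) F ≤ M := by
  obtain ⟨p, hp⟩ : ∃ p, φ p ∉ F₀ := by simpa [Rat'] using hb
  obtain ⟨w, hw, hw0, hwp, hwv⟩ := exists_ker hv S.three p
  have hwv' : w ⬝ᵥ v = 0 := by rw [dotProduct_comm]; exact hwv
  have hwp' : w ⬝ᵥ (Pi.single p (1 : F) : Vec) = 0 := by rw [dotProduct_single, hwp, zero_mul]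
  refine S.top_of_scaled hv hv0 hw hw0 hwv' hp fun hd => ?_
  have := tv_comm_mem hu (S.tv_mem (rat_one p) hw hwp') hwv' (by rw [dotProduct_smul, hwv', smul_zero])
  convert this using 1
  refine tv_congr _ ?_ rfl
  rw [dotProduct_single, mul_one]

/-- The products of the entries of centre and axis are rational. -/
def Scaled (F₀ : Subfield F) (x φ : Fin n → F) : Prop := ∀ i j, x i * φ j ∈ F₀

theorem ne_zero_of_dot {x φ : Vec} (h : φ ⬝ᵥ x ≠ 0) : φ ≠ 0 ∧ x ≠ 0 :=
  ⟨fun e => h (by rw [e, zero_dotProduct]), fun e => h (by rw [e, dotProduct_zero])⟩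

theorem Setting.case_kernel (S : Setting F₀ r M) {x φ : Vec} {h : φ ⬝ᵥ x = 0} (hu : tv x φ h ∈ M) {a : Vec}
    (ha : Rat' F₀ a) (ha0 : a ≠ 0) (hφa : φ ⬝ᵥ a = 0) :
    Cfsg.Geo.specialLinear (Fin n) F ≤ M ∨ Scaled F₀ x φ := by
  obtain ⟨d, hd⟩ : ∃ d, a d ≠ 0 := Function.ne_iff.mp ha0
  by_cases hp : ∃ p, a d * x p ≠ a p * x d
  · obtain ⟨p, hp⟩ := hp
    set ψ : Vec := Pi.single p (a d) - Pi.single d (a p) with hψ
    have hψr : Rat' F₀ ψ := fun k => F₀.sub_mem (rat_single p (ha d) k) (rat_single d (ha p) k)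
    have hψa : ψ ⬝ᵥ a = 0 := by rw [hψ, sub_dotProduct, single_dotProduct, single_dotProduct, mul_comm, sub_self]
    have hs : ψ ⬝ᵥ x ≠ 0 := by rw [hψ, sub_dotProduct, single_dotProduct, single_dotProduct]; exact sub_ne_zero.mpr hp
    generalize hsdef : ψ ⬝ᵥ x = s at hs
    have hc := tv_comm_mem (S.tv_mem ha hψr hψa) hu hφa (by rw [dotProduct_smul, hφa, smul_zero])
    have h2 : tv a (s • φ) (by rw [smul_dotProduct, hφa, smul_zero]) ∈ M := by
      have hd0 : φ ⬝ᵥ (s • a) = 0 := by rw [dotProduct_smul, hφa, smul_zero]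
      rw [← tv_smul_comm s a φ hd0]
      convert hc using 1
      exact tv_congr hd0 (by rw [hsdef]) rfl
    by_cases hφ' : Rat' F₀ (s • φ)
    · have h3 : tv (s⁻¹ • x) (s • φ) (by rw [smul_dotProduct, dotProduct_smul, h, smul_zero, smul_zero]) ∈ M := by
        convert hu using 1
        refine Units.ext (Matrix.ext_iff_mulVec.mpr fun y => ?_)
        rw [tv_mulVec, tv_mulVec, smul_dotProduct, smul_smul, smul_eq_mul, mul_right_comm, mul_inv_cancel₀ hs, one_mul]
      by_cases hx' : Rat' F₀ (s⁻¹ • x)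
      · refine Or.inr fun i j => ?_
        have := F₀.mul_mem (hx' i) (hφ' j)
        rwa [Pi.smul_apply, Pi.smul_apply, smul_eq_mul, smul_eq_mul, mul_mul_mul_comm, inv_mul_cancel₀ hs, one_mul] at this
      · by_cases hφ0 : φ = 0
        · exact Or.inr fun i j => by rw [hφ0, Pi.zero_apply, mul_zero]; exact F₀.zero_mem
        exact Or.inl (S.top_of_axis h3 hφ' (smul_ne_zero hs hφ0) hx')
    · exact Or.inl (S.top_of_center h2 ha ha0 hφ')
  · push Not at hp
    have hx : x = (x d * (a d)⁻¹) • a := funext fun p => by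
      rw [Pi.smul_apply, smul_eq_mul, eq_comm]
      have := hp p
      field_simp
      linear_combination -this
    generalize x d * (a d)⁻¹ = k at hx
    have hd0 : (k • φ) ⬝ᵥ a = 0 := by rw [smul_dotProduct, hφa, smul_zero]
    have h2 : tv a (k • φ) hd0 ∈ M := by
      rw [← tv_smul_comm k a φ (hx ▸ h)]
      convert hu using 1
      exact tv_congr _ hx.symm rfl
    by_cases hφ' : Rat' F₀ (k • φ)
    · refine Or.inr fun i j => ?_
      have := F₀.mul_mem (ha i) (hφ' j)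
      rw [Pi.smul_apply, smul_eq_mul, ← mul_assoc, mul_comm (a i) k] at this
      rw [hx]
      exact this
    · exact Or.inl (S.top_of_center h2 ha ha0 hφ')

theorem Setting.case_cokernel (S : Setting F₀ r M) {x φ : Vec} {h : φ ⬝ᵥ x = 0} (hu : tv x φ h ∈ M) {ψ : Vec}
    (hψr : Rat' F₀ ψ) (hψ0 : ψ ≠ 0) (hψx : ψ ⬝ᵥ x = 0) :
    Cfsg.Geo.specialLinear (Fin n) F ≤ M ∨ Scaled F₀ x φ := by
  obtain ⟨d, hd⟩ : ∃ d, ψ d ≠ 0 := Function.ne_iff.mp hψ0
  by_cases hp : ∃ p, ψ d * φ p ≠ ψ p * φ d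
  · obtain ⟨p, hp⟩ := hp
    set a : Vec := Pi.single p (ψ d) - Pi.single d (ψ p) with ha'
    have har : Rat' F₀ a := fun k => F₀.sub_mem (rat_single p (hψr d) k) (rat_single d (hψr p) k)
    have hψa : ψ ⬝ᵥ a = 0 := by rw [ha', dotProduct_sub, dotProduct_single, dotProduct_single, mul_comm, sub_self]
    have hs : φ ⬝ᵥ a ≠ 0 := by
      rw [ha', dotProduct_sub, dotProduct_single, dotProduct_single, mul_comm, mul_comm (φ d)]
      exact sub_ne_zero.mpr hp
    generalize hsdef : φ ⬝ᵥ a = s at hs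
    have hc := tv_comm_mem hu (S.tv_mem har hψr hψa) hψx (by rw [dotProduct_smul, hψx, smul_zero])
    have h2 : tv (s • x) ψ (by rw [dotProduct_smul, hψx, smul_zero]) ∈ M := by
      convert hc using 1
      exact tv_congr _ (by rw [hsdef]) rfl
    by_cases hx' : Rat' F₀ (s • x)
    · have h3 : tv (s • x) (s⁻¹ • φ) (by rw [smul_dotProduct, dotProduct_smul, h, smul_zero, smul_zero]) ∈ M := by
        convert hu using 1
        refine Units.ext (Matrix.ext_iff_mulVec.mpr fun y => ?_)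
        rw [tv_mulVec, tv_mulVec, smul_dotProduct, smul_smul, smul_eq_mul, mul_right_comm, inv_mul_cancel₀ hs, one_mul]
      by_cases hφ' : Rat' F₀ (s⁻¹ • φ)
      · refine Or.inr fun i j => ?_
        have := F₀.mul_mem (hx' i) (hφ' j)
        rwa [Pi.smul_apply, Pi.smul_apply, smul_eq_mul, smul_eq_mul, mul_mul_mul_comm, mul_inv_cancel₀ hs, one_mul] at this
      · by_cases hx0 : x = 0
        · exact Or.inr fun i j => by rw [hx0, Pi.zero_apply, zero_mul]; exact F₀.zero_mem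
        exact Or.inl (S.top_of_center h3 hx' (smul_ne_zero hs hx0) hφ')
    · exact Or.inl (S.top_of_axis h2 hψr hψ0 hx')
  · push Not at hp
    have hx : φ = (φ d * (ψ d)⁻¹) • ψ := funext fun p => by
      rw [Pi.smul_apply, smul_eq_mul, eq_comm]
      have := hp p
      field_simp
      linear_combination -this
    generalize φ d * (ψ d)⁻¹ = k at hx
    have hd0 : ψ ⬝ᵥ (k • x) = 0 := by rw [dotProduct_smul, hψx, smul_zero]
    have h2 : tv (k • x) ψ hd0 ∈ M := by
      rw [tv_smul_comm k x ψ hd0 (hx ▸ h)]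
      convert hu using 1
      exact tv_congr _ rfl hx.symm
    by_cases hx' : Rat' F₀ (k • x)
    · refine Or.inr fun i j => ?_
      have := F₀.mul_mem (hx' i) (hψr j)
      rw [Pi.smul_apply, smul_eq_mul, mul_comm k, mul_assoc] at this
      rw [hx]
      exact this
    · exact Or.inl (S.top_of_axis h2 hψr hψ0 hx')

/-- The `2 × 2` action on the two coordinates `f`, `f'` of the elements of `M` fixing their common kernel. -/
def planeGroup (M : Subgroup (GL (Fin n) F)) (f f' : Fin n → F) : Subgroup (Dickson.SL2 F) where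
  carrier := {s | ∃ g ∈ M, (∀ w, f ⬝ᵥ w = 0 → f' ⬝ᵥ w = 0 → (g : Matrix (Fin n) (Fin n) F) *ᵥ w = w) ∧
    ∀ v, f ⬝ᵥ ((g : Matrix (Fin n) (Fin n) F) *ᵥ v) = s 0 0 * (f ⬝ᵥ v) + s 0 1 * (f' ⬝ᵥ v) ∧
      f' ⬝ᵥ ((g : Matrix (Fin n) (Fin n) F) *ᵥ v) = s 1 0 * (f ⬝ᵥ v) + s 1 1 * (f' ⬝ᵥ v)}
  one_mem' := ⟨1, M.one_mem, fun w _ _ => by simp, fun v => by simp⟩
  mul_mem' := by
    rintro s t ⟨g, hg, hgf, hgs⟩ ⟨g', hg', hgf', hgs'⟩
    refine ⟨g * g', M.mul_mem hg hg', fun w h1 h2 => ?_, fun v => ⟨?_, ?_⟩⟩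
    · rw [Units.val_mul, ← Matrix.mulVec_mulVec, hgf' w h1 h2, hgf w h1 h2]
    all_goals
      rw [Units.val_mul, ← Matrix.mulVec_mulVec]
      simp only [hgs _, hgs' v, Dickson.mul_apply2]
      ring
  inv_mem' := by
    rintro s ⟨g, hg, hgf, hgs⟩
    refine ⟨g⁻¹, M.inv_mem hg, fun w h1 h2 => ?_, fun v => ?_⟩
    · conv_lhs => rw [← hgf w h1 h2]
      rw [Matrix.mulVec_mulVec, ← Units.val_mul, inv_mul_cancel, Units.val_one, Matrix.one_mulVec]
    · have h := hgs (((g⁻¹ : (GL (Fin n) F)) : Matrix (Fin n) (Fin n) F) *ᵥ v)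
      rw [Matrix.mulVec_mulVec, ← Units.val_mul, mul_inv_cancel, Units.val_one, Matrix.one_mulVec] at h
      have hdet := Dickson.det_eq s
      simp only [Dickson.inv00, Dickson.inv01, Dickson.inv10, Dickson.inv11]
      constructor
      · linear_combination -(s 1 1) * h.1 + (s 0 1) * h.2 - (f ⬝ᵥ (((g⁻¹ : (GL (Fin n) F)) : Matrix (Fin n) (Fin n) F) *ᵥ v)) * hdet
      · linear_combination (s 1 0) * h.1 - (s 0 0) * h.2 - (f' ⬝ᵥ (((g⁻¹ : (GL (Fin n) F)) : Matrix (Fin n) (Fin n) F) *ᵥ v)) * hdet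

theorem Setting.case_injective (S : Setting F₀ r M) {x φ : Vec} {h : φ ⬝ᵥ x = 0} (hu : tv x φ h ∈ M)
    (hφ : ∀ a, Rat' F₀ a → φ ⬝ᵥ a = 0 → a = 0) (hx : ∀ ψ, Rat' F₀ ψ → ψ ⬝ᵥ x = 0 → ψ = 0) :
    Cfsg.Geo.specialLinear (Fin n) F ≤ M := by
  have hn := S.three
  set e0 : Fin n := ⟨0, by omega⟩ with he0
  set e1 : Fin n := ⟨1, by omega⟩ with he1
  set e2 : Fin n := ⟨2, by omega⟩ with he2
  have h01 : e0 ≠ e1 := by simp [he0, he1]
  have h02 : e0 ≠ e2 := by simp [he0, he2]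
  have h12 : e1 ≠ e2 := by simp [he1, he2]
  have hx0 : x e0 ≠ 0 := fun hz => by
    have := congrFun (hx (Pi.single e0 1) (rat_one e0) (by rw [single_dotProduct, hz, mul_zero])) e0
    simp at this
  have hφne : ∀ i, φ i ≠ 0 := fun i hz => by
    have := congrFun (hφ (Pi.single i 1) (rat_one i) (by rw [dotProduct_single, hz, zero_mul])) i
    simp at this
  set ψ : Vec := Pi.single e0 1 with hψ
  have hψdot : ∀ v : Vec, ψ ⬝ᵥ v = v e0 := fun v => by rw [hψ, single_dotProduct, one_mul]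
  set f : Vec := (x e0)⁻¹ • ψ with hf
  set f' : Vec := (φ e1)⁻¹ • φ with hf'
  have hfdot : ∀ v, f ⬝ᵥ v = (x e0)⁻¹ * v e0 := fun v => by rw [hf, smul_dotProduct, hψdot, smul_eq_mul]
  have hf'dot : ∀ v, f' ⬝ᵥ v = (φ e1)⁻¹ * (φ ⬝ᵥ v) := fun v => by rw [hf', smul_dotProduct, smul_eq_mul]
  -- the upper element
  have hupper : Dickson.uel (φ e1) ∈ planeGroup M f f' := by
    refine ⟨tv x φ h, hu, fun w h1 h2 => ?_, fun v => ⟨?_, ?_⟩⟩
    · rw [tv_mulVec]
      rw [hf'dot] at h2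
      rw [(mul_eq_zero.mp h2).resolve_left (inv_ne_zero (hφne e1)), zero_smul, add_zero]
    · rw [tv_mulVec, dotProduct_add, dotProduct_smul, hfdot x, inv_mul_cancel₀ hx0, Dickson.uel00, Dickson.uel01,
        hf'dot, smul_eq_mul, mul_one, one_mul, ← mul_assoc, mul_inv_cancel₀ (hφne e1), one_mul]
    · rw [tv_mulVec, dotProduct_add, dotProduct_smul, hf'dot x, h, Dickson.uel10, Dickson.uel11, mul_zero, smul_zero,
        add_zero, zero_mul, zero_add, one_mul]
  -- rational transvections with axis `ψ` give lower elements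
  have hlower : ∀ a : Vec, Rat' F₀ a → a e0 = 0 → Dickson.lel (x e0 * (f' ⬝ᵥ a)) ∈ planeGroup M f f' := by
    intro a ha ha0
    have hd : ψ ⬝ᵥ a = 0 := by rw [hψdot, ha0]
    refine ⟨tv a ψ hd, S.tv_mem ha (rat_one e0) hd, fun w h1 h2 => ?_, fun v => ⟨?_, ?_⟩⟩
    · rw [tv_mulVec]
      rw [hfdot] at h1
      rw [hψdot, (mul_eq_zero.mp h1).resolve_left (inv_ne_zero hx0), zero_smul, add_zero]
    · rw [tv_mulVec, dotProduct_add, dotProduct_smul, hfdot a, ha0, mul_zero, smul_zero, add_zero, Dickson.lel00,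
        Dickson.lel01, one_mul, zero_mul, add_zero]
    · rw [tv_mulVec, dotProduct_add, dotProduct_smul, hψdot, hfdot v, Dickson.lel10, Dickson.lel11, smul_eq_mul, one_mul,
        show x e0 * (f' ⬝ᵥ a) * ((x e0)⁻¹ * v e0) = (x e0 * (x e0)⁻¹) * (v e0 * (f' ⬝ᵥ a)) by ring,
        mul_inv_cancel₀ hx0, one_mul, add_comm]
  have hf'1 : ∀ i, f' ⬝ᵥ (Pi.single i 1 : Vec) = (φ e1)⁻¹ * φ i := fun i => by
    rw [hf'dot, dotProduct_single, mul_one]
  have hfull := TwoByTwo.lel_full F₀ r S.prime S.card (planeGroup M f f') (hφne e1) hupper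
    (s₁ := x e0) hx0 (fun a ha => by
      have h1 := hlower (Pi.single e1 a) (rat_single e1 ha) (Pi.single_eq_of_ne h01 _)
      rwa [hf'dot, dotProduct_single, ← mul_assoc (φ e1)⁻¹, inv_mul_cancel₀ (hφne e1), one_mul, mul_comm] at h1)
    (s₂ := x e0 * (f' ⬝ᵥ (Pi.single e2 1 : Vec))) (hlower _ (rat_one e2) (Pi.single_eq_of_ne h02 _))
    (fun hmem => by
      rw [mul_div_cancel_left₀ _ hx0, hf'1] at hmem
      have := congrFun (hφ (Pi.single e1 ((φ e1)⁻¹ * φ e2) - Pi.single e2 1)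
        (fun k => F₀.sub_mem (rat_single e1 hmem k) (rat_one e2 k))
        (by rw [dotProduct_sub, dotProduct_single, dotProduct_single, mul_one, ← mul_assoc,
          mul_inv_cancel₀ (hφne e1), one_mul, sub_self])) e2
      simp [Pi.single_eq_of_ne (Ne.symm h12)] at this)
    (x e0 * (f' ⬝ᵥ (Pi.single e0 1 : Vec)))
  obtain ⟨g, hg, hgW, hgs⟩ := hfull
  simp only [Dickson.lel00, Dickson.lel01, Dickson.lel10, Dickson.lel11, one_mul, zero_mul, add_zero] at hgs
  set a1 : Vec := Pi.single e1 1 with ha1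
  have hfx : f ⬝ᵥ x = 1 := by rw [hfdot, inv_mul_cancel₀ hx0]
  have hf'x : f' ⬝ᵥ x = 0 := by rw [hf'dot, h, mul_zero]
  have hfa : f ⬝ᵥ a1 = 0 := by rw [hfdot, ha1, Pi.single_eq_of_ne h01, mul_zero]
  have hf'a : f' ⬝ᵥ a1 = 1 := by rw [ha1, hf'1, inv_mul_cancel₀ (hφne e1)]
  set b : Vec := (g : Matrix (Fin n) (Fin n) F) *ᵥ x - x with hb
  set w' : Vec := (g : Matrix (Fin n) (Fin n) F) *ᵥ a1 - a1 with hw'
  have hgv : ∀ v : Vec, (g : Matrix (Fin n) (Fin n) F) *ᵥ v = v + (f ⬝ᵥ v) • b + (f' ⬝ᵥ v) • w' := fun v => by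
    have hk := hgW (v - (f ⬝ᵥ v) • x - (f' ⬝ᵥ v) • a1)
      (by simp [dotProduct_sub, dotProduct_smul, hfx, hfa]) (by simp [dotProduct_sub, dotProduct_smul, hf'x, hf'a])
    rw [Matrix.mulVec_sub, Matrix.mulVec_sub, Matrix.mulVec_smul, Matrix.mulVec_smul] at hk
    rw [hb, hw', smul_sub, smul_sub]
    linear_combination (norm := module) hk
  have hgψ : ψ ᵥ* ((g⁻¹ : (GL (Fin n) F)) : Matrix (Fin n) (Fin n) F) = ψ := by
    have h1 : ψ ᵥ* (g : Matrix (Fin n) (Fin n) F) = ψ := dotProduct_eq _ _ fun v => by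
      have h2 := (hgs v).1
      rw [hfdot, hfdot] at h2
      rw [← Matrix.dotProduct_mulVec, hψdot, hψdot, mul_left_cancel₀ (inv_ne_zero hx0) h2]
    conv_lhs => rw [← h1]
    rw [Matrix.vecMul_vecMul, ← Units.val_mul, mul_inv_cancel, Units.val_one, Matrix.vecMul_one]
  -- the element moves no vector towards `w'`
  have hw'tv : ∀ a : Vec, Rat' F₀ a → a e0 = 0 → ∀ hd, tv ((f' ⬝ᵥ a) • w') ψ hd ∈ M := by
    intro a ha ha0 hd
    have hd0 : ψ ⬝ᵥ a = 0 := by rw [hψdot, ha0]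
    obtain ⟨hd', he⟩ := conj_tv g a ψ hd0
    have hm := M.mul_mem (M.mul_mem (M.mul_mem hg (S.tv_mem ha (rat_one e0) hd0)) (M.inv_mem hg))
      (M.inv_mem (S.tv_mem ha (rat_one e0) hd0))
    rw [he] at hm
    have hga : (g : Matrix (Fin n) (Fin n) F) *ᵥ a = (f' ⬝ᵥ a) • w' + a := by
      rw [hgv, hfdot a, ha0, mul_zero, zero_smul, add_zero, add_comm]
    convert hm using 1
    rw [eq_mul_inv_iff_mul_eq]
    refine Units.ext (Matrix.ext_iff_mulVec.mpr fun v => ?_)
    rw [Units.val_mul, ← Matrix.mulVec_mulVec]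
    simp only [tv_mulVec, hgψ, hga, dotProduct_add, dotProduct_smul, hd0, smul_zero, add_zero, smul_add]
    abel
  have hψ0 : ψ ≠ 0 := Pi.single_ne_zero_iff.mpr one_ne_zero
  have hw'0 : w' e0 = 0 := by
    have h2 := (hgs a1).1
    rw [hgv, hfa, hf'a, zero_smul, add_zero, one_smul, dotProduct_add, hfa, zero_add, hfdot] at h2
    exact (mul_eq_zero.mp h2).resolve_left (inv_ne_zero hx0)
  have hd' : ∀ t : F, ψ ⬝ᵥ (t • w') = 0 := fun t => by rw [hψdot, Pi.smul_apply, hw'0, smul_zero]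
  by_cases hr1 : Rat' F₀ ((f' ⬝ᵥ a1) • w')
  swap
  · exact S.top_of_axis (hw'tv a1 (rat_one e1) (Pi.single_eq_of_ne h01 _) (hd' _)) (rat_one e0) hψ0 hr1
  by_cases hr2 : Rat' F₀ ((f' ⬝ᵥ (Pi.single e2 1 : Vec)) • w')
  swap
  · exact S.top_of_axis (hw'tv _ (rat_one e2) (Pi.single_eq_of_ne h02 _) (hd' _)) (rat_one e0) hψ0 hr2
  have hwz : w' = 0 := by
    by_contra hne
    obtain ⟨p, hp⟩ : ∃ p, w' p ≠ 0 := Function.ne_iff.mp hne
    have hp1 : w' p ∈ F₀ := by
      have := hr1 p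
      rwa [hf'a, one_smul] at this
    have hq : (φ e1)⁻¹ * φ e2 ∈ F₀ := by
      have := F₀.mul_mem (hr2 p) (F₀.inv_mem hp1)
      rwa [Pi.smul_apply, smul_eq_mul, mul_assoc, mul_inv_cancel₀ hp, mul_one, hf'1] at this
    have := congrFun (hφ (Pi.single e1 ((φ e1)⁻¹ * φ e2) - Pi.single e2 1)
      (fun k => F₀.sub_mem (rat_single e1 hq k) (rat_one e2 k))
      (by rw [dotProduct_sub, dotProduct_single, dotProduct_single, mul_one, ← mul_assoc,
        mul_inv_cancel₀ (hφne e1), one_mul, sub_self])) e2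
    simp [Pi.single_eq_of_ne (Ne.symm h12)] at this
  set b' : Vec := (x e0)⁻¹ • b with hb'
  have hb0 : b e0 = 0 := by
    have h2 := (hgs x).1
    rw [hgv, hfx, hf'x, zero_smul, add_zero, one_smul, dotProduct_add, hfdot b] at h2
    exact (mul_eq_zero.mp (add_left_cancel (h2.trans ((hfx ▸ (add_zero (f ⬝ᵥ x)).symm : (1 : F) = f ⬝ᵥ x + 0))))).resolve_left (inv_ne_zero hx0)
  have hb'0 : b' e0 = 0 := by rw [hb', Pi.smul_apply, hb0, smul_zero]
  have hgt : tv b' ψ (by rw [hψdot, hb'0]) = g := by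
    refine Units.ext (Matrix.ext_iff_mulVec.mpr fun v => ?_)
    rw [tv_mulVec, hgv, hwz, smul_zero, add_zero, hψdot, hfdot, hb', smul_smul, mul_comm]
  refine S.top_of_axis (b := b') (w := ψ) (h := by rw [hψdot, hb'0]) (hgt.symm ▸ hg) (rat_one e0) hψ0 fun hrb => ?_
  have h2 := (hgs x).2
  rw [hgv, hfx, hf'x, zero_smul, add_zero, one_smul, dotProduct_add, hf'x, zero_add, mul_one] at h2
  have h3 : f' ⬝ᵥ b' = f' ⬝ᵥ (Pi.single e0 1 : Vec) := by
    rw [hb', dotProduct_smul, h2, smul_eq_mul, add_zero, ← mul_assoc, inv_mul_cancel₀ hx0, one_mul]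
  rw [hf'dot, hf'dot] at h3
  have := congrFun (hφ (b' - Pi.single e0 1) (fun k => F₀.sub_mem (hrb k) (rat_one e0 k))
    (by rw [dotProduct_sub, mul_left_cancel₀ (inv_ne_zero (hφne e1)) h3, sub_self])) e0
  simp [hb'0] at this

/-- The dichotomy for transvections. -/
theorem Setting.dichotomy (S : Setting F₀ r M) {x φ : Vec} {h : φ ⬝ᵥ x = 0} (hu : tv x φ h ∈ M) :
    Cfsg.Geo.specialLinear (Fin n) F ≤ M ∨ Scaled F₀ x φ := by
  by_cases hφ : ∀ a, Rat' F₀ a → φ ⬝ᵥ a = 0 → a = 0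
  · by_cases hx : ∀ ψ, Rat' F₀ ψ → ψ ⬝ᵥ x = 0 → ψ = 0
    · exact Or.inl (S.case_injective hu hφ hx)
    · push Not at hx
      obtain ⟨ψ, h1, h2, h3⟩ := hx
      exact S.case_cokernel hu h1 h3 h2
  · push Not at hφ
    obtain ⟨a, h1, h2, h3⟩ := hφ
    exact S.case_kernel hu h1 h3 h2

/-- A subgroup containing the rational elements contains the special linear group or consists of scaled rational
matrices. -/
theorem Setting.top_or_le (S : Setting F₀ r M) :
    Cfsg.Geo.specialLinear (Fin n) F ≤ M ∨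
      M ≤ (Matrix.GeneralLinearGroup.map (n := Fin n) (F₀.subtype : F₀ →+* F)).range ⊔ Cfsg.Geo.scalars (Fin n) F := by
  by_cases htop : Cfsg.Geo.specialLinear (Fin n) F ≤ M
  · exact Or.inl htop
  refine Or.inr fun g hg => ?_
  have hprod : ∀ i j k l : Fin n, i ≠ j →
      (g : Matrix (Fin n) (Fin n) F) k i * ((g⁻¹ : (GL (Fin n) F)) : Matrix (Fin n) (Fin n) F) j l ∈ F₀ := by
    intro i j k l hij
    obtain ⟨hd, he⟩ := conj_tv g (Pi.single i 1) (Pi.single j 1) (dot_single_single (Ne.symm hij) 1 1)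
    have hm := M.mul_mem (M.mul_mem hg (S.tv_mem (rat_one i) (rat_one j) (dot_single_single (Ne.symm hij) 1 1)))
      (M.inv_mem hg)
    rw [he] at hm
    rcases S.dichotomy hm with h | h
    · exact absurd h htop
    · have := h k l
      rwa [Matrix.mulVec_single, Matrix.single_vecMul, Pi.smul_apply, Pi.smul_apply, Matrix.col_apply, Matrix.row_apply,
        MulOpposite.smul_eq_mul_unop, MulOpposite.unop_op, mul_one, smul_eq_mul, one_mul] at this
  have hn := S.three
  set e0 : Fin n := ⟨0, by omega⟩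
  obtain ⟨p, hp⟩ : ∃ p, (g : Matrix (Fin n) (Fin n) F) p e0 ≠ 0 := by
    by_contra hcon
    push Not at hcon
    exact g.det_ne_zero (Matrix.det_eq_zero_of_column_eq_zero e0 hcon)
  set c := (g : Matrix (Fin n) (Fin n) F) p e0
  have hrat : ∀ k i, c⁻¹ * (g : Matrix (Fin n) (Fin n) F) k i ∈ F₀ := by
    intro k i
    obtain ⟨j, hji, hj0⟩ := third hn i e0
    obtain ⟨l, hl⟩ : ∃ l, ((g⁻¹ : (GL (Fin n) F)) : Matrix (Fin n) (Fin n) F) j l ≠ 0 := by
      by_contra hcon
      push Not at hcon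
      exact (g⁻¹).det_ne_zero (Matrix.det_eq_zero_of_row_eq_zero j hcon)
    have := F₀.mul_mem (hprod i j k l (Ne.symm hji)) (F₀.inv_mem (hprod e0 j p l (Ne.symm hj0)))
    rwa [_root_.mul_inv_rev, mul_assoc, ← mul_assoc _ (_ : F)⁻¹ c⁻¹, mul_inv_cancel₀ hl, one_mul, mul_comm] at this
  set s : (GL (Fin n) F) := Units.map (Matrix.scalar (Fin n) : F →+* Matrix (Fin n) (Fin n) F).toMonoidHom (Units.mk0 c hp)
  have hs : s ∈ Cfsg.Geo.scalars (Fin n) F := ⟨_, rfl⟩
  have hsv : ((s⁻¹ : (GL (Fin n) F)) : Matrix (Fin n) (Fin n) F) = c⁻¹ • 1 := by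
    show Matrix.scalar (Fin n) c⁻¹ = _
    rw [Matrix.scalar_apply, Matrix.smul_one_eq_diagonal]
  have hr : s⁻¹ * g ∈ (Matrix.GeneralLinearGroup.map (n := Fin n) (F₀.subtype : F₀ →+* F)).range :=
    mem_range_of_rat fun k i => by
      rw [Units.val_mul, hsv, Matrix.smul_mul, Matrix.one_mul, Matrix.smul_apply, smul_eq_mul]
      exact hrat k i
  rw [show g = s * (s⁻¹ * g) by group]
  exact mul_mem (Subgroup.mem_sup_right hs) (Subgroup.mem_sup_left hr)

theorem maximal (hn : 3 ≤ n) (F₀ : Subfield F) (hr : r.Prime) (hcard : Fintype.card F = Nat.card F₀ ^ r) :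
    Cfsg.Geo.IsMaximalIn (Cfsg.Geo.specialLinear (Fin n) F)
      (((Matrix.GeneralLinearGroup.map (n := Fin n) (F₀.subtype : F₀ →+* F)).range ⊔ Cfsg.Geo.scalars (Fin n) F) ⊓
        Cfsg.Geo.specialLinear (Fin n) F) := by
  refine ⟨lt_of_le_of_ne inf_le_right fun heq => ?_, fun M hM hMK => ?_⟩
  · obtain ⟨c, hc⟩ : ∃ c : F, c ∉ F₀ := by
      by_contra hcon
      push Not at hcon
      have h1 : Nat.card F₀ = Nat.card F :=
        Nat.card_congr (Equiv.subtypeUnivEquiv hcon)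
      rw [h1, Nat.card_eq_fintype_card] at hcard
      have h2 : Fintype.card F ^ 1 < Fintype.card F ^ r := Nat.pow_lt_pow_right Fintype.one_lt_card hr.one_lt
      rw [pow_one, ← hcard] at h2
      exact lt_irrefl _ h2
    set i : Fin n := ⟨0, by omega⟩
    set j : Fin n := ⟨1, by omega⟩
    have hij : i ≠ j := by simp [i, j]
    have hm := heq.symm ▸ tv_mem_specialLinear (Pi.single i c : Vec) (Pi.single j 1) (dot_single_single (Ne.symm hij) 1 c)
    have hm1 : _ ∈ _ := (Subgroup.mem_inf.mp hm).1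
    rw [sup_comm, Subgroup.mem_sup_of_normal_left] at hm1
    obtain ⟨s, hs, g, hg, he⟩ := hm1
    obtain ⟨u, rfl⟩ := hs
    have hent : ∀ a b, (u : F) * (g : Matrix (Fin n) (Fin n) F) a b =
        (1 + vecMulVec (Pi.single i c) (Pi.single j 1) : Matrix (Fin n) (Fin n) F) a b := fun a b => by
      have h1 := congrArg (fun x : GL (Fin n) F => (x : Matrix (Fin n) (Fin n) F) a b) he
      refine Eq.trans ?_ h1
      simp [Units.val_mul, Matrix.scalar_apply, Matrix.diagonal_mul]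
    have h00 := hent i i
    have h01 := hent i j
    simp [Matrix.vecMulVec_apply, Matrix.one_apply, hij, Pi.single_eq_of_ne hij] at h00 h01
    apply hc
    rw [← h01, eq_inv_of_mul_eq_one_left h00]
    exact F₀.mul_mem (F₀.inv_mem (entries_mem hg i i)) (entries_mem hg i j)
  · have S : Setting F₀ r M := ⟨hn, hr, hcard, fun g hg hrat =>
      hM ⟨Subgroup.mem_sup_left (mem_range_of_rat hrat), hg⟩⟩
    rcases S.top_or_le with h | h
    · exact Or.inr (le_antisymm hMK h)
    · exact Or.inl (le_antisymm (le_inf h hMK) hM)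

theorem maximal_conj (hn : 3 ≤ n) (F₀ : Subfield F) (hr : r.Prime) (hcard : Fintype.card F = Nat.card F₀ ^ r)
    (P : (GL (Fin n) F)) : Cfsg.Geo.IsMaximalIn (Cfsg.Geo.specialLinear (Fin n) F)
      (Cfsg.Geo.subfieldSubgroup F₀ P ⊓ Cfsg.Geo.specialLinear (Fin n) F) := by
  have hN : (Cfsg.Geo.specialLinear (Fin n) F).Normal := MonoidHom.normal_ker _
  have hK : (Cfsg.Geo.specialLinear (Fin n) F).map (MulAut.conj P).toMonoidHom = Cfsg.Geo.specialLinear (Fin n) F := by
    ext g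
    rw [Subgroup.mem_map]
    constructor
    · rintro ⟨a, ha, rfl⟩; exact hN.conj_mem a ha P
    · intro hg
      exact ⟨P⁻¹ * g * P⁻¹⁻¹, hN.conj_mem g hg P⁻¹, by simp [mul_assoc]⟩
  have := Unitary.isMaximalIn_map (MulAut.conj P) (maximal hn F₀ hr hcard)
  rwa [Subgroup.map_inf _ _ _ (MulAut.conj P).injective, hK] at this

end Cfsg.Agent.GeomClasses.SubfieldSL
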