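import Cfsg.Agent.GeomClasses.Basic
import Cfsg.Agent.Forms.SympMatrix

/-! # Maximality of subspace stabilisers in symplectic groups -/

set_option autoImplicit false

namespace Cfsg.Agent.GeomClasses

open Matrix Cfsg.Agent.Forms

variable {F : Type*} [Field F] {m : ℕ}

/-- Symplectic isometries as elements of the general linear group. -/
noncomputable def isomToGL : isomGroup (sympB m F) (fun _ => (0 : F)) →* GL (Fin m ⊕ Fin m) F :=
  (glEquiv (Fin m ⊕ Fin m) F).symm.toMonoidHom.comp (Subgroup.subtype _)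

theorem isomToGL_mulVec (g : isomGroup (sympB m F) (fun _ => (0 : F))) (x : Fin m ⊕ Fin m → F) :
    (isomToGL g : Matrix (Fin m ⊕ Fin m) (Fin m ⊕ Fin m) F) *ᵥ x = (g : _ ≃ₗ[F] _) x :=
  glEquiv_symm_mulVec _ x

/-- The transvection with centre `z`. -/
noncomputable def spT (z : Fin m ⊕ Fin m → F) (c : F) : GL (Fin m ⊕ Fin m) F :=
  isomToGL (symTransv (sympB m F) sympB_isAlt z c)

theorem spT_mulVec (z : Fin m ⊕ Fin m → F) (c : F) (x : Fin m ⊕ Fin m → F) :
    (spT z c : Matrix (Fin m ⊕ Fin m) (Fin m ⊕ Fin m) F) *ᵥ x = x + (c * sympB m F x z) • z := by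
  rw [spT, isomToGL_mulVec, symTransv_apply]

theorem mem_spGL_iff {g : GL (Fin m ⊕ Fin m) F} :
    g ∈ Cfsg.spGL m F ↔ ∀ u v, sympB m F ((g : Matrix (Fin m ⊕ Fin m) (Fin m ⊕ Fin m) F) *ᵥ u) ((g : Matrix (Fin m ⊕ Fin m) (Fin m ⊕ Fin m) F) *ᵥ v) = sympB m F u v := by
  simp only [sympB_apply]; rfl

theorem spT_mem (z : Fin m ⊕ Fin m → F) (c : F) : spT z c ∈ Cfsg.spGL m F := by
  rw [mem_spGL_iff]
  intro u v
  rw [spT, isomToGL_mulVec, isomToGL_mulVec, isom_B]

theorem spGL_le_of_spT {K : Subgroup (GL (Fin m ⊕ Fin m) F)} (h : ∀ z c, spT z c ∈ K) : Cfsg.spGL m F ≤ K := by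
  intro g hg
  have htop : K.comap isomToGL = ⊤ :=
    symTransv_generate (sympB m F) sympB_isAlt isForm_symp _ (fun z _ c _ => h z c)
  have hm : glEquiv (Fin m ⊕ Fin m) F g ∈ isomGroup (sympB m F) (fun _ => (0 : F)) := by
    rw [mem_isomGroup_symp_iff]
    intro u v
    simp only [glEquiv_apply]
    exact hg u v
  have hmem : (⟨_, hm⟩ : isomGroup (sympB m F) (fun _ => (0 : F))) ∈ K.comap isomToGL := htop ▸ Subgroup.mem_top _
  simpa [isomToGL] using hmem

theorem sympB_skew (u v : Fin m ⊕ Fin m → F) : sympB m F u v = - sympB m F v u :=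
  (LinearMap.IsAlt.neg (sympB_isAlt (F := F) (m := m)) v u).symm

theorem sympB_self (u : Fin m ⊕ Fin m → F) : sympB m F u u = 0 := sympB_isAlt u

/-- The centres of the transvections of a subgroup. -/
def spCentre (L : Subgroup (GL (Fin m ⊕ Fin m) F)) : Set (Fin m ⊕ Fin m → F) := {z | ∀ c, spT z c ∈ L}

theorem spCentre_smul {L : Subgroup (GL (Fin m ⊕ Fin m) F)} {z : Fin m ⊕ Fin m → F} (hz : z ∈ spCentre L) (a : F) :
    a • z ∈ spCentre L := by
  intro c
  have : spT (a • z) c = spT z (c * a * a) := by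
    refine Units.ext (matrix_ext_mulVec fun x => ?_)
    rw [spT_mulVec, spT_mulVec, map_smul, smul_smul, smul_eq_mul]
    congr 2
    ring
  rw [this]; exact hz _

theorem spCentre_mulVec {L : Subgroup (GL (Fin m ⊕ Fin m) F)} {g : GL (Fin m ⊕ Fin m) F} (hg : g ∈ L)
    (hgS : g ∈ Cfsg.spGL m F) {z : Fin m ⊕ Fin m → F} (hz : z ∈ spCentre L) :
    (g : Matrix (Fin m ⊕ Fin m) (Fin m ⊕ Fin m) F) *ᵥ z ∈ spCentre L := by
  intro c
  have : spT ((g : Matrix (Fin m ⊕ Fin m) (Fin m ⊕ Fin m) F) *ᵥ z) c = g * spT z c * g⁻¹ := by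
    rw [eq_mul_inv_iff_mul_eq]
    refine Units.ext (matrix_ext_mulVec fun x => ?_)
    rw [Units.val_mul, Units.val_mul, ← Matrix.mulVec_mulVec, ← Matrix.mulVec_mulVec, spT_mulVec, spT_mulVec,
      mem_spGL_iff.mp hgS, Matrix.mulVec_add, Matrix.mulVec_smul]
  rw [this]
  exact L.mul_mem (L.mul_mem hg (hz c)) (L.inv_mem hg)

theorem spCentre_add {L : Subgroup (GL (Fin m ⊕ Fin m) F)} {u v : Fin m ⊕ Fin m → F} (hu : u ∈ spCentre L)
    (hv : v ∈ spCentre L) (h : sympB m F v u ≠ 0) : v + u ∈ spCentre L := by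
  have := spCentre_mulVec (hu ((sympB m F v u)⁻¹)) (spT_mem _ _) hv
  rwa [spT_mulVec, inv_mul_cancel₀ h, one_smul] at this

theorem spT_stab_of_mem {W : Submodule F (Fin m ⊕ Fin m → F)} {z : Fin m ⊕ Fin m → F} (c : F)
    (hz : z ∈ W ∨ z ∈ perp (sympB m F) W) : spT z c ∈ Cfsg.Geo.subspaceStabilizer W := by
  rw [mem_subspaceStabilizer_iff]
  intro x hx
  rw [spT_mulVec]
  rcases hz with hz | hz
  · exact W.add_mem hx (W.smul_mem _ hz)
  · rw [mem_perp.mp hz x hx, mul_zero, zero_smul, add_zero]; exact hx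

theorem isMaximalIn_stab {W : Submodule F (Fin m ⊕ Fin m → F)}
    (hstrict : ∃ z c, spT z c ∉ Cfsg.Geo.subspaceStabilizer W)
    (hgrow : ∀ L : Subgroup (GL (Fin m ⊕ Fin m) F), Cfsg.Geo.subspaceStabilizer W ⊓ Cfsg.spGL m F ≤ L → L ≤ Cfsg.spGL m F →
      ∀ g ∈ L, g ∉ Cfsg.Geo.subspaceStabilizer W → ∀ z, z ∈ spCentre L) :
    Cfsg.Geo.IsMaximalIn (Cfsg.spGL m F) (Cfsg.Geo.subspaceStabilizer W ⊓ Cfsg.spGL m F) := by
  refine ⟨lt_of_le_of_ne inf_le_right fun h => ?_, fun L hL hLS => ?_⟩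
  · obtain ⟨z, c, hz⟩ := hstrict
    have := spT_mem z c
    rw [← h] at this
    exact hz this.1
  · by_cases hle : L ≤ Cfsg.Geo.subspaceStabilizer W
    · exact Or.inl (le_antisymm (le_inf hle hLS) hL)
    · obtain ⟨g, hg, hg'⟩ := SetLike.not_le_iff_exists.mp hle
      exact Or.inr (le_antisymm hLS (spGL_le_of_spT fun z c => hgrow L hL hLS g hg hg' z c))

/-- An element moving a subspace moves its perpendicular space. -/
theorem exists_perp_moved {W : Submodule F (Fin m ⊕ Fin m → F)} {g : GL (Fin m ⊕ Fin m) F} (hgS : g ∈ Cfsg.spGL m F)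
    (hg : g ∉ Cfsg.Geo.subspaceStabilizer W) :
    ∃ y ∈ perp (sympB m F) W, (g : Matrix (Fin m ⊕ Fin m) (Fin m ⊕ Fin m) F) *ᵥ y ∉ perp (sympB m F) W := by
  by_contra hc
  push_neg at hc
  apply hg
  rw [mem_subspaceStabilizer_iff]
  intro x hx
  have hg1 : g ∈ Cfsg.Geo.subspaceStabilizer (perp (sympB m F) W) :=
    mem_subspaceStabilizer_iff.mpr hc
  have hinv := mem_subspaceStabilizer_iff.mp (inv_mem hg1)
  rw [← isForm_symp.perp_perp W, mem_perp]
  intro y hy
  have h1 := mem_spGL_iff.mp hgS (((g⁻¹ : GL (Fin m ⊕ Fin m) F) : Matrix (Fin m ⊕ Fin m) (Fin m ⊕ Fin m) F) *ᵥ y) x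
  rw [Matrix.mulVec_mulVec, ← Units.val_mul, mul_inv_cancel, Units.val_one, Matrix.one_mulVec] at h1
  rw [h1]
  exact isForm_symp.refl _ _ (mem_perp.mp (hinv y hy) x hx)

theorem isMaximalIn_singular {W : Submodule F (Fin m ⊕ Fin m → F)} (hW0 : W ≠ ⊥)
    (hW : Cfsg.Geo.IsTotallySingularFor (Cfsg.sympForm m F) W) :
    Cfsg.Geo.IsMaximalIn (Cfsg.spGL m F) (Cfsg.Geo.subspaceStabilizer W ⊓ Cfsg.spGL m F) := by
  classical
  have hWW : ∀ a ∈ W, ∀ b ∈ W, sympB m F a b = 0 := fun a ha b hb => by rw [sympB_apply]; exact hW a ha b hb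
  refine isMaximalIn_stab ?_ fun L hL hLS g hg hg' => ?_
  · obtain ⟨x, hx, hx0⟩ := (Submodule.ne_bot_iff W).mp hW0
    obtain ⟨z, hz⟩ := isForm_symp.exists_pairing hx0 (1 : F)
    refine ⟨z, 1, fun h => ?_⟩
    have h1 := mem_subspaceStabilizer_iff.mp h x hx
    rw [spT_mulVec, hz, mul_one, one_smul, Submodule.add_mem_iff_right _ hx] at h1
    exact one_ne_zero (hz.symm.trans (hWW x hx z h1))
  · have hC : ∀ z, z ∈ W ∨ z ∈ perp (sympB m F) W → z ∈ spCentre L := fun z hz c =>
      hL ⟨spT_stab_of_mem c hz, spT_mem z c⟩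
    obtain ⟨y, hy, hgy⟩ := exists_perp_moved (hLS hg) hg'
    set v := (g : Matrix (Fin m ⊕ Fin m) (Fin m ⊕ Fin m) F) *ᵥ y with hv
    have hvC : v ∈ spCentre L := spCentre_mulVec hg (hLS hg) (hC y (Or.inr hy))
    obtain ⟨x, hx, hxv⟩ : ∃ x ∈ W, sympB m F x v ≠ 0 := by
      simpa [mem_perp] using hgy
    obtain ⟨u, hu, hvu⟩ : ∃ u ∈ W, sympB m F v u = 1 := by
      refine ⟨(sympB m F v x)⁻¹ • x, W.smul_mem _ hx, ?_⟩
      rw [map_smul, smul_eq_mul, inv_mul_cancel₀]
      rw [sympB_skew]; simpa using hxv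
    have hD : ∀ w, sympB m F w u = 0 → v + w ∈ spCentre L := by
      intro w hw
      have huw : sympB m F u w = 0 := by rw [sympB_skew, hw, neg_zero]
      have hd0 : ∀ x, ((1 + vecMulVec w (Matrix.J (Fin m) F *ᵥ u) + vecMulVec u (Matrix.J (Fin m) F *ᵥ w) :
          Matrix (Fin m ⊕ Fin m) (Fin m ⊕ Fin m) F)) *ᵥ x = x + sympB m F x u • w + sympB m F x w • u := by
        intro x
        rw [Matrix.add_mulVec, Matrix.add_mulVec, Matrix.one_mulVec, Matrix.vecMulVec_mulVec, Matrix.vecMulVec_mulVec,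
          op_smul_eq_smul, op_smul_eq_smul, sympB_apply, sympB_apply, Cfsg.sympForm, Cfsg.sympForm, dotProduct_comm x,
          dotProduct_comm x]
      let M : Matrix (Fin m ⊕ Fin m) (Fin m ⊕ Fin m) F := vecMulVec w (Matrix.J (Fin m) F *ᵥ u) + vecMulVec u (Matrix.J (Fin m) F *ᵥ w)
      have hM : (1 + M) *ᵥ v = v + sympB m F v u • w + sympB m F v w • u := by
        simp only [M, ← add_assoc]; exact hd0 v
      have hiso : ∀ a b, sympB m F ((1 + M) *ᵥ a) ((1 + M) *ᵥ b) = sympB m F a b := by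
        intro a b
        simp only [M, ← add_assoc, hd0, map_add, map_smul, LinearMap.add_apply, LinearMap.smul_apply, smul_eq_mul, huw,
          hw, sympB_self, mul_zero, add_zero]
        rw [sympB_skew u b, sympB_skew w b]
        ring
      have hdet : (1 + M).det ≠ 0 := by
        intro h0
        obtain ⟨z, hz0, hz⟩ := Matrix.exists_mulVec_eq_zero_iff.mpr h0
        obtain ⟨d, hd⟩ := isForm_symp.exists_pairing hz0 (1 : F)
        have := hiso z d
        rw [hz, hd] at this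
        simp at this
      let D : GL (Fin m ⊕ Fin m) F := Matrix.GeneralLinearGroup.mkOfDetNeZero _ hdet
      have hDS : D ∈ Cfsg.spGL m F := mem_spGL_iff.mpr hiso
      have hDW : D ∈ Cfsg.Geo.subspaceStabilizer W := by
        rw [mem_subspaceStabilizer_iff]
        intro a ha
        show (1 + M) *ᵥ a ∈ W
        simp only [M, ← add_assoc, hd0, hWW a ha u hu, zero_smul, add_zero]
        exact W.add_mem ha (W.smul_mem _ hu)
      let T := spT u (-(sympB m F v w))
      have h1 : (T * D : GL (Fin m ⊕ Fin m) F) ∈ L :=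
        hL ⟨mul_mem (spT_stab_of_mem _ (Or.inl hu)) hDW, mul_mem (spT_mem _ _) hDS⟩
      have h2 := spCentre_mulVec h1 (hLS h1) hvC
      rw [Units.val_mul, ← Matrix.mulVec_mulVec, show (D : Matrix (Fin m ⊕ Fin m) (Fin m ⊕ Fin m) F) *ᵥ v = (1 + M) *ᵥ v from rfl, hM, hvu, one_smul,
        spT_mulVec] at h2
      simp only [map_add, map_smul, LinearMap.add_apply, LinearMap.smul_apply, smul_eq_mul, sympB_self, hw, hvu,
        mul_zero, add_zero, mul_one] at h2
      convert h2 using 1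
      module
    have hne : ∀ z, sympB m F z u ≠ 0 → z ∈ spCentre L := by
      intro z hz
      have h1 := spCentre_smul (hD ((sympB m F z u)⁻¹ • z - v) (by
        rw [map_sub, map_smul, LinearMap.sub_apply, LinearMap.smul_apply, smul_eq_mul, inv_mul_cancel₀ hz, hvu, sub_self]))
        (sympB m F z u)
      rwa [add_sub_cancel, smul_smul, mul_inv_cancel₀ hz, one_smul] at h1
    intro z
    by_cases hz : sympB m F z u = 0
    · by_cases hzu : z ∈ Submodule.span F {u}
      · exact hC z (Or.inl ((Submodule.span_singleton_le_iff_mem _ _).mpr hu hzu))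
      obtain ⟨d, hd, hd1⟩ := isForm_symp.exists_perp_pairing hzu 1
      have hdu : sympB m F d u = 0 := by
        rw [sympB_skew, mem_perp_span_singleton.mp hd, neg_zero]
      obtain ⟨v', hv'u, hv'z⟩ : ∃ v', sympB m F v' u = 1 ∧ sympB m F v' z ≠ 0 := by
        by_cases hvz : sympB m F v z = 0
        · refine ⟨v + d, by rw [map_add, LinearMap.add_apply, hvu, hdu, add_zero], ?_⟩
          rw [map_add, LinearMap.add_apply, hvz, zero_add, sympB_skew, hd1]
          simp
        · exact ⟨v, hvu, hvz⟩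
      have h1 : z - v' ∈ spCentre L := hne _ (by rw [map_sub, LinearMap.sub_apply, hz, hv'u]; simp)
      have h2 : v' ∈ spCentre L := hne _ (by rw [hv'u]; exact one_ne_zero)
      have := spCentre_add h1 h2 (by rw [map_sub, sympB_self, sub_zero]; exact hv'z)
      rwa [add_sub_cancel] at this
    · exact hne z hz

theorem isMaximalIn_nondegenerate {W : Submodule F (Fin m ⊕ Fin m → F)} (hW0 : W ≠ ⊥)
    (hW : Cfsg.Geo.IsNondegenerateOn (Cfsg.sympForm m F) W) (hdim : Module.finrank F W < m) :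
    Cfsg.Geo.IsMaximalIn (Cfsg.spGL m F) (Cfsg.Geo.subspaceStabilizer W ⊓ Cfsg.spGL m F) := by
  classical
  set P := perp (sympB m F) W with hP
  have hX : ∀ u ∈ W, (∀ v ∈ W, sympB m F u v = 0) → u = 0 := by
    intro u hu h
    by_contra h0
    obtain ⟨-, x, hx, hx'⟩ := hW u hu h0
    exact hx' (by rw [← sympB_apply]; exact h x hx)
  have hcompl : IsCompl W P := isForm_symp.isCompl_perp hX
  have hdimP : m < Module.finrank F P := by
    have := isForm_symp.finrank_perp W
    rw [Module.finrank_pi, Fintype.card_sum, Fintype.card_fin] at this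
    show m < Module.finrank F ↥(perp (sympB m F) W)
    omega
  have hdec : ∀ z, ∃ a ∈ W, ∃ b ∈ P, z = a + b := fun z => by
    obtain ⟨a, ha, b, hb, h⟩ := Submodule.mem_sup.mp (hcompl.sup_eq_top ▸ Submodule.mem_top (x := z))
    exact ⟨a, ha, b, hb, h.symm⟩
  have hort : ∀ a ∈ W, ∀ b ∈ P, sympB m F a b = 0 ∧ sympB m F b a = 0 := fun a ha b hb =>
    ⟨mem_perp.mp hb a ha, by rw [sympB_skew, mem_perp.mp hb a ha, neg_zero]⟩
  refine isMaximalIn_stab ?_ fun L hL hLS g hg hg' => ?_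
  · obtain ⟨x, hx, hx0⟩ := (Submodule.ne_bot_iff W).mp hW0
    obtain ⟨⟨w, hw, hwx⟩, -⟩ := hW x hx hx0
    obtain ⟨p, hp, hp0⟩ := (Submodule.ne_bot_iff P).mp fun h => by rw [h, finrank_bot] at hdimP; omega
    refine ⟨w + p, 1, fun h => ?_⟩
    have h1 := mem_subspaceStabilizer_iff.mp h x hx
    have hxw : sympB m F x w ≠ 0 := by rw [sympB_skew, sympB_apply]; simpa using hwx
    rw [spT_mulVec, map_add, (hort x hx p hp).1, add_zero, one_mul, Submodule.add_mem_iff_right _ hx,
      Submodule.smul_mem_iff _ hxw, Submodule.add_mem_iff_right _ hw] at h1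
    exact hp0 (Submodule.disjoint_def.mp hcompl.disjoint p h1 hp)
  · have hC : ∀ z, z ∈ W ∨ z ∈ P → z ∈ spCentre L := fun z hz c =>
      hL ⟨spT_stab_of_mem c hz, spT_mem z c⟩
    -- moving one component
    have hstep : ∀ (X Y : Submodule F (Fin m ⊕ Fin m → F)), (∀ x ∈ X, ∀ y ∈ Y, sympB m F y x = 0) →
        (∀ x ∈ X, x ≠ 0 → ∃ y ∈ X, sympB m F x y ≠ 0) → (∀ z ∈ X, z ∈ spCentre L) →
        ∀ a ∈ X, a ≠ 0 → ∀ b ∈ Y, a + b ∈ spCentre L → ∀ a' ∈ X, a' ≠ 0 → a' + b ∈ spCentre L := by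
      intro X Y hXY hnd hXC a ha ha0 b hb hab
      have one : ∀ a ∈ X, a + b ∈ spCentre L → ∀ a' ∈ X, sympB m F a a' ≠ 0 → a' + b ∈ spCentre L := by
        intro a ha hab a' ha' hne
        let w := a' - a
        have hw : sympB m F (a + b) w = sympB m F a a' := by
          simp only [w, map_add, map_sub, LinearMap.add_apply, hXY a' ha' b hb, hXY a ha b hb, sympB_self]
          ring
        have := spCentre_mulVec (hXC w (X.sub_mem ha' ha) ((sympB m F a a')⁻¹)) (spT_mem _ _) hab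
        rw [spT_mulVec, hw, inv_mul_cancel₀ hne, one_smul] at this
        convert this using 1
        simp only [w]; abel
      intro a' ha' ha'0
      by_cases h : sympB m F a a' = 0
      · obtain ⟨c1, hc1, h1⟩ := hnd a ha ha0
        obtain ⟨c2, hc2, h2⟩ := hnd a' ha' ha'0
        obtain ⟨c, hc, hc', hc''⟩ : ∃ c ∈ X, sympB m F a c ≠ 0 ∧ sympB m F a' c ≠ 0 := by
          by_cases h3 : sympB m F a' c1 = 0
          · by_cases h4 : sympB m F a c2 = 0
            · exact ⟨c1 + c2, X.add_mem hc1 hc2, by rw [map_add, h4, add_zero]; exact h1,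
                by rw [map_add, h3, zero_add]; exact h2⟩
            · exact ⟨c2, hc2, h4, h2⟩
          · exact ⟨c1, hc1, h1, h3⟩
        exact one c hc (one a ha hab c hc hc') a' ha' (by rw [sympB_skew]; simpa using hc'')
      · exact one a ha hab a' ha' h
    have hndW : ∀ x ∈ W, x ≠ 0 → ∃ y ∈ W, sympB m F x y ≠ 0 := fun x hx h0 => by
      by_contra hc; push_neg at hc; exact h0 (hX x hx hc)
    have hndP : ∀ x ∈ P, x ≠ 0 → ∃ y ∈ P, sympB m F x y ≠ 0 := fun x hx h0 => by
      by_contra hc; push_neg at hc; exact h0 (isForm_symp.perp_nondeg hX x hx hc)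
    -- a mixed centre
    obtain ⟨a, ha, ha0, b, hb, hb0, hab⟩ : ∃ a ∈ W, a ≠ 0 ∧ ∃ b ∈ P, b ≠ 0 ∧ a + b ∈ spCentre L := by
      by_contra hc
      push_neg at hc
      have hsplit : ∀ z ∈ spCentre L, z ∈ W ∨ z ∈ P := by
        intro z hz
        obtain ⟨a, ha, b, hb, rfl⟩ := hdec z
        by_cases ha0 : a = 0
        · right; rwa [ha0, zero_add]
        by_cases hb0 : b = 0
        · left; rwa [hb0, add_zero]
        exact absurd hz (hc a ha ha0 b hb hb0)
      let φ := Matrix.toLin' (g : Matrix (Fin m ⊕ Fin m) (Fin m ⊕ Fin m) F)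
      have hφ : Function.Injective φ := fun x y h => by
        have h' := congrArg ((g⁻¹ : GL (Fin m ⊕ Fin m) F) : Matrix (Fin m ⊕ Fin m) (Fin m ⊕ Fin m) F).mulVec h
        simpa [φ, Matrix.mulVec_mulVec, ← Units.val_mul] using h'
      have himg : ∀ X : Submodule F (Fin m ⊕ Fin m → F), X ≤ W ∨ X ≤ P → X.map φ ≤ W ∨ X.map φ ≤ P := by
        intro X hXle
        have hall : ∀ x ∈ X.map φ, x ∈ W ∨ x ∈ P := by
          rintro _ ⟨x, hx, rfl⟩
          refine hsplit _ ?_
          have := spCentre_mulVec hg (hLS hg) (hC x (hXle.imp (fun h => h hx) (fun h => h hx)))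
          simpa [φ] using this
        by_contra h
        push_neg at h
        obtain ⟨⟨x, hx, hxW⟩, ⟨y, hy, hyP⟩⟩ := And.intro (SetLike.not_le_iff_exists.mp h.1) (SetLike.not_le_iff_exists.mp h.2)
        have hxP := (hall x hx).resolve_left hxW
        have hyW := (hall y hy).resolve_right hyP
        rcases hall (x + y) (add_mem hx hy) with h' | h'
        · exact hxW ((Submodule.add_mem_iff_left _ hyW).mp h')
        · exact hyP ((Submodule.add_mem_iff_right _ hxP).mp h')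
      have hfr : ∀ X : Submodule F (Fin m ⊕ Fin m → F), Module.finrank F (X.map φ) = Module.finrank F X := fun X =>
        (Submodule.equivMapOfInjective φ hφ X).finrank_eq.symm
      rcases himg W (Or.inl le_rfl) with h | h
      · apply hg'
        rw [mem_subspaceStabilizer_iff]
        intro x hx
        have := h ⟨x, hx, rfl⟩
        simpa [φ] using this
      · rcases himg P (Or.inr le_rfl) with h' | h'
        · have := Submodule.finrank_mono h'
          rw [hfr] at this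
          omega
        · obtain ⟨y, hy, hgy⟩ := exists_perp_moved (hLS hg) hg'
          exact hgy (by have := h' ⟨y, hy, rfl⟩; simpa [φ] using this)
    intro z
    obtain ⟨a', ha', b', hb', rfl⟩ := hdec z
    by_cases ha'0 : a' = 0
    · exact hC _ (Or.inr (by rwa [ha'0, zero_add]))
    by_cases hb'0 : b' = 0
    · exact hC _ (Or.inl (by rwa [hb'0, add_zero]))
    have h1 := hstep W P (fun x hx y hy => (hort x hx y hy).2) hndW (fun z hz => hC z (Or.inl hz)) a ha ha0 b hb hab a' ha' ha'0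
    rw [add_comm] at h1 ⊢
    exact hstep P W (fun x hx y hy => (hort y hy x hx).1) hndP (fun z hz => hC z (Or.inr hz)) b hb hb0 a' ha' h1 b' hb' hb'0

end Cfsg.Agent.GeomClasses
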