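import Cfsg.Agent.GeomClasses.Basic

/-! # Decompositions into two halves -/

set_option autoImplicit false

namespace Cfsg.Agent.GeomClasses

open Matrix

variable {ι : Type} [Fintype ι] [DecidableEq ι] {F : Type*} [Field F]

theorem mem_decomp_two {k : ℕ} {D : Fin 2 → Submodule F (ι → F)} (hD : Cfsg.Geo.IsMDecomposition k D) {g : GL ι F}
    (h : ∀ i, ∃ j, ∀ x ∈ D i, (g : Matrix ι ι F) *ᵥ x ∈ D j) : g ∈ Cfsg.Geo.decompositionStabilizer D := by
  choose j hj using h
  have hinj : Function.Injective (Matrix.toLin' (g : Matrix ι ι F)) := fun x y hxy => by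
    have h' := congrArg ((g⁻¹ : GL ι F) : Matrix ι ι F).mulVec hxy
    simpa [Matrix.mulVec_mulVec, ← Units.val_mul] using h'
  have hmap : ∀ i, (D i).map (Matrix.toLin' (g : Matrix ι ι F)) = D (j i) := fun i => by
    refine Submodule.eq_of_le_of_finrank_eq (Submodule.map_le_iff_le_comap.mpr fun x hx => by simpa using hj i x hx) ?_
    rw [← (Submodule.equivMapOfInjective _ hinj (D i)).finrank_eq, hD.finrank_eq, hD.finrank_eq]
  have hne : ∀ i i' : Fin 2, i ≠ i' → j i ≠ j i' := fun i i' hii hjj => by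
    have h1 : D i = D i' := Submodule.map_injective_of_injective hinj (by rw [hmap, hmap, hjj])
    have h2 := hD.indep.pairwiseDisjoint hii
    rw [Function.onFun, h1, disjoint_self] at h2
    have h3 := hD.finrank_eq i'
    rw [h2, finrank_bot] at h3
    exact absurd h3 (by have := hD.pos; omega)
  have hbij : Function.Bijective j := Finite.injective_iff_bijective.mp fun i i' h => by
    by_contra hii
    exact hne i i' hii h
  exact ⟨Equiv.ofBijective j hbij, hmap⟩

theorem decomp_two_isCompl {k : ℕ} {D : Fin 2 → Submodule F (ι → F)} (hD : Cfsg.Geo.IsMDecomposition k D) :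
    IsCompl (D 0) (D 1) := by
  refine ⟨hD.indep.pairwiseDisjoint (by decide), codisjoint_iff.mpr ?_⟩
  rw [← hD.iSup_eq_top]
  exact le_antisymm (sup_le (le_iSup D 0) (le_iSup D 1))
    (iSup_le fun i => by fin_cases i <;> first | exact le_sup_left | exact le_sup_right)

theorem image_two {D0 D1 W : Submodule F (ι → F)} (h : ∀ x ∈ W, x ∈ D0 ∨ x ∈ D1) : W ≤ D0 ∨ W ≤ D1 := by
  by_contra hc
  push_neg at hc
  obtain ⟨x, hx, hx0⟩ := SetLike.not_le_iff_exists.mp hc.1
  obtain ⟨y, hy, hy1⟩ := SetLike.not_le_iff_exists.mp hc.2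
  have hx1 := (h x hx).resolve_left hx0
  have hy0 := (h y hy).resolve_right hy1
  rcases h (x + y) (add_mem hx hy) with h' | h'
  · exact hx0 ((Submodule.add_mem_iff_left _ hy0).mp h')
  · exact hy1 ((Submodule.add_mem_iff_right _ hx1).mp h')

end Cfsg.Agent.GeomClasses
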