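import Cfsg.Agent.GeomClasses.SympMax
import Cfsg.Agent.GeomClasses.TwoHalves

/-! # Maximality of stabilisers of two totally singular halves in symplectic groups -/

set_option autoImplicit false

namespace Cfsg.Agent.GeomClasses

open Matrix Cfsg.Agent.Forms

variable {F : Type*} [Field F] {m : ℕ}

local notation "V" => (Fin m ⊕ Fin m → F)
local notation "BB" => sympB m F
local notation "Mx" => Matrix (Fin m ⊕ Fin m) (Fin m ⊕ Fin m) F
local notation "GLV" => GL (Fin m ⊕ Fin m) F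

theorem sympB_skew_zero {u v : V} (h : BB u v = 0) : BB v u = 0 := by rw [sympB_skew, h, neg_zero]

/-- The symmetric element of two perpendicular vectors. -/
noncomputable def sS (a b : V) : GLV := spT (a + b) 1 * spT a (-1) * spT b (-1)

theorem sS_mulVec {a b : V} (hab : BB a b = 0) (x : V) :
    (sS a b : Mx) *ᵥ x = x + BB x b • a + BB x a • b := by
  simp only [sS, Units.val_mul, ← Matrix.mulVec_mulVec, spT_mulVec, map_add, map_smul, LinearMap.add_apply,
    LinearMap.smul_apply, smul_eq_mul, sympB_self, hab, sympB_skew_zero hab]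
  module

theorem sS_mem (a b : V) : sS a b ∈ Cfsg.spGL m F := mul_mem (mul_mem (spT_mem _ _) (spT_mem _ _)) (spT_mem _ _)

theorem spT_conj {t : GLV} (ht : t ∈ Cfsg.spGL m F) (z : V) (c : F) :
    spT ((t : Mx) *ᵥ z) c = t * spT z c * t⁻¹ := by
  rw [eq_mul_inv_iff_mul_eq]
  refine Units.ext (matrix_ext_mulVec fun x => ?_)
  rw [Units.val_mul, Units.val_mul, ← Matrix.mulVec_mulVec, ← Matrix.mulVec_mulVec, spT_mulVec, spT_mulVec,
    mem_spGL_iff.mp ht, Matrix.mulVec_add, Matrix.mulVec_smul]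

theorem sS_conj {t : GLV} (ht : t ∈ Cfsg.spGL m F) (a b : V) :
    sS ((t : Mx) *ᵥ a) ((t : Mx) *ᵥ b) = t * sS a b * t⁻¹ := by
  rw [sS, sS, ← Matrix.mulVec_add, spT_conj ht, spT_conj ht, spT_conj ht]
  group

/-- A vector of the other half with a prescribed functional. -/
theorem exists_dual_symp {A B : Submodule F V} (hc : IsCompl A B) (hA : ∀ x ∈ A, ∀ y ∈ A, BB x y = 0)
    (f : A →ₗ[F] F) : ∃ d ∈ B, ∀ a : A, BB (a : V) d = f a := by
  obtain ⟨φ, hφ⟩ := f.exists_extend
  obtain ⟨z, hz⟩ := isForm_symp.exists_right φ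
  obtain ⟨a', ha', b', hb', hab⟩ := Submodule.mem_sup.mp (hc.sup_eq_top ▸ Submodule.mem_top (x := z))
  refine ⟨b', hb', fun a => ?_⟩
  have h2 : BB (a : V) z = φ a := hz a
  rw [← hab, map_add, hA a a.2 a' ha', zero_add] at h2
  rw [h2, ← hφ]; rfl

/-- An element exchanging the two halves. -/
theorem exists_swap_symp {k : ℕ} {D : Fin 2 → Submodule F V} (hD : Cfsg.Geo.IsMDecomposition k D)
    (hts : ∀ i, ∀ x ∈ D i, ∀ y ∈ D i, BB x y = 0) :
    ∃ s ∈ Cfsg.spGL m F, (∀ x ∈ D 0, (s : Mx) *ᵥ x ∈ D 1) ∧ (∀ x ∈ D 1, (s : Mx) *ᵥ x ∈ D 0) := by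
  classical
  have hc := decomp_two_isCompl hD
  let b : Module.Basis (Fin k) F (D 0) := Module.finBasisOfFinrankEq F (D 0) (hD.finrank_eq 0)
  have hc' : ∀ i, ∃ d ∈ D 1, ∀ a : D 0, BB (a : V) d = b.coord i a := fun i => exists_dual_symp hc (hts 0) _
  choose c hcD hcv using hc'
  have hbc : ∀ i j, BB (b i : V) (c j) = if i = j then 1 else 0 := fun i j => by
    rw [hcv, Module.Basis.coord_apply, Module.Basis.repr_self, Finsupp.single_apply]
  let v : Fin k ⊕ Fin k → V := Sum.elim (fun i => (b i : V)) c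
  let sgn : Fin k ⊕ Fin k → F := Sum.elim (fun _ => 1) (fun _ => -1)
  have hsgn : ∀ i, sgn i ≠ 0 := by rintro (i | i) <;> simp [sgn]
  have hsgn' : ∀ i, sgn (Sum.swap i) = -sgn i := by rintro (i | i) <;> simp [sgn]
  have hgram : ∀ i j, BB (v i) (v j) = if i = Sum.swap j then sgn i else 0 := by
    rintro (i | i) (j | j)
    · simp only [v, Sum.elim_inl, Sum.swap_inl, reduceCtorEq, if_false]
      exact hts 0 _ (b i).2 _ (b j).2
    · simp only [v, sgn, Sum.elim_inl, Sum.elim_inr, Sum.swap_inr, Sum.inl.injEq]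
      exact hbc i j
    · simp only [v, sgn, Sum.elim_inl, Sum.elim_inr, Sum.swap_inl, Sum.inr.injEq]
      rw [sympB_skew, hbc]
      split_ifs with h1 h2 <;> simp_all
    · simp only [v, Sum.elim_inr, Sum.swap_inr, reduceCtorEq, if_false]
      exact hts 1 _ (hcD i) _ (hcD j)
  have hli : LinearIndependent F v := by
    rw [Fintype.linearIndependent_iff]
    intro a ha i
    have h1 : BB (v (Sum.swap i)) (∑ j, a j • v j) = 0 := by rw [ha, map_zero]
    rw [map_sum, Finset.sum_eq_single i] at h1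
    · rw [map_smul, smul_eq_mul, hgram, if_pos rfl] at h1
      exact (mul_eq_zero.mp h1).resolve_right (hsgn _)
    · intro j _ hj
      rw [map_smul, hgram, if_neg, smul_zero]
      intro h
      exact hj (by simpa using (congrArg Sum.swap h).symm)
    · exact fun h => absurd (Finset.mem_univ i) h
  have hcard : Fintype.card (Fin k ⊕ Fin k) = Module.finrank F V := by
    have := Submodule.finrank_add_eq_of_isCompl hc
    rw [hD.finrank_eq, hD.finrank_eq] at this
    rw [Fintype.card_sum, Fintype.card_fin, this]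
  have : Nonempty (Fin k ⊕ Fin k) := ⟨Sum.inl ⟨0, hD.pos⟩⟩
  let e := basisOfLinearIndependentOfCardEqFinrank hli hcard
  have he : ∀ i, e i = v i := fun i => by rw [coe_basisOfLinearIndependentOfCardEqFinrank]
  set f := e.constr F fun i => sgn i • v (Sum.swap i) with hf
  have hfv : ∀ i, f (v i) = sgn i • v (Sum.swap i) := fun i => by rw [← he, hf, Module.Basis.constr_basis]
  have hiso : ∀ x y, BB (f x) (f y) = BB x y := by
    have h2 : (sympB m F).compl₁₂ f f = sympB m F := by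
      refine e.ext fun i => e.ext fun j => ?_
      rw [LinearMap.compl₁₂_apply, he, he, hfv, hfv, map_smul, map_smul, LinearMap.smul_apply, smul_eq_mul,
        smul_eq_mul, hgram, hgram, Sum.swap_swap]
      by_cases hij : Sum.swap i = j
      · subst hij
        rw [if_pos rfl, Sum.swap_swap, if_pos rfl, hsgn']
        rcases i with i | i <;> simp [sgn]
      · rw [if_neg hij, if_neg (fun h => hij (by rw [h, Sum.swap_swap])), mul_zero, mul_zero]
    intro x y
    exact LinearMap.congr_fun (LinearMap.congr_fun h2 x) y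
  have hinj : Function.Injective f := by
    rw [← LinearMap.ker_eq_bot, LinearMap.ker_eq_bot']
    intro x hx
    refine isForm_symp.nondeg x fun y => ?_
    rw [← hiso, hx, map_zero, LinearMap.zero_apply]
  let g : GLV := (glEquiv (Fin m ⊕ Fin m) F).symm (LinearEquiv.ofInjectiveEndo f hinj)
  have hg : ∀ x, (g : Mx) *ᵥ x = f x := fun x => glEquiv_symm_mulVec _ x
  refine ⟨g, mem_spGL_iff.mpr fun x y => by rw [hg, hg, hiso], fun x hx => ?_, fun x hx => ?_⟩
  · rw [show x = ((∑ i, b.equivFun ⟨x, hx⟩ i • b i : D 0) : V) by rw [b.sum_equivFun], Submodule.coe_sum, hg, map_sum]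
    refine Submodule.sum_mem _ fun i _ => ?_
    rw [Submodule.coe_smul, map_smul, show (b i : V) = v (Sum.inl i) from rfl, hfv]
    exact Submodule.smul_mem _ _ (Submodule.smul_mem _ _ (hcD i))
  · have h1 := e.sum_equivFun x
    simp only [he, Fintype.sum_sum_type, v, Sum.elim_inl, Sum.elim_inr] at h1
    have h2 : ∑ i, e.equivFun x (Sum.inl i) • (b i : V) = 0 := by
      refine Submodule.disjoint_def.mp hc.disjoint _ (Submodule.sum_mem _ fun i _ => Submodule.smul_mem _ _ (b i).2) ?_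
      rw [eq_sub_of_add_eq h1]
      exact Submodule.sub_mem _ hx (Submodule.sum_mem _ fun i _ => Submodule.smul_mem _ _ (hcD i))
    rw [h2, zero_add] at h1
    rw [hg, ← h1, map_sum]
    refine Submodule.sum_mem _ fun i _ => ?_
    rw [map_smul, show c i = v (Sum.inr i) from rfl, hfv]
    exact Submodule.smul_mem _ _ (Submodule.smul_mem _ _ (b i).2)

theorem finrank_pair_le_symp (u v : V) :
    Module.finrank F ↥(Submodule.span F {u} ⊔ Submodule.span F {v}) ≤ 2 := by
  have h1 := Submodule.finrank_sup_add_finrank_inf_eq (Submodule.span F {u}) (Submodule.span F {v})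
  have h3 : Module.finrank F (Submodule.span F {u}) ≤ 1 := (finrank_span_le_card {u}).trans (by simp)
  have h4 : Module.finrank F (Submodule.span F {v}) ≤ 1 := (finrank_span_le_card {v}).trans (by simp)
  omega

theorem isMaximalIn_halves_symp [Fintype F] (h2 : (2 : F) ≠ 0) {k : ℕ} (hk : 5 ≤ k) {D : Fin 2 → Submodule F V}
    (hD : Cfsg.Geo.IsMDecomposition k D) (hts : ∀ i, ∀ x ∈ D i, ∀ y ∈ D i, BB x y = 0) :
    Cfsg.Geo.IsMaximalIn (Cfsg.spGL m F) (Cfsg.Geo.decompositionStabilizer D ⊓ Cfsg.spGL m F) := by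
  classical
  have hI := isForm_symp (F := F) (m := m)
  have hc := decomp_two_isCompl hD
  have hn : m + m = k + k := by
    have := Submodule.finrank_add_eq_of_isCompl hc
    rw [hD.finrank_eq, hD.finrank_eq, Module.finrank_pi, Fintype.card_sum, Fintype.card_fin] at this
    omega
  have hdec : ∀ z, ∃ a ∈ D 0, ∃ b ∈ D 1, z = a + b := fun z => by
    obtain ⟨a, ha, b, hb, h⟩ := Submodule.mem_sup.mp (hc.sup_eq_top ▸ Submodule.mem_top (x := z))
    exact ⟨a, ha, b, hb, h.symm⟩
  -- pairing between the halves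
  have hpairH : ∀ (a : V), a ∈ D 0 → ∀ (H : Submodule F V), H ≤ D 0 → a ∉ H → ∀ r : F,
      ∃ b ∈ D 1, (∀ x ∈ H, BB x b = 0) ∧ BB a b = r := by
    intro a ha H hH haH r
    obtain ⟨d, hd, hd1⟩ := hI.exists_perp_pairing haH r
    obtain ⟨p, hp, w, hw, rfl⟩ := hdec d
    have hval : ∀ x ∈ D 0, BB x w = BB x (p + w) := fun x hx => by rw [map_add, hts 0 x hx p hp, zero_add]
    exact ⟨w, hw, fun x hx => by rw [hval x (hH hx), hd x hx], by rw [hval a ha, hd1]⟩
  have hsS : ∀ a ∈ D 0, ∀ b ∈ D 1, BB a b = 0 →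
      sS a b ∈ Cfsg.Geo.decompositionStabilizer D ⊓ Cfsg.spGL m F := by
    intro a ha b hb hab
    refine ⟨mem_decomp_two hD (Fin.forall_fin_two.mpr ⟨⟨0, fun x hx => ?_⟩, ⟨1, fun x hx => ?_⟩⟩), sS_mem a b⟩
    · rw [sS_mulVec hab, hts 0 x hx a ha, zero_smul, add_zero]
      exact (D 0).add_mem hx ((D 0).smul_mem _ ha)
    · rw [sS_mulVec hab, hts 1 x hx b hb, zero_smul, add_zero]
      exact (D 1).add_mem hx ((D 1).smul_mem _ hb)
  obtain ⟨s, hsS', hs0, hs1⟩ := exists_swap_symp hD hts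
  have hsD : s ∈ Cfsg.Geo.decompositionStabilizer D :=
    mem_decomp_two hD (Fin.forall_fin_two.mpr ⟨⟨1, hs0⟩, ⟨0, hs1⟩⟩)
  have hsinj : ∀ x, (s : Mx) *ᵥ x = 0 → x = 0 := fun x h => by
    have h' := congrArg (((s⁻¹ : GLV) : Mx) *ᵥ ·) h
    simpa [Matrix.mulVec_mulVec, ← Units.val_mul] using h'
  obtain ⟨e0, he0, he00⟩ := (Submodule.ne_bot_iff (D 0)).mp fun h => by
    have := hD.finrank_eq 0; rw [h, finrank_bot] at this; omega
  refine ⟨lt_of_le_of_ne inf_le_right fun h => ?_, fun L hL hLS => ?_⟩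
  · have h1 := spT_mem e0 (1 : F)
    rw [← h] at h1
    obtain ⟨σ, hσ⟩ := h1.1
    obtain ⟨d, hd, -, hed⟩ := hpairH e0 he0 ⊥ bot_le (by simpa using he00) 1
    have h2 : d + (-1 : F) • e0 ∈ D (σ 1) := by
      rw [← hσ 1, Submodule.mem_map]
      exact ⟨d, hd, by rw [Matrix.toLin'_apply, spT_mulVec, one_mul, sympB_skew d e0, hed]⟩
    have hd0 : d ≠ 0 := fun h => by rw [h, map_zero] at hed; exact zero_ne_one hed
    have key : ∀ i, d + (-1 : F) • e0 ∈ D i → False := by
      refine Fin.forall_fin_two.mpr ⟨fun h3 => ?_, fun h3 => ?_⟩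
      · exact hd0 (Submodule.disjoint_def.mp hc.disjoint d ((Submodule.add_mem_iff_left _ ((D 0).smul_mem _ he0)).mp h3) hd)
      · have h4 := (Submodule.add_mem_iff_right _ hd).mp h3
        rw [Submodule.smul_mem_iff _ (neg_ne_zero.mpr (one_ne_zero (α := F)))] at h4
        exact he00 (Submodule.disjoint_def.mp hc.disjoint e0 he0 h4)
    exact key _ h2
  by_cases hle : L ≤ Cfsg.Geo.decompositionStabilizer D
  · exact Or.inl (le_antisymm (le_inf hle hLS) hL)
  obtain ⟨g0, hg0, hg0'⟩ := SetLike.not_le_iff_exists.mp hle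
  refine Or.inr (le_antisymm hLS (spGL_le_of_spT ?_))
  have hsL : s ∈ L := hL ⟨hsD, hsS'⟩
  have hsmap : (D 0).map (Matrix.toLin' (s : Mx)) = D 1 := by
    have hinj : Function.Injective (Matrix.toLin' (s : Mx)) := fun x y hxy => by
      have h' := congrArg ((s⁻¹ : GLV) : Mx).mulVec hxy
      simpa [Matrix.mulVec_mulVec, ← Units.val_mul] using h'
    refine Submodule.eq_of_le_of_finrank_eq (Submodule.map_le_iff_le_comap.mpr fun x hx => by simpa using hs0 x hx) ?_
    rw [← (Submodule.equivMapOfInjective _ hinj (D 0)).finrank_eq, hD.finrank_eq, hD.finrank_eq]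
  -- a vector of a half with a mixed image
  obtain ⟨g, hgL, a, ha, a1, ha1, a2, ha2, hga, ha10, ha20⟩ : ∃ g ∈ L, ∃ a ∈ D 0, ∃ a1 ∈ D 0, ∃ a2 ∈ D 1,
      (g : Mx) *ᵥ a = a1 + a2 ∧ a1 ≠ 0 ∧ a2 ≠ 0 := by
    by_contra hcon
    push_neg at hcon
    apply hg0'
    have key : ∀ g ∈ L, ∃ j, ∀ x ∈ D 0, (g : Mx) *ᵥ x ∈ D j := by
      intro g hg
      rcases image_two (W := (D 0).map (Matrix.toLin' (g : Mx))) (D0 := D 0) (D1 := D 1) (fun y hy => by
          obtain ⟨x, hx, rfl⟩ := hy
          obtain ⟨a1, ha1, a2, ha2, h⟩ := hdec ((g : Mx) *ᵥ x)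
          rw [Matrix.toLin'_apply, h]
          rcases eq_or_ne a1 0 with h1 | h1
          · right; rw [h1, zero_add]; exact ha2
          · left; rw [hcon g hg x hx a1 ha1 a2 ha2 h h1, add_zero]; exact ha1) with h | h
      · exact ⟨0, fun x hx => by simpa using h (Submodule.mem_map_of_mem hx)⟩
      · exact ⟨1, fun x hx => by simpa using h (Submodule.mem_map_of_mem hx)⟩
    refine mem_decomp_two hD (Fin.forall_fin_two.mpr ⟨key g0 hg0, ?_⟩)
    obtain ⟨j, hj⟩ := key (g0 * s) (L.mul_mem hg0 hsL)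
    refine ⟨j, fun x hx => ?_⟩
    rw [← hsmap, Submodule.mem_map] at hx
    obtain ⟨y, hy, rfl⟩ := hx
    have := hj y hy
    rw [Units.val_mul, ← Matrix.mulVec_mulVec] at this
    simpa using this
  -- a second vector, the first component independent
  obtain ⟨g, hgL, a, ha, b, hb, hab, a1, ha1, a2, ha2, hga, b1, hb1, b2, hb2, hgb, ha10, hind⟩ :
      ∃ g ∈ L, ∃ a ∈ D 0, ∃ b ∈ D 1, BB a b = 0 ∧ ∃ a1 ∈ D 0, ∃ a2 ∈ D 1, (g : Mx) *ᵥ a = a1 + a2 ∧
        ∃ b1 ∈ D 0, ∃ b2 ∈ D 1, (g : Mx) *ᵥ b = b1 + b2 ∧ a1 ≠ 0 ∧ b1 ∉ Submodule.span F {a1} := by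
    set B := D 1 ⊓ perp BB (Submodule.span F {a})
    have hBdim : 3 ≤ Module.finrank F B := by
      have h1 := hI.finrank_perp (Submodule.span F {a})
      have h2 : Module.finrank F (Submodule.span F {a}) ≤ 1 := (finrank_span_le_card {a}).trans (by simp)
      have h3 := Submodule.finrank_sup_add_finrank_inf_eq (D 1) (perp BB (Submodule.span F {a}))
      have h4 := Submodule.finrank_le (D 1 ⊔ perp BB (Submodule.span F {a}))
      rw [hD.finrank_eq] at h3
      rw [Module.finrank_pi, Fintype.card_sum, Fintype.card_fin] at h1 h4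
      show 3 ≤ Module.finrank F ↥(D 1 ⊓ perp BB (Submodule.span F {a}))
      omega
    by_contra hcon
    push_neg at hcon
    let φ := Matrix.toLin' (g : Mx)
    have hφ : Function.Injective φ := fun x y h => by
      have h' := congrArg ((g⁻¹ : GLV) : Mx).mulVec h
      simpa [φ, Matrix.mulVec_mulVec, ← Units.val_mul] using h'
    have hBsmall : B.map φ ≤ Submodule.span F {a1} ⊔ Submodule.span F {a2} := by
      rintro _ ⟨b, hb, rfl⟩
      have hab : BB a b = 0 := mem_perp_span_singleton.mp hb.2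
      obtain ⟨b1, hb1, b2, hb2, hgb⟩ := hdec (φ b)
      have h1 : b1 ∈ Submodule.span F {a1} :=
        hcon g hgL a ha b hb.1 hab a1 ha1 a2 ha2 hga b1 hb1 b2 hb2 (by simpa [φ] using hgb) ha10
      have h2 := hcon (s * g) (L.mul_mem hsL hgL) a ha b hb.1 hab _ (hs1 a2 ha2) _ (hs0 a1 ha1)
        (by rw [Units.val_mul, ← Matrix.mulVec_mulVec, hga, Matrix.mulVec_add, add_comm]) _ (hs1 b2 hb2) _ (hs0 b1 hb1)
        (by rw [Units.val_mul, ← Matrix.mulVec_mulVec, show (g : Mx) *ᵥ b = φ b from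
          (Matrix.toLin'_apply _ _).symm, hgb, Matrix.mulVec_add, add_comm])
        (fun h => ha20 (hsinj a2 h))
      obtain ⟨c, hc2⟩ := Submodule.mem_span_singleton.mp h2
      have h3 : b2 = c • a2 := sub_eq_zero.mp (hsinj _ (by rw [Matrix.mulVec_sub, Matrix.mulVec_smul, hc2, sub_self]))
      rw [hgb]
      exact Submodule.add_mem_sup h1 (by rw [h3]; exact Submodule.smul_mem _ _ (Submodule.mem_span_singleton_self a2))
    have h1 := Submodule.finrank_mono hBsmall
    rw [← (Submodule.equivMapOfInjective φ hφ B).finrank_eq] at h1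
    have h2 := finrank_pair_le_symp a1 a2
    omega
  -- the element and two commutators
  obtain ⟨δ, hδ, hδ0, hδa2, hδb2, hδab⟩ : ∃ δ ∈ D 0, δ ≠ 0 ∧ BB a2 δ = 0 ∧ BB b2 δ = 0 ∧
      δ ∉ Submodule.span F {a1} ⊔ Submodule.span F {b1} := by
    set S := D 0 ⊓ perp BB (Submodule.span F {a2} ⊔ Submodule.span F {b2})
    have hS : 3 ≤ Module.finrank F S := by
      have h1 := hI.finrank_perp (Submodule.span F {a2} ⊔ Submodule.span F {b2})
      have h2 := finrank_pair_le_symp a2 b2
      have h3 := Submodule.finrank_sup_add_finrank_inf_eq (D 0) (perp BB (Submodule.span F {a2} ⊔ Submodule.span F {b2}))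
      have h4 := Submodule.finrank_le (D 0 ⊔ perp BB (Submodule.span F {a2} ⊔ Submodule.span F {b2}))
      rw [hD.finrank_eq] at h3
      rw [Module.finrank_pi, Fintype.card_sum, Fintype.card_fin] at h1 h4
      show 3 ≤ Module.finrank F ↥(D 0 ⊓ perp BB (Submodule.span F {a2} ⊔ Submodule.span F {b2}))
      omega
    obtain ⟨δ, hδ, hδ'⟩ : ∃ δ ∈ S, δ ∉ Submodule.span F {a1} ⊔ Submodule.span F {b1} := by
      by_contra h
      push_neg at h
      have h1 := Submodule.finrank_mono h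
      have h2 := finrank_pair_le_symp a1 b1
      omega
    exact ⟨δ, hδ.1, fun h => hδ' (h ▸ Submodule.zero_mem _),
      mem_perp.mp hδ.2 a2 (Submodule.mem_sup_left (Submodule.mem_span_singleton_self a2)),
      mem_perp.mp hδ.2 b2 (Submodule.mem_sup_right (Submodule.mem_span_singleton_self b2)), hδ'⟩
  have hδa1 : δ ∉ Submodule.span F {a1} := fun h => hδab (Submodule.mem_sup_left h)
  have hδδ := hts 0 δ hδ δ hδ
  have hgS := hLS hgL
  set a' := (g : Mx) *ᵥ a with ha'def
  set b' := (g : Mx) *ᵥ b with hb'def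
  have hab' : BB a' b' = 0 := by rw [mem_spGL_iff.mp hgS, hab]
  have haδ : BB a' δ = 0 := by rw [hga, map_add, LinearMap.add_apply, hts 0 a1 ha1 δ hδ, hδa2, add_zero]
  have hbδ' : BB b' δ = 0 := by rw [hgb, map_add, LinearMap.add_apply, hts 0 b1 hb1 δ hδ, hδb2, add_zero]
  have hb1S : b1 ∉ Submodule.span F {δ} ⊔ Submodule.span F {a1} := fun h => by
    obtain ⟨x, hx, y, hy, hxy⟩ := Submodule.mem_sup.mp h
    obtain ⟨t, rfl⟩ := Submodule.mem_span_singleton.mp hx
    rcases eq_or_ne t 0 with rfl | ht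
    · rw [zero_smul, zero_add] at hxy; exact hind (hxy ▸ hy)
    · apply hδab
      have h1 : t • δ ∈ Submodule.span F {a1} ⊔ Submodule.span F {b1} := by
        rw [show t • δ = b1 - y by rw [← hxy]; abel]
        exact Submodule.sub_mem _ (Submodule.mem_sup_right (Submodule.mem_span_singleton_self b1)) (Submodule.mem_sup_left hy)
      rwa [Submodule.smul_mem_iff _ ht] at h1
  obtain ⟨w2, hw2, hw2H, hw2b⟩ := hpairH b1 hb1 _
    (sup_le ((Submodule.span_singleton_le_iff_mem _ _).mpr hδ) ((Submodule.span_singleton_le_iff_mem _ _).mpr ha1)) hb1S 1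
  have hw2δ : BB δ w2 = 0 := hw2H δ (Submodule.mem_sup_left (Submodule.mem_span_singleton_self δ))
  have hw2a : BB a1 w2 = 0 := hw2H a1 (Submodule.mem_sup_right (Submodule.mem_span_singleton_self a1))
  have ha1δ : a1 ∉ Submodule.span F {δ} := fun h => by
    obtain ⟨c, hc'⟩ := Submodule.mem_span_singleton.mp h
    have hc0 : c ≠ 0 := fun h0 => ha10 (by rw [← hc', h0, zero_smul])
    exact hδa1 (Submodule.mem_span_singleton.mpr ⟨c⁻¹, by rw [← hc', smul_smul, inv_mul_cancel₀ hc0, one_smul]⟩)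
  obtain ⟨w3, hw3, hw3H, hw3a⟩ := hpairH a1 ha1 _ ((Submodule.span_singleton_le_iff_mem _ _).mpr hδ) ha1δ 1
  have hw3δ : BB δ w3 = 0 := hw3H δ (Submodule.mem_span_singleton_self δ)
  have hk1 := hL (hsS δ hδ w2 hw2 hw2δ)
  have hk2 := hL (hsS δ hδ w3 hw3 hw3δ)
  have hUL : sS a' b' ∈ L := by
    rw [sS_conj hgS]
    exact L.mul_mem (L.mul_mem hgL (hL (hsS a ha b hb hab))) (L.inv_mem hgL)
  have hk1a : (sS δ w2 : Mx) *ᵥ a' = a' := by
    rw [sS_mulVec hw2δ, haδ, zero_smul, add_zero, hga, map_add, LinearMap.add_apply, hw2a, hts 1 a2 ha2 w2 hw2,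
      add_zero, zero_smul, add_zero]
  have hk1b : (sS δ w2 : Mx) *ᵥ b' = b' + δ := by
    rw [sS_mulVec hw2δ, hbδ', zero_smul, add_zero, hgb, map_add, LinearMap.add_apply, hw2b, hts 1 b2 hb2 w2 hw2,
      add_zero, one_smul]
  have hk2a : (sS δ w3 : Mx) *ᵥ a' = a' + δ := by
    rw [sS_mulVec hw3δ, haδ, zero_smul, add_zero, hga, map_add, LinearMap.add_apply, hw3a, hts 1 a2 ha2 w3 hw3,
      add_zero, one_smul]
  have hk2δ : (sS δ w3 : Mx) *ᵥ δ = δ := by
    rw [sS_mulVec hw3δ, hw3δ, hδδ, zero_smul, zero_smul, add_zero, add_zero]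
  have habδ : BB a' (b' + δ) = 0 := by rw [map_add, hab', haδ, add_zero]
  have hU1L : sS a' (b' + δ) ∈ L := by
    have := sS_conj (sS_mem δ w2) a' b'
    rw [hk1a, hk1b] at this
    rw [this]
    exact L.mul_mem (L.mul_mem hk1 hUL) (L.inv_mem hk1)
  have hδa' := sympB_skew_zero haδ
  have hδb' := sympB_skew_zero hbδ'
  have hXL : sS a' δ ∈ L := by
    have : sS a' δ = sS a' (b' + δ) * (sS a' b')⁻¹ := by
      rw [eq_mul_inv_iff_mul_eq]
      refine Units.ext (matrix_ext_mulVec fun x => ?_)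
      rw [Units.val_mul, ← Matrix.mulVec_mulVec, sS_mulVec habδ, sS_mulVec hab', sS_mulVec haδ]
      simp only [map_add, map_smul, LinearMap.add_apply, LinearMap.smul_apply, smul_eq_mul, sympB_self, hab', haδ,
        hbδ', hδa', hδb', sympB_skew_zero hab']
      module
    rw [this]; exact L.mul_mem hU1L (L.inv_mem hUL)
  have haδ2 : BB (a' + δ) δ = 0 := by rw [map_add, LinearMap.add_apply, haδ, hδδ, add_zero]
  have hX1L : sS (a' + δ) δ ∈ L := by
    have := sS_conj (sS_mem δ w3) a' δ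
    rw [hk2a, hk2δ] at this
    rw [this]
    exact L.mul_mem (L.mul_mem hk2 hXL) (L.inv_mem hk2)
  have hc0L : spT δ (2 : F) ∈ L := by
    have : spT δ (2 : F) = sS (a' + δ) δ * (sS a' δ)⁻¹ := by
      rw [eq_mul_inv_iff_mul_eq]
      refine Units.ext (matrix_ext_mulVec fun x => ?_)
      rw [Units.val_mul, ← Matrix.mulVec_mulVec, spT_mulVec, sS_mulVec haδ, sS_mulVec haδ2]
      simp only [map_add, map_smul, LinearMap.add_apply, LinearMap.smul_apply, smul_eq_mul, sympB_self, haδ, hδa']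
      module
    rw [this]; exact L.mul_mem hX1L (L.inv_mem hXL)
  -- transitivity on a half
  have hmove : ∀ y ∈ D 0, y ≠ 0 → ∀ x ∈ D 0, x ∉ Submodule.span F {y} →
      ∃ u ∈ L, (u : Mx) *ᵥ y = x := by
    intro y hy hy0 x hx hxy
    have hyd : y ∉ Submodule.span F {x - y} := fun h => by
      obtain ⟨c, hc'⟩ := Submodule.mem_span_singleton.mp h
      by_cases hc0 : c = 0
      · exact hy0 (by rw [← hc', hc0, zero_smul])
      · refine hxy (Submodule.mem_span_singleton.mpr ⟨c⁻¹ + 1, ?_⟩)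
        rw [add_smul, one_smul]
        conv_lhs => enter [1]; rw [← hc', smul_smul, inv_mul_cancel₀ hc0, one_smul]
        abel
    obtain ⟨w, hw, hwH, hyw⟩ := hpairH y hy _ ((Submodule.span_singleton_le_iff_mem _ _).mpr ((D 0).sub_mem hx hy)) hyd 1
    have hxw : BB (x - y) w = 0 := hwH _ (Submodule.mem_span_singleton_self _)
    refine ⟨sS (x - y) w, hL (hsS _ ((D 0).sub_mem hx hy) w hw hxw), ?_⟩
    rw [sS_mulVec hxw, hyw, one_smul, hts 0 y hy _ ((D 0).sub_mem hx hy), zero_smul, add_zero, add_sub_cancel]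
  have hall2 : ∀ x ∈ D 0, x ≠ 0 → spT x (2 : F) ∈ L := by
    intro x hx hx0
    obtain ⟨u, hu, hux⟩ : ∃ u ∈ L, (u : Mx) *ᵥ δ = x := by
      by_cases hxδ : x ∈ Submodule.span F {δ}
      · obtain ⟨u1, hu1, hu1x⟩ := hmove δ hδ hδ0 a1 ha1 ha1δ
        obtain ⟨u2, hu2, hu2x⟩ := hmove a1 ha1 ha10 x hx (fun h => by
          obtain ⟨t, ht⟩ := Submodule.mem_span_singleton.mp hxδ
          have ht0 : t ≠ 0 := fun h0 => hx0 (by rw [← ht, h0, zero_smul])
          rw [← ht, Submodule.smul_mem_iff _ ht0] at h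
          exact hδa1 h)
        exact ⟨u2 * u1, L.mul_mem hu2 hu1, by rw [Units.val_mul, ← Matrix.mulVec_mulVec, hu1x, hu2x]⟩
      · exact hmove δ hδ hδ0 x hx hxδ
    rw [← hux, spT_conj (hLS hu)]
    exact L.mul_mem (L.mul_mem hu hc0L) (L.inv_mem hu)
  -- every coefficient
  have hsmulT : ∀ (z : V) (t c : F), spT (t • z) c = spT z (c * t * t) := fun z t c =>
    Units.ext (matrix_ext_mulVec fun x => by
      rw [spT_mulVec, spT_mulVec, map_smul, smul_smul, smul_eq_mul]
      congr 2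
      ring)
  have haddT : ∀ (z : V) (c d : F), spT z (c + d) = spT z c * spT z d := fun z c d =>
    Units.ext (matrix_ext_mulVec fun x => by
      rw [Units.val_mul, ← Matrix.mulVec_mulVec, spT_mulVec, spT_mulVec, spT_mulVec]
      simp only [map_add, map_smul, LinearMap.add_apply, LinearMap.smul_apply, smul_eq_mul, sympB_self, mul_zero, add_zero]
      module)
  have hzero : ∀ (z : V), spT z (0 : F) = 1 := fun z => Units.ext (matrix_ext_mulVec fun x => by
    rw [spT_mulVec, zero_mul, zero_smul, add_zero, Units.val_one, Matrix.one_mulVec])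
  have hcentre0 : ∀ x ∈ D 0, x ∈ spCentre L := by
    intro x hx
    rcases eq_or_ne x 0 with rfl | hx0
    · intro c
      rw [show spT (0 : V) c = 1 from Units.ext (matrix_ext_mulVec fun y => by
        rw [spT_mulVec, smul_zero, add_zero, Units.val_one, Matrix.one_mulVec])]
      exact L.one_mem
    have hsq : ∀ r : F, spT x (2 * (r * r)) ∈ L := by
      intro r
      rcases eq_or_ne r 0 with rfl | hr
      · rw [mul_zero, mul_zero, hzero]; exact L.one_mem
      have := hall2 (r • x) ((D 0).smul_mem _ hx) (smul_ne_zero hr hx0)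
      rwa [hsmulT, mul_assoc] at this
    intro c
    -- every element is a difference of two squares
    have hc : c = 2 * (((c / 2 + 1) / 2) * ((c / 2 + 1) / 2)) + -(2 * (((c / 2 - 1) / 2) * ((c / 2 - 1) / 2))) := by
      field_simp; ring
    rw [hc, haddT]
    refine L.mul_mem (hsq _) ?_
    rw [show spT x (-(2 * (((c / 2 - 1) / 2) * ((c / 2 - 1) / 2)))) = (spT x (2 * (((c / 2 - 1) / 2) * ((c / 2 - 1) / 2))))⁻¹ from
      eq_inv_of_mul_eq_one_left (by rw [← haddT, neg_add_cancel, hzero])]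
    exact L.inv_mem (hsq _)
  have hcentre1 : ∀ x ∈ D 1, x ∈ spCentre L := by
    intro x hx
    have h1 := spCentre_mulVec (L.inv_mem hsL) (inv_mem hsS') (hcentre0 _ (hs1 x hx))
    simpa [Matrix.mulVec_mulVec, ← Units.val_mul] using h1
  have htype1 : ∀ a ∈ D 0, ∀ b ∈ D 1, BB b a ≠ 0 → a + b ∈ spCentre L := by
    intro a ha b hb hne
    have h1 := spCentre_add (hcentre0 a ha) (hcentre1 b hb) hne
    rwa [add_comm] at h1
  suffices hall : ∀ z, z ∈ spCentre L by exact fun z c => hall z c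
  intro z
  obtain ⟨a, ha, b, hb, rfl⟩ := hdec z
  by_cases hne : BB b a = 0
  swap
  · exact htype1 a ha b hb hne
  by_cases hb0 : b = 0
  · rw [hb0, add_zero]; exact hcentre0 a ha
  by_cases ha0 : a = 0
  · rw [ha0, zero_add]; exact hcentre1 b hb
  obtain ⟨d, hd, -, had⟩ := hpairH a ha ⊥ bot_le (by simpa using ha0) 1
  have hzd : BB (a + b) d = 1 := by rw [map_add, LinearMap.add_apply, had, hts 1 b hb d hd, add_zero]
  have h1 : a + (b + d) ∈ spCentre L := htype1 a ha (b + d) ((D 1).add_mem hb hd) (by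
    rw [map_add, LinearMap.add_apply, hne, zero_add, sympB_skew, had]; exact neg_ne_zero.mpr one_ne_zero)
  have h2 := spCentre_mulVec (hcentre1 d hd (-1)) (spT_mem _ _) h1
  rw [spT_mulVec] at h2
  convert h2 using 1
  rw [← add_assoc, map_add, LinearMap.add_apply, hzd, sympB_self, add_zero]
  module

end Cfsg.Agent.GeomClasses
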