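import Cfsg.Agent.GeomClasses.SubfieldInSL
import Cfsg.Agent.GeomClasses.SympMax
import Cfsg.Agent.GeomClasses.TwoHalvesSymp

/-! # Subfield groups are maximal in symplectic groups -/

set_option autoImplicit false
set_option linter.unusedSectionVars false

namespace Cfsg.Agent.GeomClasses.SubfieldSp

open Matrix Cfsg.Agent.Forms Cfsg.Agent.GeomClasses Cfsg.Agent.GeomClasses.SubfieldSL

variable {m : ℕ} {F : Type*} [Field F] {F₀ : Subfield F}

local notation "Vec" => (Fin m ⊕ Fin m → F)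
local notation "BB" => sympB m F
local notation "Mx" => Matrix (Fin m ⊕ Fin m) (Fin m ⊕ Fin m) F
local notation "Idx" => Fin m ⊕ Fin m

attribute [-simp] sympB_apply

/-- The unit vectors. -/
def ev (p : Fin m ⊕ Fin m) : Fin m ⊕ Fin m → F := Pi.single p 1

/-- The pair of an index. -/
def pidx (p : Fin m ⊕ Fin m) : Fin m := Sum.elim id id p

theorem pidx_swap (p : Idx) : pidx p.swap = pidx p := by cases p <;> rfl

theorem eq_or_swap {p q : Idx} (h : pidx p = pidx q) : q = p ∨ q = p.swap := by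
  cases p <;> cases q <;> simp_all [pidx]

theorem swap_ne (p : Idx) : p.swap ≠ p := by cases p <;> simp

/-- The sign of a unit vector against its partner. -/
def sgn (p : Fin m ⊕ Fin m) : F := Sum.elim (fun _ => (-1 : F)) (fun _ => 1) p

theorem sgn_mul_self (p : Idx) : (sgn p : F) * sgn p = 1 := by cases p <;> simp [sgn]

theorem sgn_mem (p : Idx) : (sgn p : F) ∈ F₀ := by
  cases p <;> simp [sgn, F₀.neg_mem F₀.one_mem, F₀.one_mem]

theorem sgn_ne_zero (p : Idx) : (sgn p : F) ≠ 0 := by cases p <;> simp [sgn]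

theorem B_ev (p : Idx) (x : Vec) : BB (ev p) x = sgn p * x p.swap := by
  rw [sympB_apply, Cfsg.sympForm, ev, single_dotProduct, one_mul]
  cases p <;> simp [Matrix.J, Matrix.fromBlocks_mulVec, Matrix.mulVec, sgn, Matrix.one_apply, dotProduct,
    Finset.sum_ite_eq']

theorem B_ev_ev {p q : Idx} (h : q ≠ p.swap) : BB (ev p : Vec) (ev q) = 0 := by
  rw [B_ev, ev, Pi.single_eq_of_ne (Ne.symm h), mul_zero]

theorem B_ev_swap (p : Idx) : BB (ev p : Vec) (ev p.swap) = sgn p := by
  rw [B_ev, ev, Pi.single_eq_same, mul_one]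

theorem B_of_pidx {p q : Idx} (h : pidx p ≠ pidx q) : BB (ev p : Vec) (ev q) = 0 :=
  B_ev_ev fun e => h (by rw [e, pidx_swap])

theorem B_rat {x y : Vec} (hx : Rat' F₀ x) (hy : Rat' F₀ y) : BB x y ∈ F₀ := by
  rw [sympB_apply, Cfsg.sympForm, dotProduct]
  refine F₀.sum_mem fun i _ => F₀.mul_mem (hx i) ?_
  rw [Matrix.mulVec, dotProduct]
  refine F₀.sum_mem fun j _ => F₀.mul_mem ?_ (hy j)
  have h1 := F₀.one_mem
  have h0 := F₀.zero_mem
  have h2 := F₀.neg_mem h1
  rcases i with i | i <;> rcases j with j | j <;> simp [Matrix.J, Matrix.one_apply] <;> split_ifs <;> simp_all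

theorem rat_ev (p : Idx) : Rat' F₀ (ev p : Vec) := fun j => by
  rcases eq_or_ne j p with rfl | h
  · rw [ev, Pi.single_eq_same]; exact F₀.one_mem
  · rw [ev, Pi.single_eq_of_ne h]; exact F₀.zero_mem

theorem spT_smul (a c : F) (z : Vec) : spT (a • z) c = spT z (c * (a * a)) := by
  refine Units.ext (matrix_ext_mulVec fun x => ?_)
  rw [spT_mulVec, spT_mulVec, map_smul, smul_smul, smul_eq_mul]
  congr 2
  ring

theorem spT_add (y z : Vec) (c : F) (h : BB y z = 0) :
    spT (y + z) c = spT y c * spT z c * sS (c • y) z := by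
  refine Units.ext (matrix_ext_mulVec fun x => ?_)
  have h' : BB (c • y) z = 0 := by rw [map_smul, LinearMap.smul_apply, h, smul_zero]
  have h'' := sympB_skew_zero h
  simp only [Units.val_mul, ← Matrix.mulVec_mulVec, spT_mulVec, sS_mulVec h', map_add, map_smul, LinearMap.add_apply,
    LinearMap.smul_apply, smul_eq_mul, sympB_self, h, h'']
  module

theorem sS_add_left (a a' b : Vec) (h : BB a b = 0) (h' : BB a' b = 0) (haa : BB a a' = 0) :
    sS (a + a') b = sS a b * sS a' b := by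
  refine Units.ext (matrix_ext_mulVec fun x => ?_)
  have h2 : BB (a + a') b = 0 := by rw [map_add, LinearMap.add_apply, h, h', add_zero]
  have h3 := sympB_skew_zero h
  have h4 := sympB_skew_zero h'
  have h5 := sympB_skew_zero haa
  simp only [Units.val_mul, ← Matrix.mulVec_mulVec, sS_mulVec h2, sS_mulVec h, sS_mulVec h', map_add, map_smul,
    LinearMap.add_apply, LinearMap.smul_apply, smul_eq_mul, sympB_self, h, h', h3, h4, haa, h5]
  module

theorem sS_comm (a b : Vec) (h : BB a b = 0) : sS a b = sS b a := by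
  refine Units.ext (matrix_ext_mulVec fun x => ?_)
  rw [sS_mulVec h, sS_mulVec (sympB_skew_zero h), add_right_comm]

theorem sS_smul_comm (μ : F) (a b : Vec) (h : BB a b = 0) : sS (μ • a) b = sS (μ • b) a := by
  refine Units.ext (matrix_ext_mulVec fun x => ?_)
  rw [sS_mulVec (by rw [map_smul, LinearMap.smul_apply, h, smul_zero]),
    sS_mulVec (by rw [map_smul, LinearMap.smul_apply, sympB_skew_zero h, smul_zero])]
  simp only [map_smul, smul_eq_mul]
  module

theorem mem_range_of_rat' {ι : Type} [Fintype ι] [DecidableEq ι] {g : GL ι F}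
    (h : ∀ i j, (g : Matrix ι ι F) i j ∈ F₀) :
    g ∈ (Matrix.GeneralLinearGroup.map (n := ι) (F₀.subtype : F₀ →+* F)).range := by
  let A : Matrix ι ι F₀ := fun i j => ⟨_, h i j⟩
  have hA : (F₀.subtype).mapMatrix A = (g : Matrix ι ι F) := rfl
  have hdet : A.det ≠ 0 := fun h0 => by
    have h1 := RingHom.map_det (F₀.subtype : F₀ →+* F) A
    rw [hA, h0, map_zero] at h1
    exact g.det_ne_zero h1.symm
  refine ⟨Matrix.GeneralLinearGroup.mkOfDetNeZero A hdet, Units.ext ?_⟩
  exact hA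

theorem entries_mem' {ι : Type} [Fintype ι] [DecidableEq ι] {g : GL ι F}
    (hg : g ∈ (Matrix.GeneralLinearGroup.map (n := ι) (F₀.subtype : F₀ →+* F)).range) (i j : ι) :
    (g : Matrix ι ι F) i j ∈ F₀ := by
  obtain ⟨g', rfl⟩ := hg
  exact ((g' : Matrix ι ι F₀) i j).2

theorem exists_not_mem [Fintype F] (F₀ : Subfield F) {r : ℕ} (hr : r.Prime)
    (hcard : Fintype.card F = Nat.card F₀ ^ r) : ∃ c : F, c ∉ F₀ := by
  by_contra hcon
  push Not at hcon
  have h1 : Nat.card F₀ = Nat.card F := Nat.card_congr (Equiv.subtypeUnivEquiv hcon)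
  rw [h1, Nat.card_eq_fintype_card] at hcard
  have h2 : Fintype.card F ^ 1 < Fintype.card F ^ r := Nat.pow_lt_pow_right Fintype.one_lt_card hr.one_lt
  rw [pow_one, ← hcard] at h2
  exact lt_irrefl _ h2

variable [Fintype F] {r : ℕ}

theorem mem_of_sq_mem {x : F} (h : x * x ∈ F₀) (h' : (x + 1) * (x + 1) ∈ F₀) : x ∈ F₀ := by
  by_cases h2 : (2 : F) = 0
  · haveI : Finite F₀ := Subtype.finite
    have hinj : Function.Injective (fun t : F₀ => t * t) := fun a b hab => by
      have h1 : (a : F) * a = (b : F) * b := congrArg Subtype.val hab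
      refine Subtype.ext (sub_eq_zero.mp (mul_self_eq_zero.mp ?_))
      linear_combination h1 + ((b : F) * b - (a : F) * b) * h2
    obtain ⟨t, ht⟩ := (Finite.injective_iff_surjective.mp hinj) ⟨x * x, h⟩
    have h1 : (t : F) * t = x * x := congrArg Subtype.val ht
    have h3 : x = (t : F) := sub_eq_zero.mp (mul_self_eq_zero.mp (by
      linear_combination -h1 + ((t : F) * t - x * (t : F)) * h2))
    exact h3 ▸ t.2
  · have h3 : 2 * x ∈ F₀ := by
      have := F₀.sub_mem (F₀.sub_mem h' h) F₀.one_mem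
      rwa [show (x + 1) * (x + 1) - x * x - 1 = 2 * x by ring] at this
    have h4 := F₀.mul_mem (F₀.inv_mem (natCast_mem F₀ 2)) h3
    rwa [Nat.cast_ofNat, ← mul_assoc, inv_mul_cancel₀ h2, one_mul] at h4

/-- Setting: a subgroup of the symplectic group containing the rational elements. -/
structure Setting (F₀ : Subfield F) (r : ℕ) (M : Subgroup (GL (Fin m ⊕ Fin m) F)) : Prop where
  four : 4 ≤ m
  prime : r.Prime
  card : Fintype.card F = Nat.card F₀ ^ r
  le : M ≤ Cfsg.spGL m F
  rat : ∀ g : GL (Fin m ⊕ Fin m) F, g ∈ Cfsg.spGL m F →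
    (∀ i j, (g : Matrix (Fin m ⊕ Fin m) (Fin m ⊕ Fin m) F) i j ∈ F₀) → g ∈ M

variable {M : Subgroup (GL (Fin m ⊕ Fin m) F)}

theorem Setting.spT_rat (S : Setting F₀ r M) {z : Vec} (hz : Rat' F₀ z) {c : F} (hc : c ∈ F₀) : spT z c ∈ M := by
  refine S.rat _ (spT_mem _ _) fun i j => ?_
  have h := congrFun (spT_mulVec z c (ev j)) i
  rw [ev, Matrix.mulVec_single, MulOpposite.op_one, one_smul, Matrix.col_apply, ← ev, Pi.add_apply, Pi.smul_apply,
    smul_eq_mul] at h
  rw [h]
  exact F₀.add_mem (rat_ev j i) (F₀.mul_mem (F₀.mul_mem hc (B_rat (rat_ev j) hz)) (hz i))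

theorem Setting.sS_rat (S : Setting F₀ r M) {a b : Vec} (ha : Rat' F₀ a) (hb : Rat' F₀ b) : sS a b ∈ M :=
  M.mul_mem (M.mul_mem (S.spT_rat (fun i => F₀.add_mem (ha i) (hb i)) F₀.one_mem)
    (S.spT_rat ha (F₀.neg_mem F₀.one_mem))) (S.spT_rat hb (F₀.neg_mem F₀.one_mem))

/-- The shear sending the unit vector `q` to the sum of the unit vectors `q` and `p`. -/
noncomputable def lv (p q : Fin m ⊕ Fin m) : GL (Fin m ⊕ Fin m) F :=
  sS ((sgn q : F) • (ev p : Fin m ⊕ Fin m → F)) (ev q.swap)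

theorem Setting.lv_mem (S : Setting F₀ r M) (p q : Idx) : (lv p q : GL (Fin m ⊕ Fin m) F) ∈ M :=
  S.sS_rat (fun i => by rw [Pi.smul_apply, smul_eq_mul]; exact F₀.mul_mem (sgn_mem q) (rat_ev p i)) (rat_ev _)

theorem lv_spGL (p q : Idx) : (lv p q : GL (Fin m ⊕ Fin m) F) ∈ Cfsg.spGL m F := sS_mem _ _

theorem lv_self {p q : Idx} (h : pidx p ≠ pidx q) : ((lv p q : GL _ F) : Mx) *ᵥ ev q = ev q + ev p := by
  have h0 : BB ((sgn q : F) • (ev p : Vec)) (ev q.swap) = 0 := by
    rw [map_smul, LinearMap.smul_apply, B_of_pidx (by rwa [pidx_swap]), smul_zero]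
  rw [lv, sS_mulVec h0, B_ev_swap, map_smul, B_of_pidx (Ne.symm h), smul_zero, zero_smul, add_zero, smul_smul,
    sgn_mul_self, one_smul]

theorem lv_other {p q t : Idx} (h : pidx p ≠ pidx q) (h1 : t ≠ q) (h2 : t ≠ p.swap) :
    ((lv p q : GL _ F) : Mx) *ᵥ ev t = ev t := by
  have h0 : BB ((sgn q : F) • (ev p : Vec)) (ev q.swap) = 0 := by
    rw [map_smul, LinearMap.smul_apply, B_of_pidx (by rwa [pidx_swap]), smul_zero]
  have e1 : BB (ev t : Vec) (ev q.swap) = 0 := B_ev_ev fun e => h1 (by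
    have := congrArg Sum.swap e; simpa using this.symm)
  have e2 : BB (ev t : Vec) (ev p) = 0 := B_ev_ev fun e => h2 (by rw [e, Sum.swap_swap])
  rw [lv, sS_mulVec h0, e1, map_smul, e2, smul_zero, zero_smul, zero_smul, add_zero, add_zero]

theorem Setting.spT_conj_mem (S : Setting F₀ r M) {g : GL (Fin m ⊕ Fin m) F} (hg : g ∈ M) {z : Vec} {c : F}
    (h : spT z c ∈ M) : spT ((g : Mx) *ᵥ z) c ∈ M := by
  rw [spT_conj (S.le hg)]; exact M.mul_mem (M.mul_mem hg h) (M.inv_mem hg)

theorem Setting.sS_conj_mem (S : Setting F₀ r M) {g : GL (Fin m ⊕ Fin m) F} (hg : g ∈ M) {a b : Vec}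
    (h : sS a b ∈ M) : sS ((g : Mx) *ᵥ a) ((g : Mx) *ᵥ b) ∈ M := by
  rw [sS_conj (S.le hg)]; exact M.mul_mem (M.mul_mem hg h) (M.inv_mem hg)

/-- The action on the coordinates `B(·, l)`, `B(·, u)` of the elements fixing the common kernel. -/
def planeGroup (M : Subgroup (GL (Fin m ⊕ Fin m) F)) (hM : M ≤ Cfsg.spGL m F) (l l' u w₀ : Fin m ⊕ Fin m → F)
    (hwl : sympB m F w₀ l = 0)
    (hwl' : sympB m F w₀ l' = 0) (hwu : sympB m F w₀ u = 0) : Subgroup (Dickson.SL2 F) where
  carrier := {s | ∃ g ∈ M, (∀ x, sympB m F x l = 0 → sympB m F x l' = 0 → sympB m F x u = 0 →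
      (g : Matrix (Fin m ⊕ Fin m) (Fin m ⊕ Fin m) F) *ᵥ x = x) ∧
    ∀ x, sympB m F x w₀ = 0 →
      sympB m F ((g : Matrix (Fin m ⊕ Fin m) (Fin m ⊕ Fin m) F) *ᵥ x) l = s 0 0 * sympB m F x l + s 0 1 * sympB m F x u ∧
      sympB m F ((g : Matrix (Fin m ⊕ Fin m) (Fin m ⊕ Fin m) F) *ᵥ x) u = s 1 0 * sympB m F x l + s 1 1 * sympB m F x u}
  one_mem' := ⟨1, M.one_mem, fun x _ _ _ => by simp, fun x _ => by simp⟩
  mul_mem' := by
    rintro s t ⟨g, hg, hgf, hgs⟩ ⟨g', hg', hgf', hgs'⟩
    refine ⟨g * g', M.mul_mem hg hg', fun x h1 h2 h3 => ?_, fun x hx => ?_⟩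
    · rw [Units.val_mul, ← Matrix.mulVec_mulVec, hgf' x h1 h2 h3, hgf x h1 h2 h3]
    · have hfix := hgf' w₀ hwl hwl' hwu
      have hx' : sympB m F ((g' : Matrix (Fin m ⊕ Fin m) (Fin m ⊕ Fin m) F) *ᵥ x) w₀ = 0 := by
        conv_lhs => rw [← hfix]
        rw [mem_spGL_iff.mp (hM hg'), hx]
      constructor <;>
        (rw [Units.val_mul, ← Matrix.mulVec_mulVec]; simp only [hgs _ hx', hgs' x hx, Dickson.mul_apply2]; ring)
  inv_mem' := by
    rintro s ⟨g, hg, hgf, hgs⟩
    refine ⟨g⁻¹, M.inv_mem hg, fun x h1 h2 h3 => ?_, fun x hx => ?_⟩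
    · conv_lhs => rw [← hgf x h1 h2 h3]
      rw [Matrix.mulVec_mulVec, ← Units.val_mul, inv_mul_cancel, Units.val_one, Matrix.one_mulVec]
    · have hfix := hgf w₀ hwl hwl' hwu
      have e : (g : Matrix (Fin m ⊕ Fin m) (Fin m ⊕ Fin m) F) *ᵥ
          (((g⁻¹ : GL (Fin m ⊕ Fin m) F) : Matrix (Fin m ⊕ Fin m) (Fin m ⊕ Fin m) F) *ᵥ x) = x := by
        rw [Matrix.mulVec_mulVec, ← Units.val_mul, mul_inv_cancel, Units.val_one, Matrix.one_mulVec]
      have h := hgs (((g⁻¹ : GL (Fin m ⊕ Fin m) F) : Matrix (Fin m ⊕ Fin m) (Fin m ⊕ Fin m) F) *ᵥ x) (by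
        rw [← mem_spGL_iff.mp (hM hg), hfix, e, hx])
      rw [e] at h
      have hdet := Dickson.det_eq s
      simp only [Dickson.inv00, Dickson.inv01, Dickson.inv10, Dickson.inv11]
      constructor
      · linear_combination -(s 1 1) * h.1 + (s 0 1) * h.2 -
          (sympB m F (((g⁻¹ : GL (Fin m ⊕ Fin m) F) : Matrix (Fin m ⊕ Fin m) (Fin m ⊕ Fin m) F) *ᵥ x) l) * hdet
      · linear_combination (s 1 0) * h.1 - (s 0 0) * h.2 -
          (sympB m F (((g⁻¹ : GL (Fin m ⊕ Fin m) F) : Matrix (Fin m ⊕ Fin m) (Fin m ⊕ Fin m) F) *ᵥ x) u) * hdet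

theorem exists_comb {l l' u y : Vec} (h : ∀ x, BB x l = 0 → BB x l' = 0 → BB x u = 0 → BB x y = 0) :
    ∃ a b c : F, y = a • l + b • l' + c • u := by
  let L : Fin 3 → (Vec →ₗ[F] F) := ![(BB).flip l, (BB).flip l', (BB).flip u]
  have hsp : (BB).flip y ∈ Submodule.span F (Set.range L) := by
    refine mem_span_of_iInf_ker_le_ker fun x hx => ?_
    rw [Submodule.mem_iInf] at hx
    exact h x (hx 0) (hx 1) (hx 2)
  obtain ⟨c, hc⟩ := (Submodule.mem_span_range_iff_exists_fun F).mp hsp
  refine ⟨c 0, c 1, c 2, ?_⟩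
  refine sub_eq_zero.mp (isForm_symp.nondeg _ fun x => ?_)
  have h1 := LinearMap.congr_fun hc x
  simp [Fin.sum_univ_three, L] at h1
  simp [map_sub, map_add, map_smul, sympB_skew _ x]
  linear_combination h1

/-- A non-rational long parameter at a coordinate vector. -/
theorem Setting.centre_of_long (S : Setting F₀ r M) {p : Idx} {a : F} (ha : a ∉ F₀) (h : spT (ev p : Vec) a ∈ M) :
    (ev p : Vec) ∈ spCentre M := by
  intro s
  set u : Vec := ev p.swap with hu
  have hk : BB (ev p : Vec) u = sgn p := B_ev_swap p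
  have hl : ∀ c : F, spT (ev p : Vec) c ∈ M →
      Dickson.lel (c * sgn p) ∈ planeGroup M S.le (ev p) 0 u 0 (by simp) (by simp) (by simp) := by
    intro c hc
    refine ⟨_, hc, fun x h1 _ _ => by rw [spT_mulVec, h1, mul_zero, zero_smul, add_zero], fun x _ => ?_⟩
    simp only [spT_mulVec, map_add, map_smul, LinearMap.add_apply, LinearMap.smul_apply, smul_eq_mul, sympB_self, hk,
      Dickson.lel00, Dickson.lel01, Dickson.lel10, Dickson.lel11]
    constructor <;> ring
  have hup : Dickson.uel (-sgn p) ∈ planeGroup M S.le (ev p) 0 u 0 (by simp) (by simp) (by simp) := by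
    refine ⟨_, S.spT_rat (z := u) (rat_ev _) F₀.one_mem, fun x _ _ h3 => by
      rw [spT_mulVec, h3, mul_zero, zero_smul, add_zero], fun x _ => ?_⟩
    simp only [spT_mulVec, map_add, map_smul, LinearMap.add_apply, LinearMap.smul_apply, smul_eq_mul, sympB_self,
      sympB_skew u (ev p), hk, Dickson.uel00, Dickson.uel01, Dickson.uel10, Dickson.uel11]
    constructor <;> ring
  obtain ⟨g, hg, hgf, hgs⟩ := TwoByTwo.lel_full F₀ r S.prime S.card _ (neg_ne_zero.mpr (sgn_ne_zero p)) hup
    (sgn_ne_zero p) (fun c hc => hl c (S.spT_rat (rat_ev p) hc)) (hl a h)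
    (fun hm => ha (by rwa [mul_div_cancel_right₀ _ (sgn_ne_zero p)] at hm)) (s * sgn p)
  simp only [Dickson.lel00, Dickson.lel01, Dickson.lel10, Dickson.lel11, one_mul, zero_mul, add_zero] at hgs
  convert hg using 1
  refine Units.ext (matrix_ext_mulVec fun x => ?_)
  rw [spT_mulVec]
  have hB : ∀ z, BB z ((g : Mx) *ᵥ x - x - (s * BB x (ev p : Vec)) • (ev p : Vec)) = 0 := by
    intro z
    set z' : Vec := z - (BB z u * sgn p) • ev p + (BB z (ev p) * sgn p) • u with hz'
    have e1 : BB z' (ev p) = 0 := by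
      simp only [hz', map_add, map_sub, map_smul, LinearMap.add_apply, LinearMap.sub_apply, LinearMap.smul_apply,
        smul_eq_mul, sympB_self, sympB_skew u (ev p), hk]
      linear_combination -(BB z (ev p : Vec)) * sgn_mul_self (F := F) p
    have e3 : BB z' u = 0 := by
      simp only [hz', map_add, map_sub, map_smul, LinearMap.add_apply, LinearMap.sub_apply, LinearMap.smul_apply,
        smul_eq_mul, sympB_self, hk]
      linear_combination -(BB z u) * sgn_mul_self (F := F) p
    have e4 : BB z' ((g : Mx) *ᵥ x) = BB z' x := by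
      conv_lhs => rw [← hgf z' e1 (map_zero _) e3]
      rw [mem_spGL_iff.mp (S.le hg)]
    have hx := hgs x (map_zero _)
    rw [sympB_skew ((g : Mx) *ᵥ x), sympB_skew ((g : Mx) *ᵥ x), sympB_skew x (ev p), sympB_skew x u] at hx
    simp only [hz', map_add, map_sub, map_smul, LinearMap.add_apply, LinearMap.sub_apply, LinearMap.smul_apply,
      smul_eq_mul, sympB_self] at e4
    simp only [map_sub, map_smul, smul_eq_mul, sympB_skew x (ev p)]
    linear_combination e4 - (BB z u * sgn p) * hx.1 + (BB z (ev p : Vec) * sgn p) * hx.2 -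
      s * BB (ev p : Vec) x * (BB z (ev p : Vec)) * sgn_mul_self (F := F) p
  have h0 : (g : Mx) *ᵥ x - x - (s * BB x (ev p : Vec)) • (ev p : Vec) = 0 :=
    isForm_symp.nondeg _ fun z => by rw [sympB_skew, hB z, neg_zero]
  rw [sub_sub, sub_eq_zero] at h0
  exact h0.symm

theorem Setting.centre_move (S : Setting F₀ r M) {v w : Vec} (hv : Rat' F₀ v) (hw : Rat' F₀ w)
    (hvC : v ∈ spCentre M) (h : BB v w ≠ 0) : w ∈ spCentre M := by
  have ht := S.spT_rat (z := w - v) (fun i => F₀.sub_mem (hw i) (hv i))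
    (F₀.inv_mem (B_rat hv hw))
  have := spCentre_mulVec ht (spT_mem _ _) hvC
  rwa [spT_mulVec, map_sub, sympB_self, sub_zero, inv_mul_cancel₀ h, one_smul, add_sub_cancel] at this

theorem exists_other (hm : 4 ≤ m) (s : Finset (Fin m)) (hs : s.card ≤ 3) : ∃ p : Idx, pidx p ∉ s := by
  obtain ⟨k, -, hk⟩ := Finset.exists_mem_notMem_of_card_lt_card (s := s) (t := Finset.univ)
    (by rw [Finset.card_univ, Fintype.card_fin]; omega)
  exact ⟨Sum.inl k, hk⟩

/-- One long root subgroup gives everything. -/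
theorem Setting.top_of_centre (S : Setting F₀ r M) {p : Idx} (h : (ev p : Vec) ∈ spCentre M) :
    Cfsg.spGL m F ≤ M := by
  have hsw : ∀ {p : Idx}, (ev p : Vec) ∈ spCentre M → (ev p.swap : Vec) ∈ spCentre M := fun {p} hp =>
    S.centre_move (rat_ev _) (rat_ev _) hp (by rw [B_ev_swap]; exact sgn_ne_zero _)
  have hev : ∀ q : Idx, (ev q : Vec) ∈ spCentre M := by
    intro q
    by_cases hq : pidx p = pidx q
    · rcases eq_or_swap hq with rfl | rfl
      · exact h
      · exact hsw h
    · have h1 : BB (ev p : Vec) (ev p.swap + ev q) ≠ 0 := by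
        rw [map_add, B_ev_swap, B_of_pidx hq, add_zero]; exact sgn_ne_zero _
      have h2 := S.centre_move (rat_ev _) (fun i => F₀.add_mem (rat_ev _ i) (rat_ev _ i)) h h1
      have h3 : BB (ev p.swap + ev q : Vec) (ev q.swap) ≠ 0 := by
        rw [map_add, LinearMap.add_apply, B_ev_swap, B_of_pidx (by rwa [pidx_swap, pidx_swap]), zero_add]
        exact sgn_ne_zero _
      have := hsw (S.centre_move (fun i => F₀.add_mem (rat_ev _ i) (rat_ev _ i)) (rat_ev _) h2 h3)
      rwa [Sum.swap_swap] at this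
  have hratC : ∀ v : Vec, Rat' F₀ v → v ≠ 0 → v ∈ spCentre M := by
    intro v hv hv0
    obtain ⟨i, hi⟩ : ∃ i, v i ≠ 0 := Function.ne_iff.mp hv0
    refine S.centre_move (rat_ev i.swap) hv (hev _) ?_
    rw [B_ev, Sum.swap_swap]
    exact mul_ne_zero (sgn_ne_zero _) hi
  have hall : ∀ (s : Finset Idx) (y : Vec), (∀ i ∉ s, y i = 0) → y = 0 ∨ y ∈ spCentre M := by
    intro s
    classical
    induction s using Finset.induction_on with
    | empty => exact fun y hy => Or.inl (funext fun i => hy i (Finset.notMem_empty i))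
    | insert p s hp ih =>
      intro y hy
      set z : Vec := y - y p • ev p with hz
      have hzs : ∀ i ∉ s, z i = 0 := fun i hi => by
        rcases eq_or_ne i p with rfl | hne
        · simp [hz, ev]
        · simp [hz, ev, hne, hy i (by simp [hne, hi])]
      have hyz : y = z + y p • ev p := by rw [hz, sub_add_cancel]
      by_cases ha : y p = 0
      · rw [hyz, ha, zero_smul, add_zero]; exact ih z hzs
      have hpC : y p • ev p ∈ spCentre M := spCentre_smul (hev p) _
      rcases ih z hzs with hz0 | hzC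
      · rw [hyz, hz0, zero_add]; exact Or.inr hpC
      rw [hyz]
      by_cases hB : BB z (ev p) = 0
      swap
      · exact Or.inr (spCentre_add hpC hzC (by rw [map_smul, smul_eq_mul]; exact mul_ne_zero ha hB))
      by_cases hz0 : z = 0
      · rw [hz0, zero_add]; exact Or.inr hpC
      obtain ⟨q, hq⟩ : ∃ q, z q ≠ 0 := Function.ne_iff.mp hz0
      set w : Vec := ev q.swap with hw
      have hzw : BB z w ≠ 0 := by
        rw [sympB_skew, hw, B_ev, Sum.swap_swap, neg_ne_zero]
        exact mul_ne_zero (sgn_ne_zero _) hq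
      have hwp : BB w (ev p : Vec) = 0 := B_ev_ev fun e => by
        rw [Sum.swap_swap] at e
        exact hq (e ▸ hzs p hp)
      have hpw : (ev p - w : Vec) ≠ 0 := fun e => hzw ((sub_eq_zero.mp e) ▸ hB)
      have h1 : z + y p • w ∈ spCentre M :=
        spCentre_add (spCentre_smul (hev _) _) hzC (by rw [map_smul, smul_eq_mul]; exact mul_ne_zero ha hzw)
      have h2 := spCentre_add
        (spCentre_smul (hratC (ev p - w) (fun i => F₀.sub_mem (rat_ev p i) (rat_ev _ i)) hpw) (y p)) h1 (by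
          simp only [map_add, map_sub, map_smul, LinearMap.add_apply, LinearMap.smul_apply, smul_eq_mul, hB, hwp,
            sympB_self, sub_zero, mul_zero, add_zero, zero_sub]
          exact mul_ne_zero ha (neg_ne_zero.mpr hzw))
      rw [show z + y p • ev p = z + y p • w + y p • (ev p - w) by rw [smul_sub]; abel]
      exact Or.inr h2
  refine spGL_le_of_spT fun z c => ?_
  rcases hall Finset.univ z (fun i hi => absurd (Finset.mem_univ i) hi) with hz | hz
  · subst hz
    rw [show spT (0 : Vec) c = 1 from Units.ext (matrix_ext_mulVec fun x => by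
      rw [spT_mulVec, smul_zero, add_zero, Units.val_one, Matrix.one_mulVec])]
    exact M.one_mem
  · exact hz c

/-- A short parameter at a pair of coordinate vectors moves to all pairs. -/
theorem Setting.short_step (S : Setting F₀ r M) {a b c : Idx} {μ : F} (hab : pidx a ≠ pidx b) (hcb : pidx c ≠ pidx b)
    (hca : pidx c ≠ pidx a) (h : sS (μ • (ev a : Vec)) (ev b) ∈ M) : sS (μ • (ev c : Vec)) (ev b) ∈ M := by
  have h1 := S.sS_conj_mem (S.lv_mem c a) h
  have hbc : b ≠ c.swap := fun e => hcb (by rw [e, pidx_swap])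
  have hba : b ≠ a := fun e => hab (by rw [e])
  rw [Matrix.mulVec_smul, lv_self hca, lv_other hca hba hbc, smul_add,
    sS_add_left _ _ _ (by rw [map_smul, LinearMap.smul_apply, B_of_pidx hab, smul_zero])
      (by rw [map_smul, LinearMap.smul_apply, B_of_pidx hcb, smul_zero])
      (by simp [B_of_pidx (F := F) (Ne.symm hca)])] at h1
  exact (M.mul_mem_cancel_left h).mp h1

theorem Setting.short_first (S : Setting F₀ r M) {a b c : Idx} {μ : F} (hab : pidx a ≠ pidx b)
    (hcb : pidx c ≠ pidx b) (h : sS (μ • (ev a : Vec)) (ev b) ∈ M) : sS (μ • (ev c : Vec)) (ev b) ∈ M := by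
  obtain ⟨x, hx⟩ := exists_other S.four ({pidx a, pidx b, pidx c} : Finset (Fin m))
    ((Finset.card_insert_le _ _).trans (Nat.add_le_add_right ((Finset.card_insert_le _ _).trans (by simp)) 1))
  simp only [Finset.mem_insert, Finset.mem_singleton, not_or] at hx
  exact S.short_step hx.2.1 hcb (Ne.symm hx.2.2) (S.short_step hab hx.2.1 hx.1 h)

theorem Setting.short_all (S : Setting F₀ r M) {a b c d : Idx} {μ : F} (hab : pidx a ≠ pidx b)
    (hcd : pidx c ≠ pidx d) (h : sS (μ • (ev a : Vec)) (ev b) ∈ M) : sS (μ • (ev c : Vec)) (ev d) ∈ M := by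
  obtain ⟨x, hx⟩ := exists_other S.four ({pidx b, pidx d} : Finset (Fin m))
    ((Finset.card_insert_le _ _).trans (by simp))
  simp only [Finset.mem_insert, Finset.mem_singleton, not_or] at hx
  have h1 := S.short_first hab hx.1 h
  rw [sS_smul_comm μ _ _ (B_of_pidx hx.1)] at h1
  have h2 := S.short_first (Ne.symm hx.1) (Ne.symm hx.2) h1
  rw [sS_smul_comm μ _ _ (B_of_pidx (Ne.symm hx.2))] at h2
  exact S.short_first hx.2 hcd h2

/-- A non-rational short parameter gives everything. -/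
theorem Setting.top_of_short (S : Setting F₀ r M) {a b : Idx} {μ : F} (hμ : μ ∉ F₀) (hab : pidx a ≠ pidx b)
    (h : sS (μ • (ev a : Vec)) (ev b) ∈ M) : Cfsg.spGL m F ≤ M := by
  have hadd : sS ((μ + 1) • (ev a : Vec)) (ev b) ∈ M := by
    rw [add_smul, one_smul, sS_add_left _ _ _ (by rw [map_smul, LinearMap.smul_apply, B_of_pidx hab, smul_zero])
      (B_of_pidx hab) (by rw [map_smul, LinearMap.smul_apply, sympB_self, smul_zero])]
    exact M.mul_mem h (S.sS_rat (rat_ev a) (rat_ev b))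
  have key : ∀ ν : F, sS (ν • (ev a : Vec)) (ev b) ∈ M → spT (ev a : Vec) (ν * ν) ∈ M := by
    intro ν hν
    -- an element of the subgroup sending `b` to `b + ν a`
    have hpair : pidx a ≠ pidx b.swap := by rwa [pidx_swap]
    have h1 : sS (ν • (ev a : Vec)) (ev b.swap) ∈ M := S.short_all hab hpair hν
    have h0 : BB (ν • (ev a : Vec)) (ev b.swap) = 0 := by rw [map_smul, LinearMap.smul_apply, B_of_pidx hpair, smul_zero]
    have h2 := S.spT_conj_mem h1 (S.spT_rat (rat_ev b) F₀.one_mem)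
    rw [sS_mulVec h0, B_ev_swap, map_smul, B_of_pidx (Ne.symm hab), smul_zero, zero_smul, add_zero, smul_smul] at h2
    have hs2 : sS ((sgn b * ν) • (ev a : Vec)) (ev b) ∈ M := by
      cases b with
      | inl i =>
        rw [show (sgn (Sum.inl i : Idx) : F) * ν = -ν by simp [sgn],
          show sS ((-ν) • (ev a : Vec)) (ev (Sum.inl i)) = (sS (ν • (ev a : Vec)) (ev (Sum.inl i)))⁻¹ from
            eq_inv_of_mul_eq_one_left (by
              rw [← sS_add_left _ _ _ (by rw [map_smul, LinearMap.smul_apply, B_of_pidx hab, smul_zero])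
                (by rw [map_smul, LinearMap.smul_apply, B_of_pidx hab, smul_zero])
                (by simp [sympB_self]),
                ← add_smul, neg_add_cancel, zero_smul]
              refine Units.ext (matrix_ext_mulVec fun x => ?_)
              rw [sS_mulVec (by simp), map_zero, smul_zero, zero_smul, add_zero, add_zero, Units.val_one,
                Matrix.one_mulVec])]
        exact M.inv_mem hν
      | inr i => rwa [show (sgn (Sum.inr i : Idx) : F) * ν = ν by simp [sgn]]
    rw [spT_add _ _ _ (by rw [map_smul, B_of_pidx (Ne.symm hab), smul_zero]), one_smul,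
      sS_comm _ _ (by rw [map_smul, B_of_pidx (Ne.symm hab), smul_zero])] at h2
    have h3 := (M.mul_mem_cancel_left (S.spT_rat (rat_ev b) F₀.one_mem)).mp ((M.mul_mem_cancel_right hs2).mp h2)
    rwa [spT_smul, one_mul, mul_mul_mul_comm, sgn_mul_self, one_mul] at h3
  by_cases hsq : μ * μ ∈ F₀
  · have hne : (μ + 1) * (μ + 1) ∉ F₀ := fun h' => hμ (mem_of_sq_mem hsq h')
    exact S.top_of_centre (S.centre_of_long hne (key _ hadd))
  · exact S.top_of_centre (S.centre_of_long hsq (key _ h))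

/-- A centre in a rational plane with a non-rational product of coordinates. -/
theorem Setting.top_of_product (S : Setting F₀ r M) {p q : Idx} {α β : F} (hpq : pidx p ≠ pidx q)
    (hbad : α * β ∉ F₀) (h : spT (α • ev p + β • ev q : Vec) 1 ∈ M) : Cfsg.spGL m F ≤ M := by
  obtain ⟨t, ht⟩ := exists_other S.four ({pidx p, pidx q} : Finset (Fin m))
    ((Finset.card_insert_le _ _).trans (by simp))
  obtain ⟨v, hv⟩ := exists_other S.four ({pidx p, pidx q, pidx t} : Finset (Fin m))
    ((Finset.card_insert_le _ _).trans (Nat.add_le_add_right ((Finset.card_insert_le _ _).trans (by simp)) 1))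
  simp only [Finset.mem_insert, Finset.mem_singleton, not_or] at ht hv
  set z : Vec := α • ev p + β • ev q with hz
  have e1 : ((lv t p : GL _ F) : Mx) *ᵥ z = z + α • ev t := by
    rw [hz, Matrix.mulVec_add, Matrix.mulVec_smul, Matrix.mulVec_smul, lv_self ht.1,
      lv_other ht.1 (fun e => hpq (by rw [e])) (fun e => ht.2 (by rw [e, pidx_swap])), smul_add]
    abel
  have e2 : ((lv v q : GL _ F) : Mx) *ᵥ z = z + β • ev v := by
    rw [hz, Matrix.mulVec_add, Matrix.mulVec_smul, Matrix.mulVec_smul, lv_self hv.2.1,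
      lv_other hv.2.1 (fun e => hpq (by rw [e])) (fun e => hv.1 (by rw [e, pidx_swap])), smul_add]
    abel
  have e3 : ((lv v q : GL _ F) : Mx) *ᵥ (z + α • ev t) = (z + β • ev v) + α • ev t := by
    rw [Matrix.mulVec_add, e2, Matrix.mulVec_smul,
      lv_other hv.2.1 (fun e => ht.2 (by rw [e])) (fun e => hv.2.2 (by rw [e, pidx_swap]))]
  have hzt : BB z (α • ev t : Vec) = 0 := by
    simp [hz, B_of_pidx (F := F) (Ne.symm ht.1), B_of_pidx (F := F) (Ne.symm ht.2)]
  have hvt : BB (β • ev v : Vec) (α • ev t) = 0 := by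
    simp [B_of_pidx (F := F) hv.2.2]
  have hzv : BB z (β • ev v : Vec) = 0 := by
    simp [hz, B_of_pidx (F := F) (Ne.symm hv.1), B_of_pidx (F := F) (Ne.symm hv.2.1)]
  have h1 := S.spT_conj_mem (S.lv_mem t p) h
  rw [e1] at h1
  have h2 := S.spT_conj_mem (S.lv_mem v q) h
  rw [e2] at h2
  have h3 := S.spT_conj_mem (S.lv_mem v q) h1
  rw [e3, spT_add _ _ _ (by rw [map_add, LinearMap.add_apply, hzt, hvt, add_zero]), one_smul,
    sS_add_left _ _ _ hzt hvt hzv] at h3
  rw [spT_add _ _ _ hzt, one_smul, mul_assoc] at h1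
  have h4 := (M.mul_mem_cancel_left h).mp h1
  rw [mul_assoc, M.mul_mem_cancel_left h2, ← mul_assoc, M.mul_mem_cancel_left h4] at h3
  have hvt0 := B_of_pidx (F := F) hv.2.2
  refine S.top_of_short hbad hv.2.2 ?_
  convert h3 using 1
  refine Units.ext (matrix_ext_mulVec fun x => ?_)
  rw [sS_mulVec (by rw [map_smul, LinearMap.smul_apply, hvt0, smul_zero]), sS_mulVec hvt]
  simp only [map_smul, smul_smul, smul_eq_mul]
  module

theorem Setting.top_of_plane_vector (S : Setting F₀ r M) {p q : Idx} {α β : F} (hpq : pidx p ≠ pidx q)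
    (hbad : ¬ (α * α ∈ F₀ ∧ α * β ∈ F₀ ∧ β * β ∈ F₀)) (h : spT (α • ev p + β • ev q : Vec) 1 ∈ M) :
    Cfsg.spGL m F ≤ M := by
  by_cases h1 : α * β ∈ F₀
  swap
  · exact S.top_of_product hpq h1 h
  by_cases h2 : β * β ∈ F₀
  swap
  · have h' := S.spT_conj_mem (S.lv_mem p q) h
    rw [Matrix.mulVec_add, Matrix.mulVec_smul, Matrix.mulVec_smul, lv_self hpq,
      lv_other hpq (fun e => hpq (by rw [e])) (fun e => swap_ne p e.symm), smul_add,
      show α • (ev p : Vec) + (β • ev q + β • ev p) = (α + β) • ev p + β • ev q by rw [add_smul]; abel] at h'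
    refine S.top_of_product hpq (fun hm => h2 ?_) h'
    rw [add_mul] at hm
    exact (F₀.add_mem_cancel_left h1).mp hm
  by_cases h3 : α * α ∈ F₀
  · exact absurd ⟨h3, h1, h2⟩ hbad
  have h' := S.spT_conj_mem (S.lv_mem q p) h
  rw [Matrix.mulVec_add, Matrix.mulVec_smul, Matrix.mulVec_smul, lv_self (Ne.symm hpq),
    lv_other (Ne.symm hpq) (fun e => hpq (by rw [e])) (fun e => swap_ne q e.symm), smul_add, add_assoc,
    ← add_smul] at h'
  refine S.top_of_product hpq (fun hm => h3 ?_) h'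
  rw [mul_add] at hm
  exact (F₀.add_mem_cancel_right h1).mp hm

/-- A centre with two perpendicular coordinates of non-rational ratio gives everything. -/
theorem Setting.top_of_centre_pair (S : Setting F₀ r M) {p q : Idx} (hpq : pidx p ≠ pidx q) {u : Vec}
    (hk : BB (ev p) u ≠ 0) (hbad : BB (ev q) u / BB (ev p) u ∉ F₀) (hu : spT u 1 ∈ M) : Cfsg.spGL m F ≤ M := by
  set l : Vec := ev p with hl
  set l' : Vec := ev q with hl'
  set k := BB l u with hk'
  set lam := BB l' u / k with hlam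
  have hl'u : BB l' u = lam * k := (div_mul_cancel₀ _ hk).symm
  set w₀ : Vec := lam • l - l' with hw₀
  have hll' : BB l l' = 0 := B_of_pidx hpq
  have hl'l : BB l' l = 0 := B_of_pidx (Ne.symm hpq)
  have hwl : BB w₀ l = 0 := by simp [hw₀, sympB_self, hl'l]
  have hwl' : BB w₀ l' = 0 := by simp [hw₀, sympB_self, hll']
  have hwu : BB w₀ u = 0 := by simp [hw₀, ← hk', hl'u]
  have hdom : ∀ x : Vec, BB x w₀ = 0 → BB x l' = lam * BB x l := fun x hx => by
    simp [hw₀, sub_eq_zero] at hx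
    exact hx.symm
  set H := planeGroup M S.le l l' u w₀ hwl hwl' hwu with hH
  have hup : Dickson.uel (-k) ∈ H := by
    refine ⟨_, hu, fun x _ _ h3 => by rw [spT_mulVec, h3, mul_zero, zero_smul, add_zero], fun x _ => ?_⟩
    simp only [spT_mulVec, map_add, map_smul, LinearMap.add_apply, LinearMap.smul_apply, smul_eq_mul, sympB_self,
      sympB_skew u l, ← hk', Dickson.uel00, Dickson.uel01, Dickson.uel10, Dickson.uel11]
    constructor <;> ring
  have hlow : ∀ (c d : F), c ∈ F₀ → d ∈ F₀ → ∀ a ∈ F₀, Dickson.lel (a * (c + d * lam) * (c + d * lam) * k) ∈ H := by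
    intro c d hc hd a ha
    have hz : Rat' F₀ (c • l + d • l') := fun i =>
      F₀.add_mem (F₀.mul_mem hc (rat_ev p i)) (F₀.mul_mem hd (rat_ev q i))
    refine ⟨_, S.spT_rat hz ha, fun x h1 h2 _ => ?_, fun x hx => ?_⟩
    · rw [spT_mulVec, map_add, map_smul, map_smul, h1, h2, smul_zero, smul_zero, add_zero, mul_zero, zero_smul, add_zero]
    · simp only [spT_mulVec, map_add, map_smul, LinearMap.add_apply, LinearMap.smul_apply, smul_eq_mul, sympB_self,
        hl'l, hl'u, ← hk', hdom x hx, Dickson.lel00, Dickson.lel01, Dickson.lel10, Dickson.lel11]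
      constructor <;> ring
  have hs1 : ∀ a ∈ F₀, Dickson.lel (a * k) ∈ H := fun a ha => by
    simpa using hlow 1 0 F₀.one_mem F₀.zero_mem a ha
  have hfull : ∀ s, Dickson.lel s ∈ H := by
    intro s
    by_cases h1 : lam * lam ∈ F₀
    · refine TwoByTwo.lel_full F₀ r S.prime S.card H (neg_ne_zero.mpr hk) hup hk hs1
        (s₂ := (1 + lam) * (1 + lam) * k) (by simpa using hlow 1 1 F₀.one_mem F₀.one_mem 1 F₀.one_mem)
        (fun hm => ?_) s
      rw [mul_div_cancel_right₀ _ hk] at hm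
      exact hbad (mem_of_sq_mem h1 (by rwa [add_comm] at hm))
    · exact TwoByTwo.lel_full F₀ r S.prime S.card H (neg_ne_zero.mpr hk) hup hk hs1 (s₂ := lam * lam * k)
        (by simpa using hlow 0 1 F₀.zero_mem F₀.one_mem 1 F₀.one_mem)
        (fun hm => h1 (by rwa [mul_div_cancel_right₀ _ hk] at hm)) s
  obtain ⟨e, he, he0⟩ : ∃ e : F, e * e ∉ F₀ ∧ e ≠ 0 := by
    by_contra hcon
    push Not at hcon
    have hlam0 : lam * lam ∈ F₀ := by
      by_cases h : lam * lam ∈ F₀
      · exact h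
      · exact absurd (hcon lam h) (fun e => hbad (e ▸ F₀.zero_mem))
    have hlam1 : (lam + 1) * (lam + 1) ∈ F₀ := by
      by_cases h : (lam + 1) * (lam + 1) ∈ F₀
      · exact h
      · exact absurd (hcon _ h) (fun e => hbad (eq_neg_of_add_eq_zero_left e ▸ F₀.neg_mem F₀.one_mem))
    exact hbad (mem_of_sq_mem hlam0 hlam1)
  have hdiag : (⟨!![e⁻¹, 0; 0, e], by rw [Matrix.det_fin_two_of]; simp [he0]⟩ : Dickson.SL2 F) ∈ H := by
    set c : F := -k with hc
    have hc0 : c ≠ 0 := neg_ne_zero.mpr hk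
    have hw : ∀ b : F, b ≠ 0 → Dickson.uel c ∈ H →
        Dickson.uel c * Dickson.lel b * Dickson.uel c ∈ H := fun b _ h =>
      H.mul_mem (H.mul_mem h (hfull b)) h
    have hu' : ∀ t : F, Dickson.uel t ∈ H := fun t => by
      have hwm := hw (-c⁻¹) (neg_ne_zero.mpr (inv_ne_zero hc0)) hup
      have := H.mul_mem (H.mul_mem hwm (hfull (-t / (c * c)))) (H.inv_mem hwm)
      convert this using 1
      apply Dickson.ext2 <;> simp only [Dickson.mul_apply2, Dickson.inv00, Dickson.inv01, Dickson.inv10, Dickson.inv11,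
        Dickson.lel00, Dickson.lel01, Dickson.lel10, Dickson.lel11, Dickson.uel00, Dickson.uel01, Dickson.uel10,
        Dickson.uel11]
      all_goals field_simp
      all_goals ring
    have h1 : Dickson.uel e⁻¹ * Dickson.lel (-e) * Dickson.uel e⁻¹ *
        (Dickson.uel (-1) * Dickson.lel 1 * Dickson.uel (-1)) ∈ H :=
      H.mul_mem (H.mul_mem (H.mul_mem (hu' _) (hfull _)) (hu' _)) (H.mul_mem (H.mul_mem (hu' _) (hfull _)) (hu' _))
    refine Set.mem_of_eq_of_mem (s := (H : Set (Dickson.SL2 F))) ?_ h1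
    apply Dickson.ext2 <;> simp only [Dickson.mul_apply2,
      Dickson.lel00, Dickson.lel01, Dickson.lel10, Dickson.lel11, Dickson.uel00, Dickson.uel01, Dickson.uel10,
      Dickson.uel11]
    all_goals simp [he0]
  obtain ⟨g, hg, hgf, hgs⟩ := hdiag
  have hgsp := mem_spGL_iff.mp (S.le hg)
  have hgw : (g : Mx) *ᵥ w₀ = w₀ := hgf w₀ hwl hwl' hwu
  have hlw : BB l w₀ = 0 := by simp [hw₀, sympB_self, hll']
  obtain ⟨hs00, hs11⟩ := hgs l hlw
  simp [sympB_self, ← hk'] at hs00 hs11
  obtain ⟨α, β, γ, hgl⟩ := exists_comb (l := l) (l' := l') (u := u) (y := (g : Mx) *ᵥ l) fun x h1 h2 h3 => by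
    conv_lhs => rw [← hgf x h1 h2 h3]
    rw [hgsp, h1]
  have hγ : γ = 0 := by
    rw [hgl] at hs00
    simpa [sympB_self, hl'l, sympB_skew u l, ← hk', hk] using hs00
  subst hγ
  rw [zero_smul, add_zero] at hgl
  have hdet : α + β * lam = e := by
    rw [hgl] at hs11
    simp [← hk', hl'u] at hs11
    apply mul_right_cancel₀ hk
    linear_combination hs11
  have hgl' : (g : Mx) *ᵥ l' = (lam * α - lam) • l + (lam * β + 1) • l' := by
    have h1 : l' = lam • l - w₀ := by rw [hw₀, sub_sub_cancel]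
    conv_lhs => rw [h1]
    rw [Matrix.mulVec_sub, Matrix.mulVec_smul, hgl, hgw, hw₀]
    module
  have hs := S.spT_conj_mem hg (S.spT_rat (rat_ev p) F₀.one_mem)
  have hs' := S.spT_conj_mem hg (S.spT_rat (rat_ev q) F₀.one_mem)
  have hs'' := S.spT_conj_mem hg (S.spT_rat (z := l + l') (fun i => F₀.add_mem (rat_ev p i) (rat_ev q i)) F₀.one_mem)
  rw [← hl, hgl] at hs
  rw [← hl', hgl'] at hs'
  rw [Matrix.mulVec_add, hgl, hgl', add_add_add_comm, ← add_smul, ← add_smul] at hs''
  set a := lam * α - lam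
  set b := lam * β + 1
  by_cases h1 : α * α ∈ F₀ ∧ α * β ∈ F₀ ∧ β * β ∈ F₀
  swap
  · exact S.top_of_plane_vector hpq h1 hs
  by_cases h2 : a * a ∈ F₀ ∧ a * b ∈ F₀ ∧ b * b ∈ F₀
  swap
  · exact S.top_of_plane_vector hpq h2 hs'
  exfalso
  apply he
  have h3 := F₀.sub_mem (F₀.add_mem (F₀.mul_mem h1.1 h2.2.2) (F₀.mul_mem h1.2.2 h2.1))
    (F₀.mul_mem (natCast_mem F₀ 2) (F₀.mul_mem h1.2.1 h2.2.1))
  convert h3 using 1
  rw [← hdet, Nat.cast_ofNat]
  ring

theorem sgn_div_mem {p q : Idx} {a b : F} (h : sgn p * a / (sgn q * b) ∈ F₀) : a / b ∈ F₀ := by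
  have := F₀.mul_mem h (F₀.mul_mem (sgn_mem p) (sgn_mem q))
  convert this using 1
  have hp := sgn_mul_self (F := F) p
  have hq := sgn_mul_self (F := F) q
  by_cases hb : b = 0
  · simp [hb]
  have hq0 : (sgn q : F) ≠ 0 := sgn_ne_zero q
  field_simp
  linear_combination -a * hp

theorem Setting.top_of_coords (S : Setting F₀ r M) {i j : Idx} (hij : pidx i ≠ pidx j) {u : Vec} (hu : spT u 1 ∈ M)
    (hj : u j ≠ 0) (hbad : u i / u j ∉ F₀) : Cfsg.spGL m F ≤ M := by
  refine S.top_of_centre_pair (p := j.swap) (q := i.swap) (by rw [pidx_swap, pidx_swap]; exact Ne.symm hij) ?_ ?_ hu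
  · rw [B_ev, Sum.swap_swap]; exact mul_ne_zero (sgn_ne_zero _) hj
  · rw [B_ev, B_ev, Sum.swap_swap, Sum.swap_swap]
    exact fun h => hbad (sgn_div_mem h)

/-- A centre whose coordinates have a non-rational ratio gives everything. -/
theorem Setting.top_of_unscaled (S : Setting F₀ r M) {i j : Idx} {u : Vec} (hu : spT u 1 ∈ M) (hj : u j ≠ 0)
    (hbad : u i / u j ∉ F₀) : Cfsg.spGL m F ≤ M := by
  by_cases hij : pidx i = pidx j
  swap
  · exact S.top_of_coords hij hu hj hbad
  have hi : u i ≠ 0 := fun h => hbad (by rw [h, zero_div]; exact F₀.zero_mem)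
  have hswap : j = i.swap := (eq_or_swap hij).resolve_left fun e => hbad (by rw [e, div_self hi]; exact F₀.one_mem)
  by_cases hk : ∃ k, pidx k ≠ pidx j ∧ u k ≠ 0
  · obtain ⟨k, hkj, hk⟩ := hk
    by_cases h1 : u i / u k ∈ F₀
    · refine S.top_of_coords hkj hu hj fun h2 => hbad ?_
      have := F₀.mul_mem h1 h2
      rwa [div_mul_div_cancel₀ hk] at this
    · exact S.top_of_coords (by rw [hij]; exact Ne.symm hkj) hu hk h1
  push Not at hk
  obtain ⟨t, ht⟩ := exists_other S.four ({pidx j} : Finset (Fin m)) (by simp)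
  simp only [Finset.mem_singleton] at ht
  set w : Vec := ev j + ev t with hw
  have hBw : BB u w = -(sgn j * u i) := by
    rw [sympB_skew, hw, map_add, LinearMap.add_apply, B_ev, B_ev, hk t.swap (by rwa [pidx_swap]), mul_zero, add_zero,
      hswap, Sum.swap_swap]
  have hg : spT w (-sgn j) ∈ M :=
    S.spT_rat (fun a => F₀.add_mem (rat_ev j a) (rat_ev t a)) (F₀.neg_mem (sgn_mem j))
  have hu' := S.spT_conj_mem hg hu
  rw [spT_mulVec, hBw, neg_mul_neg, ← mul_assoc, sgn_mul_self, one_mul] at hu'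
  have htj : t ≠ j := fun e => ht (by rw [e])
  have et : (u + u i • w) t = u i := by simp [hw, ev, htj, hk t ht]
  have ej : (u + u i • w) j = u j + u i := by simp [hw, ev, Ne.symm htj]
  have hne : u j + u i ≠ 0 := fun e => hbad (by
    rw [eq_neg_of_add_eq_zero_right e, neg_div, div_self hj]; exact F₀.neg_mem F₀.one_mem)
  refine S.top_of_coords (i := t) (j := j) ht hu' (by rwa [ej]) fun h => hbad ?_
  rw [et, ej] at h
  have h1 := F₀.sub_mem (F₀.inv_mem h) F₀.one_mem
  rw [inv_div, add_div, div_self hi, add_sub_cancel_right] at h1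
  have h2 := F₀.inv_mem h1
  rwa [inv_div] at h2

/-- A subgroup containing the rational symplectic matrices contains the symplectic group or consists of scaled
rational matrices. -/
theorem Setting.top_or_le (S : Setting F₀ r M) :
    Cfsg.spGL m F ≤ M ∨
      M ≤ (Matrix.GeneralLinearGroup.map (n := Fin m ⊕ Fin m) (F₀.subtype : F₀ →+* F)).range ⊔
        Cfsg.Geo.scalars (Fin m ⊕ Fin m) F := by
  by_cases htop : Cfsg.spGL m F ≤ M
  · exact Or.inl htop
  refine Or.inr fun g hg => ?_
  have hsc : ∀ v : Vec, Rat' F₀ v → ∀ i j, ((g : Mx) *ᵥ v) j ≠ 0 → ((g : Mx) *ᵥ v) i / ((g : Mx) *ᵥ v) j ∈ F₀ := by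
    intro v hv i j hj
    by_contra hbad
    exact htop (S.top_of_unscaled (S.spT_conj_mem hg (S.spT_rat hv F₀.one_mem)) hj hbad)
  have hcol : ∀ k i, ((g : Mx) *ᵥ ev k) i = (g : Mx) i k := fun k i => by
    rw [ev, Matrix.mulVec_single, MulOpposite.op_one, one_smul, Matrix.col_apply]
  have hne : ∀ k, ∃ p, (g : Mx) p k ≠ 0 := fun k => by
    by_contra hcon
    push Not at hcon
    exact g.det_ne_zero (Matrix.det_eq_zero_of_column_eq_zero k hcon)
  have hcs : ∀ i j k, (g : Mx) j k ≠ 0 → (g : Mx) i k / (g : Mx) j k ∈ F₀ := fun i j k hj => by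
    have := hsc (ev k) (rat_ev k) i j (by rwa [hcol])
    rwa [hcol, hcol] at this
  set e0 : Idx := Sum.inl ⟨0, by have := S.four; omega⟩
  obtain ⟨p, hp⟩ := hne e0
  set c := (g : Mx) p e0 with hc
  have hscale : ∀ k i, c⁻¹ * (g : Mx) i k ∈ F₀ := by
    intro k i
    rcases eq_or_ne k e0 with rfl | hk
    · rw [inv_mul_eq_div]; exact hcs i p e0 hp
    obtain ⟨l, hl⟩ := hne k
    set d := (g : Mx) l k with hd
    suffices h : d / c ∈ F₀ by
      have := F₀.mul_mem h (hcs i l k hl)
      rwa [← hd, div_mul_div_comm, mul_comm c, mul_div_mul_left _ _ hl, div_eq_inv_mul] at this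
    set R : Idx → F := fun a => (g : Mx) a e0 / c with hR
    set T : Idx → F := fun a => (g : Mx) a k / d with hT
    have hRr : ∀ a, R a ∈ F₀ := fun a => hcs a p e0 hp
    have hTr : ∀ a, T a ∈ F₀ := fun a => hcs a l k hl
    have hsum : ∀ a, ((g : Mx) *ᵥ (ev e0 + ev k)) a = c * R a + d * T a := fun a => by
      rw [Matrix.mulVec_add, Pi.add_apply, hcol, hcol, hR, hT]
      field_simp
    obtain ⟨a, b, hab⟩ : ∃ a b, R a * T b ≠ R b * T a := by
      by_contra hcon
      push Not at hcon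
      have h1 : ∀ a, (g : Mx) a k = ((g : Mx) p k / c) * (g : Mx) a e0 := fun a => by
        have h2 := hcon a p
        simp only [hR, hT] at h2
        rw [div_self hp] at h2
        field_simp at h2 ⊢
        linear_combination -h2
      have hz : (g : Mx) *ᵥ (ev k - ((g : Mx) p k / c) • ev e0) = 0 := funext fun a => by
        rw [Matrix.mulVec_sub, Matrix.mulVec_smul, Pi.sub_apply, Pi.smul_apply, hcol, hcol, smul_eq_mul, h1 a,
          sub_self, Pi.zero_apply]
      have h3 := congrArg ((((g⁻¹ : GL Idx F) : Mx)) *ᵥ ·) hz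
      simp only [Matrix.mulVec_mulVec, ← Units.val_mul, inv_mul_cancel, Units.val_one, Matrix.one_mulVec,
        Matrix.mulVec_zero] at h3
      have h4 := congrFun h3 k
      simp [ev, hk] at h4
    by_cases hb : c * R b + d * T b = 0
    · have hTb : T b ≠ 0 := fun e => hab (by
        rw [e, mul_zero, add_zero] at hb
        rw [e, (mul_eq_zero.mp hb).resolve_left hp, zero_mul, mul_zero])
      have : d / c = -R b / T b := by
        field_simp
        linear_combination hb
      rw [this]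
      exact F₀.div_mem (F₀.neg_mem (hRr b)) (hTr b)
    · have ht : (c * R a + d * T a) / (c * R b + d * T b) ∈ F₀ := by
        rw [← hsum, ← hsum]
        exact hsc (ev e0 + ev k) (fun x => F₀.add_mem (rat_ev e0 x) (rat_ev k x)) a b (by rwa [hsum])
      generalize htdef : (c * R a + d * T a) / (c * R b + d * T b) = t at ht
      rw [div_eq_iff hb] at htdef
      have hne' : t * T b - T a ≠ 0 := fun e => hab (by
        have hR' : R a = t * R b := mul_left_cancel₀ hp (by linear_combination htdef + d * e)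
        rw [hR', ← sub_eq_zero.mp e]; ring)
      have : d / c = (R a - t * R b) / (t * T b - T a) := by
        field_simp
        linear_combination -htdef
      rw [this]
      exact F₀.div_mem (F₀.sub_mem (hRr a) (F₀.mul_mem ht (hRr b))) (F₀.sub_mem (F₀.mul_mem ht (hTr b)) (hTr a))
  set s : GL Idx F := Units.map (Matrix.scalar Idx : F →+* Mx).toMonoidHom (Units.mk0 c hp)
  have hs : s ∈ Cfsg.Geo.scalars Idx F := ⟨_, rfl⟩
  have hsv : ((s⁻¹ : GL Idx F) : Mx) = c⁻¹ • 1 := by
    show Matrix.scalar Idx c⁻¹ = _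
    rw [Matrix.scalar_apply, Matrix.smul_one_eq_diagonal]
  have hr : s⁻¹ * g ∈ (Matrix.GeneralLinearGroup.map (n := Idx) (F₀.subtype : F₀ →+* F)).range :=
    mem_range_of_rat' fun k i => by
      rw [Units.val_mul, hsv, Matrix.smul_mul, Matrix.one_mul, Matrix.smul_apply, smul_eq_mul]
      exact hscale i k
  rw [show g = s * (s⁻¹ * g) by group]
  exact mul_mem (Subgroup.mem_sup_right hs) (Subgroup.mem_sup_left hr)

theorem maximal (hm : 4 ≤ m) (F₀ : Subfield F) (hr : r.Prime) (hcard : Fintype.card F = Nat.card F₀ ^ r) :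
    Cfsg.Geo.IsMaximalIn (Cfsg.spGL m F)
      (((Matrix.GeneralLinearGroup.map (n := Fin m ⊕ Fin m) (F₀.subtype : F₀ →+* F)).range ⊔
        Cfsg.Geo.scalars (Fin m ⊕ Fin m) F) ⊓ Cfsg.spGL m F) := by
  refine ⟨lt_of_le_of_ne inf_le_right fun heq => ?_, fun M hM hMK => ?_⟩
  · obtain ⟨c, hc⟩ := exists_not_mem F₀ hr hcard
    set i : Idx := Sum.inl ⟨0, by omega⟩
    have hm1 : spT (ev i : Vec) c ∈ _ ⊔ _ := (Subgroup.mem_inf.mp (heq.symm ▸ spT_mem (ev i : Vec) c)).1
    rw [sup_comm, Subgroup.mem_sup_of_normal_left] at hm1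
    obtain ⟨s, hs, g, hg, he⟩ := hm1
    obtain ⟨u, rfl⟩ := hs
    have hent : ∀ a b, (u : F) * (g : Mx) a b = ((spT (ev i : Vec) c : GL Idx F) : Mx) a b := fun a b => by
      rw [← he]; simp [Units.val_mul, Matrix.scalar_apply, Matrix.diagonal_mul]
    have hcol : ∀ a b, ((spT (ev i : Vec) c : GL Idx F) : Mx) a b =
        (ev b : Vec) a + c * (BB (ev b : Vec) (ev i)) * (ev i : Vec) a := fun a b => by
      have h := congrFun (spT_mulVec (ev i : Vec) c (ev b)) a
      simp only [ev, Matrix.mulVec_single, MulOpposite.op_one, one_smul, Matrix.col_apply, Pi.add_apply, Pi.smul_apply,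
        smul_eq_mul] at h ⊢
      exact h
    have hii : (i.swap : Idx) ≠ i := swap_ne i
    have hd := hent i.swap i.swap
    have ho := hent i i.swap
    rw [hcol] at hd ho
    simp [ev, hii, Ne.symm hii] at hd ho
    rw [← ev, ← ev, B_ev, Sum.swap_swap, ev, Pi.single_eq_same, mul_one] at ho
    apply hc
    have hu : (u : F) = ((g : Mx) i.swap i.swap)⁻¹ := eq_inv_of_mul_eq_one_left hd
    have h1 : c = ((g : Mx) i.swap i.swap)⁻¹ * (g : Mx) i i.swap * sgn i.swap := by
      linear_combination (-(sgn i.swap : F)) * ho + (sgn i.swap * (g : Mx) i i.swap) * hu -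
        c * sgn_mul_self (F := F) i.swap
    rw [h1]
    exact F₀.mul_mem (F₀.mul_mem (F₀.inv_mem (entries_mem' hg _ _)) (entries_mem' hg _ _)) (sgn_mem _)
  · have S : Setting F₀ r M := ⟨hm, hr, hcard, hMK, fun g hg hrat =>
      hM ⟨Subgroup.mem_sup_left (mem_range_of_rat' hrat), hg⟩⟩
    rcases S.top_or_le with h | h
    · exact Or.inr (le_antisymm hMK h)
    · exact Or.inl (le_antisymm (le_inf h hMK) hM)

end Cfsg.Agent.GeomClasses.SubfieldSp
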