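import Cfsg.Agent.GeomClasses.SubfieldInSymp

/-! # Matrices all whose images of rational vectors are scaled rational -/

set_option autoImplicit false
set_option linter.unusedSectionVars false

namespace Cfsg.Agent.GeomClasses.SubfieldScaled

open Matrix Cfsg.Agent.GeomClasses.SubfieldSL

variable {ι : Type} [Fintype ι] [DecidableEq ι] {F : Type*} [Field F] (F₀ : Subfield F)

theorem rat_single' (k : ι) : Rat' F₀ (Pi.single k 1 : ι → F) := fun j => by
  rcases eq_or_ne j k with rfl | h
  · rw [Pi.single_eq_same]; exact F₀.one_mem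
  · rw [Pi.single_eq_of_ne h]; exact F₀.zero_mem

/-- If every image of a rational vector is scaled rational, the matrix is scaled rational. -/
theorem mem_sup_of_images [Nonempty ι] (g : GL ι F)
    (hsc : ∀ v : ι → F, Rat' F₀ v → ∀ i j, ((g : Matrix ι ι F) *ᵥ v) j ≠ 0 →
      ((g : Matrix ι ι F) *ᵥ v) i / ((g : Matrix ι ι F) *ᵥ v) j ∈ F₀) :
    g ∈ (Matrix.GeneralLinearGroup.map (n := ι) (F₀.subtype : F₀ →+* F)).range ⊔ Cfsg.Geo.scalars ι F := by
  have hcol : ∀ k i, ((g : Matrix ι ι F) *ᵥ Pi.single k 1) i = (g : Matrix ι ι F) i k := fun k i => by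
    rw [Matrix.mulVec_single, MulOpposite.op_one, one_smul, Matrix.col_apply]
  have hne : ∀ k, ∃ p, (g : Matrix ι ι F) p k ≠ 0 := fun k => by
    by_contra hcon
    push Not at hcon
    exact g.det_ne_zero (Matrix.det_eq_zero_of_column_eq_zero k hcon)
  have hcs : ∀ i j k, (g : Matrix ι ι F) j k ≠ 0 → (g : Matrix ι ι F) i k / (g : Matrix ι ι F) j k ∈ F₀ :=
    fun i j k hj => by
      have := hsc (Pi.single k 1) (rat_single' F₀ k) i j (by rwa [hcol])
      rwa [hcol, hcol] at this
  obtain ⟨e0⟩ := ‹Nonempty ι›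
  obtain ⟨p, hp⟩ := hne e0
  set c := (g : Matrix ι ι F) p e0 with hc
  have hscale : ∀ k i, c⁻¹ * (g : Matrix ι ι F) i k ∈ F₀ := by
    intro k i
    rcases eq_or_ne k e0 with rfl | hk
    · rw [inv_mul_eq_div]; exact hcs i p k hp
    obtain ⟨l, hl⟩ := hne k
    set d := (g : Matrix ι ι F) l k with hd
    suffices h : d / c ∈ F₀ by
      have := F₀.mul_mem h (hcs i l k hl)
      rwa [← hd, div_mul_div_comm, mul_comm c, mul_div_mul_left _ _ hl, div_eq_inv_mul] at this
    set R : ι → F := fun a => (g : Matrix ι ι F) a e0 / c with hR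
    set T : ι → F := fun a => (g : Matrix ι ι F) a k / d with hT
    have hRr : ∀ a, R a ∈ F₀ := fun a => hcs a p e0 hp
    have hTr : ∀ a, T a ∈ F₀ := fun a => hcs a l k hl
    have hsum : ∀ a, ((g : Matrix ι ι F) *ᵥ (Pi.single e0 1 + Pi.single k 1)) a = c * R a + d * T a := fun a => by
      rw [Matrix.mulVec_add, Pi.add_apply, hcol, hcol, hR, hT]
      field_simp
    obtain ⟨a, b, hab⟩ : ∃ a b, R a * T b ≠ R b * T a := by
      by_contra hcon
      push Not at hcon
      have h1 : ∀ a, (g : Matrix ι ι F) a k = ((g : Matrix ι ι F) p k / c) * (g : Matrix ι ι F) a e0 := fun a => by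
        have h2 := hcon a p
        simp only [hR, hT] at h2
        rw [div_self hp] at h2
        field_simp at h2 ⊢
        linear_combination -h2
      have hz : (g : Matrix ι ι F) *ᵥ ((Pi.single k 1 : ι → F) - ((g : Matrix ι ι F) p k / c) • Pi.single e0 1) = 0 :=
        funext fun a => by
        rw [Matrix.mulVec_sub, Matrix.mulVec_smul, Pi.sub_apply, Pi.smul_apply, hcol, hcol, smul_eq_mul, h1 a,
          sub_self, Pi.zero_apply]
      have h3 := congrArg ((((g⁻¹ : GL ι F) : Matrix ι ι F)) *ᵥ ·) hz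
      simp only [Matrix.mulVec_mulVec, ← Units.val_mul, inv_mul_cancel, Units.val_one, Matrix.one_mulVec,
        Matrix.mulVec_zero] at h3
      have h4 := congrFun h3 k
      simp [hk] at h4
    by_cases hb : c * R b + d * T b = 0
    · have hTb : T b ≠ 0 := fun e => hab (by
        rw [e, mul_zero, add_zero] at hb
        rw [e, (mul_eq_zero.mp hb).resolve_left hp, zero_mul, mul_zero])
      have : d / c = -R b / T b := by
        field_simp
        linear_combination hb
      rw [this]
      exact F₀.div_mem (F₀.neg_mem (hRr b)) (hTr b)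
    · have ht : (c * R a + d * T a) / (c * R b + d * T b) ∈ F₀ := by
        rw [← hsum, ← hsum]
        exact hsc (Pi.single e0 1 + Pi.single k 1)
          (fun x => F₀.add_mem (rat_single' F₀ e0 x) (rat_single' F₀ k x)) a b (by rwa [hsum])
      generalize htdef : (c * R a + d * T a) / (c * R b + d * T b) = t at ht
      rw [div_eq_iff hb] at htdef
      have hne' : t * T b - T a ≠ 0 := fun e => hab (by
        have hR' : R a = t * R b := mul_left_cancel₀ hp (by linear_combination htdef + d * e)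
        rw [hR', ← sub_eq_zero.mp e]; ring)
      have : d / c = (R a - t * R b) / (t * T b - T a) := by
        field_simp
        linear_combination -htdef
      rw [this]
      exact F₀.div_mem (F₀.sub_mem (hRr a) (F₀.mul_mem ht (hRr b))) (F₀.sub_mem (F₀.mul_mem ht (hTr b)) (hTr a))
  set s : GL ι F := Units.map (Matrix.scalar ι : F →+* Matrix ι ι F).toMonoidHom (Units.mk0 c hp)
  have hs : s ∈ Cfsg.Geo.scalars ι F := ⟨_, rfl⟩
  have hsv : ((s⁻¹ : GL ι F) : Matrix ι ι F) = c⁻¹ • 1 := by
    show Matrix.scalar ι c⁻¹ = _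
    rw [Matrix.scalar_apply, Matrix.smul_one_eq_diagonal]
  have hr : s⁻¹ * g ∈ (Matrix.GeneralLinearGroup.map (n := ι) (F₀.subtype : F₀ →+* F)).range :=
    SubfieldSp.mem_range_of_rat' fun k i => by
      rw [Units.val_mul, hsv, Matrix.smul_mul, Matrix.one_mul, Matrix.smul_apply, smul_eq_mul]
      exact hscale i k
  rw [show g = s * (s⁻¹ * g) by group]
  exact mul_mem (Subgroup.mem_sup_right hs) (Subgroup.mem_sup_left hr)

theorem mem_subfieldSubgroup_iff (P g : GL ι F) :
    g ∈ Cfsg.Geo.subfieldSubgroup F₀ P ↔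
      P⁻¹ * g * P ∈ (Matrix.GeneralLinearGroup.map (n := ι) (F₀.subtype : F₀ →+* F)).range ⊔ Cfsg.Geo.scalars ι F := by
  simp only [Cfsg.Geo.subfieldSubgroup, Subgroup.mem_map]
  constructor
  · rintro ⟨h, hh, rfl⟩; simpa [mul_assoc] using hh
  · intro h; exact ⟨_, h, by simp [mul_assoc]⟩

theorem scaled_of_mem {g : GL ι F}
    (h : g ∈ (Matrix.GeneralLinearGroup.map (n := ι) (F₀.subtype : F₀ →+* F)).range ⊔ Cfsg.Geo.scalars ι F) :
    ∃ c : F, c ≠ 0 ∧ ∀ i j, c * (g : Matrix ι ι F) i j ∈ F₀ := by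
  rw [sup_comm, Subgroup.mem_sup_of_normal_left] at h
  obtain ⟨s, hs, k, hk, rfl⟩ := h
  obtain ⟨u, rfl⟩ := hs
  refine ⟨((u⁻¹ : Fˣ) : F), Units.ne_zero _, fun i j => ?_⟩
  rw [show ((Units.map (Matrix.scalar ι : F →+* Matrix ι ι F).toMonoidHom u * k : GL ι F) : Matrix ι ι F) =
    Matrix.diagonal (fun _ => (u : F)) * (k : Matrix ι ι F) from rfl, Matrix.diagonal_mul, ← mul_assoc,
    ← Units.val_mul, inv_mul_cancel, Units.val_one, one_mul]
  exact SubfieldSp.entries_mem' hk i j

end Cfsg.Agent.GeomClasses.SubfieldScaled
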