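import Cfsg.Agent.GeomClasses.Basic

/-! # Maximality of subspace stabilisers in `SL_n` -/

set_option autoImplicit false

namespace Cfsg.Agent.GeomClasses

open Matrix
open scoped MatrixGroups

variable {ι : Type} [Fintype ι] [DecidableEq ι] {F : Type*} [Field F]

/-- `v` is a full centre for `K` when all transvections with centre `v` lie in `K`. -/
def IsCentre (K : Subgroup (GL ι F)) (v : ι → F) : Prop :=
  ∀ (w : ι → F) (h : w ⬝ᵥ v = 0), tv v w h ∈ K

theorem isCentre_smul {K : Subgroup (GL ι F)} {v : ι → F} (hv : IsCentre K v) (c : F) : IsCentre K (c • v) := by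
  intro w h
  have h' : (c • w) ⬝ᵥ v = 0 := by rw [smul_dotProduct, ← dotProduct_smul, h]
  convert hv (c • w) h' using 1
  refine Units.ext ?_
  rw [tv_val, tv_val, Matrix.smul_vecMulVec, Matrix.vecMulVec_smul]

theorem isCentre_mulVec {K : Subgroup (GL ι F)} {v : ι → F} (hv : IsCentre K v) {g : GL ι F} (hg : g ∈ K) :
    IsCentre K ((g : Matrix ι ι F) *ᵥ v) := by
  intro w h
  have h' : (w ᵥ* (g : Matrix ι ι F)) ⬝ᵥ v = 0 := by rw [← Matrix.dotProduct_mulVec, h]
  convert K.mul_mem (K.mul_mem hg (hv _ h')) (K.inv_mem hg) using 1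
  rw [eq_mul_inv_iff_mul_eq]
  refine Units.ext ?_
  rw [Units.val_mul, Units.val_mul, tv_val, tv_val, Matrix.add_mul, Matrix.mul_add, Matrix.one_mul,
    Matrix.mul_one, Matrix.vecMulVec_mul, Matrix.mul_vecMulVec]

theorem isMaximalIn_stab_specialLinear (hι : Nontrivial ι) {W : Submodule F (ι → F)} (hW0 : W ≠ ⊥) (hW1 : W ≠ ⊤) :
    Cfsg.Geo.IsMaximalIn (Cfsg.Geo.specialLinear ι F) (Cfsg.Geo.subspaceStabilizer W ⊓ Cfsg.Geo.specialLinear ι F) := by
  constructor
  · refine lt_of_le_of_ne inf_le_right fun heq => ?_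
    obtain ⟨x, hx, hx0⟩ := W.exists_mem_ne_zero_of_ne_bot hW0
    obtain ⟨y, hy⟩ := SetLike.exists_not_mem_of_ne_top W hW1 rfl
    have hxy : x ∉ Submodule.span F {y} := by
      intro h
      obtain ⟨c, rfl⟩ := Submodule.mem_span_singleton.mp h
      have hc : c ≠ 0 := fun hc => hx0 (by rw [hc, zero_smul])
      exact hy (by simpa [smul_smul, inv_mul_cancel₀ hc] using W.smul_mem c⁻¹ hx)
    obtain ⟨w, hw, hwx⟩ := exists_dot hxy
    have hwy : w ⬝ᵥ y = 0 := hw y (Submodule.mem_span_singleton_self y)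
    have hmem := heq.symm ▸ tv_mem_specialLinear y w hwy
    have h := (mem_subspaceStabilizer_iff.mp hmem.1) x hx
    rw [tv_mulVec, hwx, one_smul] at h
    exact hy ((W.add_mem_iff_right hx).mp h)
  intro K hPK hKS
  by_cases hle : K ≤ Cfsg.Geo.subspaceStabilizer W
  · exact Or.inl (le_antisymm (le_inf hle hKS) hPK)
  right
  refine le_antisymm hKS (specialLinear_le_of_tv (fun v w h => ?_) hι)
  have hW : ∀ x ∈ W, IsCentre K x := fun x hx w h =>
    hPK ⟨tv_mem_stab_of_center _ _ _ hx, tv_mem_specialLinear _ _ _⟩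
  by_cases hv : v ∈ W
  · exact hW v hv w h
  obtain ⟨g, hg, hgW⟩ := SetLike.not_le_iff_exists.mp hle
  rw [mem_subspaceStabilizer_iff] at hgW
  push_neg at hgW
  obtain ⟨x, hx, hgx⟩ := hgW
  set u := (g : Matrix ι ι F) *ᵥ x
  have hu : IsCentre K u := isCentre_mulVec (hW x hx) hg
  suffices hcv : IsCentre K v from hcv w h
  by_cases hvu : v ∈ W ⊔ Submodule.span F {u}
  · obtain ⟨y, hy, z, hz, rfl⟩ := Submodule.mem_sup.mp hvu
    obtain ⟨b, rfl⟩ := Submodule.mem_span_singleton.mp hz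
    have hb : b ≠ 0 := fun hb => hv (by rw [hb, zero_smul, add_zero]; exact hy)
    obtain ⟨φ, hφW, hφu⟩ := exists_dot hgx
    have hd : φ ⬝ᵥ (b⁻¹ • y) = 0 := by rw [dotProduct_smul, hφW y hy, smul_zero]
    have ht : tv (b⁻¹ • y) φ hd ∈ K :=
      hPK ⟨tv_mem_stab_of_axis _ _ _ hφW, tv_mem_specialLinear _ _ _⟩
    have := isCentre_smul (isCentre_mulVec hu ht) b
    rwa [tv_mulVec, hφu, one_smul, smul_add, smul_smul, mul_inv_cancel₀ hb, one_smul, add_comm] at this
  · have hu' : u ∉ W ⊔ Submodule.span F {v - u} := by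
      intro h'
      obtain ⟨y, hy, z, hz, hyz⟩ := Submodule.mem_sup.mp h'
      obtain ⟨a, rfl⟩ := Submodule.mem_span_singleton.mp hz
      by_cases ha : a = 0
      · rw [ha, zero_smul, add_zero] at hyz
        exact hgx (hyz ▸ hy)
      apply hvu
      refine Submodule.mem_sup.mpr ⟨-(a⁻¹ • y), W.neg_mem (W.smul_mem _ hy), (a⁻¹ + 1) • u, Submodule.smul_mem _ _ (Submodule.mem_span_singleton_self _), ?_⟩
      have := congrArg (fun t => a⁻¹ • t) hyz
      simp only [smul_add, smul_smul, inv_mul_cancel₀ ha, one_smul] at this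
      rw [add_smul, one_smul, ← this]
      abel
    obtain ⟨φ, hφ, hφu⟩ := exists_dot hu'
    have hd : φ ⬝ᵥ (v - u) = 0 := hφ _ (Submodule.mem_sup_right (Submodule.mem_span_singleton_self _))
    have ht : tv (v - u) φ hd ∈ K :=
      hPK ⟨tv_mem_stab_of_axis _ _ _ (fun y hy => hφ y (Submodule.mem_sup_left hy)), tv_mem_specialLinear _ _ _⟩
    have := isCentre_mulVec hu ht
    rwa [tv_mulVec, hφu, one_smul, add_sub_cancel] at this

end Cfsg.Agent.GeomClasses
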