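import Cfsg.Agent.GeomClasses.Basic
import Cfsg.Agent.Forms.SympMatrix

/-! # Symplectic similarity groups are maximal in special linear groups -/

set_option autoImplicit false

namespace Cfsg.Agent.GeomClasses

open Matrix Cfsg.Agent.Forms

variable {ι : Type} [Fintype ι] [DecidableEq ι] {F : Type*} [Field F]

/-- The coefficient vector of a linear functional. -/
def funVec (φ : (ι → F) →ₗ[F] F) : ι → F := fun j => φ (Pi.single j 1)

theorem funVec_dot (φ : (ι → F) →ₗ[F] F) (x : ι → F) : funVec φ ⬝ᵥ x = φ x := by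
  conv_rhs => rw [pi_eq_sum_univ' x]
  rw [map_sum, dotProduct]
  refine Finset.sum_congr rfl fun j _ => ?_
  rw [map_smul, smul_eq_mul, funVec, mul_comm]

/-- The transvection given by a functional. -/
def fT (φ : (ι → F) →ₗ[F] F) (v : ι → F) (h : φ v = 0) : GL ι F :=
  tv v (funVec φ) (by rw [funVec_dot, h])

theorem fT_mulVec (φ : (ι → F) →ₗ[F] F) (v : ι → F) (h : φ v = 0) (x : ι → F) :
    (fT φ v h : Matrix ι ι F) *ᵥ x = x + φ x • v := by rw [fT, tv_mulVec, funVec_dot]

theorem fT_mem_specialLinear (φ : (ι → F) →ₗ[F] F) (v : ι → F) (h : φ v = 0) :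
    fT φ v h ∈ Cfsg.Geo.specialLinear ι F := tv_mem_specialLinear _ _ _

theorem specialLinear_le_of_fT {K : Subgroup (GL ι F)}
    (h : ∀ (φ : (ι → F) →ₗ[F] F) (v : ι → F) (hd : φ v = 0), fT φ v hd ∈ K) (hι : Nontrivial ι) :
    Cfsg.Geo.specialLinear ι F ≤ K :=
  specialLinear_le_of_tv (fun v w hd => by
    have h1 := h (dotProductBilin F F w) v hd
    have h2 : funVec (dotProductBilin F F w) = w := funext fun j => by
      rw [funVec]; show w ⬝ᵥ Pi.single j 1 = w j; rw [dotProduct_single, mul_one]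
    simp only [fT, h2] at h1
    exact h1) hι

theorem gl_ext {g g' : GL ι F} (h : ∀ x, (g : Matrix ι ι F) *ᵥ x = (g' : Matrix ι ι F) *ᵥ x) : g = g' :=
  Units.ext (Matrix.ext_iff_mulVec.mpr h)

/-- Two vectors with non-zero value of two independent conditions. -/
theorem exists_ne_ne {B : LinearMap.BilinForm F (ι → F)} {H : Submodule F (ι → F)}
    (hI : IsForm (RingHom.id F) B (fun _ => 0)) {u u' : ι → F} (hu : u ∉ H) (hu' : u' ∉ H) :
    ∃ d, (∀ h ∈ H, B h d = 0) ∧ B u d ≠ 0 ∧ B u' d ≠ 0 := by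
  obtain ⟨a, ha', ha⟩ := hI.exists_perp_pairing hu (1 : F)
  obtain ⟨b, hb', hb⟩ := hI.exists_perp_pairing hu' (1 : F)
  by_cases h1 : B u' a = 0
  · by_cases h3 : B u b = 0
    · exact ⟨a + b, fun h hh => by rw [map_add, ha' h hh, hb' h hh, add_zero],
        by rw [map_add, ha, h3, add_zero]; exact one_ne_zero,
        by rw [map_add, h1, hb, zero_add]; exact one_ne_zero⟩
    · exact ⟨b, hb', h3, by rw [hb]; exact one_ne_zero⟩
  · exact ⟨a, ha', by rw [ha]; exact one_ne_zero, h1⟩

theorem isMaximalIn_symp_sl (hι : Nontrivial ι) (hι3 : 3 ≤ Fintype.card ι) (f : (ι → F) → (ι → F) → F)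
    (hf : Cfsg.Geo.IsSymplecticForm f) :
    Cfsg.Geo.IsMaximalIn (Cfsg.Geo.specialLinear ι F) (Cfsg.Geo.similarityGroup f ⊓ Cfsg.Geo.specialLinear ι F) := by
  classical
  let B : LinearMap.BilinForm F (ι → F) := LinearMap.mk₂ F f hf.bilinear.add_left
    (fun c x v => hf.bilinear.smul_left c x v) hf.bilinear.add_right (fun c v x => hf.bilinear.smul_right c v x)
  have hA : B.IsAlt := hf.alternating
  have hB : B.Nondegenerate := by
    constructor
    · intro v hv
      by_contra h0
      obtain ⟨-, x, hx⟩ := hf.nondegenerate v h0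
      exact hx (hv x)
    · intro v hv
      by_contra h0
      obtain ⟨⟨x, hx⟩, -⟩ := hf.nondegenerate v h0
      exact hx (hv x)
  have hI := isForm_alt B hB hA
  have hskew : ∀ x y, B x y = -B y x := fun x y => (LinearMap.IsAlt.neg hA y x).symm
  -- symplectic transvections
  let sT : (ι → F) → F → GL ι F := fun z c => fT (c • B.flip z) z (by
    show c * B z z = 0; rw [hA z, mul_zero])
  have hsT : ∀ z c x, (sT z c : Matrix ι ι F) *ᵥ x = x + (c * B x z) • z := fun z c x => fT_mulVec _ _ _ x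
  have hsT_mem : ∀ z c, sT z c ∈ Cfsg.Geo.similarityGroup f ⊓ Cfsg.Geo.specialLinear ι F := fun z c => by
    refine ⟨⟨1, fun u v => ?_⟩, fT_mem_specialLinear _ _ _⟩
    show B _ _ = (1 : F) * B u v
    rw [hsT, hsT]
    simp only [map_add, map_smul, LinearMap.add_apply, LinearMap.smul_apply, smul_eq_mul, hA z]
    rw [hskew z v]
    ring
  refine ⟨lt_of_le_of_ne inf_le_right fun h => ?_, fun L hL hLS => ?_⟩
  · -- a transvection outside the similarity group
    obtain ⟨j⟩ := (inferInstance : Nonempty ι)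
    have hj : (Pi.single j 1 : ι → F) ≠ 0 := fun h => one_ne_zero (α := F) (by simpa using congrFun h j)
    obtain ⟨d, hd⟩ := hI.exists_pairing hj (1 : F)
    set v : ι → F := Pi.single j 1
    obtain ⟨w, hw⟩ : ∃ w, w ∉ Submodule.span F {v} ⊔ Submodule.span F {d} := by
      by_contra hc
      push_neg at hc
      have h1 : Submodule.span F {v} ⊔ Submodule.span F {d} = ⊤ := eq_top_iff.mpr fun x _ => hc x
      have h2 := Submodule.finrank_sup_add_finrank_inf_eq (Submodule.span F {v}) (Submodule.span F {d})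
      have h3 : Module.finrank F (Submodule.span F {v}) ≤ 1 := (finrank_span_le_card {v}).trans (by simp)
      have h4 : Module.finrank F (Submodule.span F {d}) ≤ 1 := (finrank_span_le_card {d}).trans (by simp)
      rw [h1, finrank_top, Module.finrank_pi] at h2
      omega
    obtain ⟨z, hz, hwz⟩ := hI.exists_perp_pairing hw (1 : F)
    -- the transvection x ↦ x + B(x, z) v
    have hvz : B.flip z v = 0 := hz v (Submodule.mem_sup_left (Submodule.mem_span_singleton_self v))
    have hdz : B d z = 0 := hz d (Submodule.mem_sup_right (Submodule.mem_span_singleton_self d))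
    have h1 := fT_mem_specialLinear (B.flip z) v hvz
    rw [← h] at h1
    obtain ⟨c, hc⟩ := h1.1
    have h2 : B (_ *ᵥ w) (_ *ᵥ d) = (c : F) * B w d := hc w d
    have h3 : B (_ *ᵥ v) (_ *ᵥ d) = (c : F) * B v d := hc v d
    rw [fT_mulVec, fT_mulVec] at h2 h3
    simp only [LinearMap.BilinForm.flip_apply, hwz, hdz, show B v z = 0 from hvz, zero_smul, add_zero, one_smul,
      map_add, LinearMap.add_apply, hd, mul_one] at h2 h3
    rw [← h3, one_mul] at h2
    exact one_ne_zero (by linear_combination h2)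
  by_cases hle : L ≤ Cfsg.Geo.similarityGroup f
  · exact Or.inl (le_antisymm (le_inf hle hLS) hL)
  obtain ⟨g, hg, hg'⟩ := SetLike.not_le_iff_exists.mp hle
  refine Or.inr (le_antisymm hLS (specialLinear_le_of_fT ?_ hι))
  let toL : isomGroup B (fun _ => (0 : F)) →* GL ι F :=
    (glEquiv ι F).symm.toMonoidHom.comp (Subgroup.subtype _)
  have htoL : ∀ (k : isomGroup B (fun _ => (0 : F))) x, (toL k : Matrix ι ι F) *ᵥ x = (k : (ι → F) ≃ₗ[F] (ι → F)) x :=
    fun k x => glEquiv_symm_mulVec _ x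
  have hH : ∀ z : ι → F, z ≠ 0 → ∀ c : F, c ≠ 0 → symTransv B hA z c ∈ L.comap toL := fun z _ c _ => by
    show toL _ ∈ L
    rw [show toL (symTransv B hA z c) = sT z c from gl_ext fun x => by rw [htoL, hsT]; rfl]
    exact hL (hsT_mem z c)
  -- transitivity on orthogonal independent pairs
  have horb : ∀ v w v' w', B v w = 0 → w ∉ Submodule.span F {v} → v ≠ 0 → B v' w' = 0 →
      w' ∉ Submodule.span F {v'} → v' ≠ 0 →
      ∃ k ∈ L.comap toL, (k : (ι → F) ≃ₗ[F] (ι → F)) v = v' ∧ (k : (ι → F) ≃ₗ[F] (ι → F)) w = w' := by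
    intro v w v' w' hvw hind hv hvw' hind' hv'
    obtain ⟨t, ht, htv⟩ := exists_mem_transitive hA _ hH hI hv hv'
    set w1 := (t : (ι → F) ≃ₗ[F] (ι → F)) w with hw1
    have hvw1 : B v' w1 = 0 := by rw [← htv, hw1, isom_B, hvw]
    have hind1 : w1 ∉ Submodule.span F {v'} := by
      intro h
      obtain ⟨c, hc⟩ := Submodule.mem_span_singleton.mp h
      rw [← htv, hw1, ← map_smul] at hc
      exact hind (Submodule.mem_span_singleton.mpr ⟨c, (t : (ι → F) ≃ₗ[F] (ι → F)).injective hc⟩)
    obtain ⟨d, hd, hd1, hd2⟩ := exists_ne_ne hI hind1 hind'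
    have hvd : B v' d = 0 := hd v' (Submodule.mem_span_singleton_self v')
    obtain ⟨t1, ht1, a1, b1⟩ := exists_mem_apply_eq_of_pairing hA _ hH (u := w1) (v := d) hd1
    obtain ⟨t2, ht2, a2, b2⟩ := exists_mem_apply_eq_of_pairing hA _ hH (u := d) (v := w')
      (by rw [hskew]; exact neg_ne_zero.mpr hd2)
    refine ⟨t2 * t1 * t, mul_mem (mul_mem ht2 ht1) ht, ?_, ?_⟩
    · show (t2 : (ι → F) ≃ₗ[F] (ι → F)) ((t1 : (ι → F) ≃ₗ[F] (ι → F)) ((t : (ι → F) ≃ₗ[F] (ι → F)) v)) = v'
      rw [htv, b1 v' (hvw1.trans hvd.symm), b2 v' (hvd.trans hvw'.symm)]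
    · show (t2 : (ι → F) ≃ₗ[F] (ι → F)) ((t1 : (ι → F) ≃ₗ[F] (ι → F)) w1) = w'
      rw [a1, a2]
  -- a transvection of L that is not symplectic
  obtain ⟨v, w, hv, hvw, hind, hvwL⟩ : ∃ v w : ι → F, v ≠ 0 ∧ ∃ hvw : B.flip w v = 0,
      w ∉ Submodule.span F {v} ∧ fT (B.flip w) v hvw ∈ L := by
    by_contra hc
    push_neg at hc
    apply hg'
    let G := Matrix.toLin' (g : Matrix ι ι F)
    let G' := Matrix.toLin' ((g⁻¹ : GL ι F) : Matrix ι ι F)
    have hGG : ∀ x, G' (G x) = x := fun x => by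
      simp only [G, G', Matrix.toLin'_apply, Matrix.mulVec_mulVec, ← Units.val_mul, inv_mul_cancel, Units.val_one,
        Matrix.one_mulVec]
    have hGG' : ∀ x, G (G' x) = x := fun x => by
      simp only [G, G', Matrix.toLin'_apply, Matrix.mulVec_mulVec, ← Units.val_mul, mul_inv_cancel, Units.val_one,
        Matrix.one_mulVec]
    -- the adjoint
    have hψ : ∀ z, ∃ w, ∀ x, B x w = B (G' x) z := fun z => hI.exists_right ((B.flip z).comp G')
    choose ψ hψ using hψ
    have hpar : ∀ z, ∃ a : F, ψ z = a • G z := by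
      intro z
      rcases eq_or_ne z 0 with rfl | hz
      · refine ⟨0, ?_⟩
        rw [zero_smul]
        exact hI.nondeg_right _ fun x => by rw [hψ, map_zero]
      have hv : G z ≠ 0 := fun h => hz (by rw [← hGG z, h, map_zero])
      have h0 : B.flip (ψ z) (G z) = 0 := by rw [LinearMap.BilinForm.flip_apply, hψ, hGG, hA z]
      by_contra hne
      push_neg at hne
      refine hc (G z) (ψ z) hv h0 (fun h => ?_) ?_
      · obtain ⟨a, ha⟩ := Submodule.mem_span_singleton.mp h
        exact hne a ha.symm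
      · have : fT (B.flip (ψ z)) (G z) h0 = g * sT z 1 * g⁻¹ := gl_ext fun x => by
          rw [Units.val_mul, Units.val_mul, ← Matrix.mulVec_mulVec, ← Matrix.mulVec_mulVec, hsT, one_mul,
            fT_mulVec, LinearMap.BilinForm.flip_apply, hψ, Matrix.mulVec_add, Matrix.mulVec_smul]
          simp only [G, G', Matrix.toLin'_apply, Matrix.mulVec_mulVec, ← Units.val_mul, mul_inv_cancel, Units.val_one,
            Matrix.one_mulVec]
        rw [this]
        exact L.mul_mem (L.mul_mem hg (hL (hsT_mem z 1))) (L.inv_mem hg)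
    choose a ha using hpar
    have hsim : ∀ z x, B x z = a z * B (G x) (G z) := fun z x => by
      conv_lhs => rw [← hGG x]
      rw [← hψ z (G x), ha, map_smul, smul_eq_mul]
    obtain ⟨j⟩ := (inferInstance : Nonempty ι)
    have hj : (Pi.single j 1 : ι → F) ≠ 0 := fun h => one_ne_zero (α := F) (by simpa using congrFun h j)
    set z0 : ι → F := Pi.single j 1
    have hconst : ∀ z, z ≠ 0 → ∀ z', z' ≠ 0 → a z = a z' := by
      have one : ∀ z z', B z z' ≠ 0 → a z = a z' := fun z z' h => by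
        have h1 := hsim z z'
        have h2 := hsim z' z
        rw [hskew z' z, hskew (G z') (G z), mul_neg, neg_inj, h2] at h1
        exact (mul_right_cancel₀ (fun h0 => h (by rw [h2, h0, mul_zero])) h1).symm
      intro z hz z' hz'
      obtain ⟨d, -, hd1, hd2⟩ := exists_ne_ne hI (H := ⊥) (by simpa using hz) (by simpa using hz')
      exact (one z d hd1).trans (one z' d hd2).symm
    have ha0 : a z0 ≠ 0 := fun h => by
      obtain ⟨d, hd⟩ := hI.exists_pairing hj (1 : F)
      have h1 := hsim z0 d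
      rw [h, zero_mul, hskew, hd] at h1
      exact one_ne_zero (neg_eq_zero.mp h1)
    refine ⟨(Units.mk0 _ ha0)⁻¹, fun x z => ?_⟩
    show B (_ *ᵥ x) (_ *ᵥ z) = ((Units.mk0 _ ha0)⁻¹ : Fˣ) * B x z
    rcases eq_or_ne z 0 with rfl | hz
    · simp only [Matrix.mulVec_zero, map_zero, mul_zero]
    rw [Units.val_inv_eq_inv_val, Units.val_mk0, hsim z x, hconst z hz z0 hj, ← mul_assoc, inv_mul_cancel₀ ha0, one_mul]
    rfl
  intro φ v' hφ
  obtain ⟨w', hw'⟩ := hI.exists_right φ
  have he : fT φ v' hφ = fT (B.flip w') v' (by rw [LinearMap.BilinForm.flip_apply, hw']; exact hφ) := gl_ext fun x => by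
    rw [fT_mulVec, fT_mulVec, LinearMap.BilinForm.flip_apply, hw']; rfl
  rw [he]
  have h0 : B v' w' = 0 := by rw [hw']; exact hφ
  have h0' : B.flip w' v' = 0 := h0
  rcases eq_or_ne v' 0 with hv' | hv'
  · have : fT (B.flip w') v' h0' = 1 := gl_ext fun x => by
      rw [fT_mulVec, hv', smul_zero, add_zero, Units.val_one, Matrix.one_mulVec]
    rw [this]; exact L.one_mem
  by_cases hind' : w' ∈ Submodule.span F {v'}
  · obtain ⟨c, rfl⟩ := Submodule.mem_span_singleton.mp hind'
    have : fT (B.flip (c • v')) v' h0' = sT v' c := gl_ext fun x => by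
      rw [fT_mulVec, hsT, LinearMap.BilinForm.flip_apply, map_smul, smul_eq_mul]
    rw [this]; exact hL (hsT_mem v' c)
  obtain ⟨k, hk, hkv, hkw⟩ := horb v w v' w' hvw hind hv h0 hind' hv'
  have : fT (B.flip w') v' h0' = toL k * fT (B.flip w) v hvw * (toL k)⁻¹ := by
    rw [eq_mul_inv_iff_mul_eq]
    refine gl_ext fun x => ?_
    rw [Units.val_mul, Units.val_mul, ← Matrix.mulVec_mulVec, ← Matrix.mulVec_mulVec, fT_mulVec, fT_mulVec, htoL,
      htoL, map_add, map_smul, hkv, LinearMap.BilinForm.flip_apply, LinearMap.BilinForm.flip_apply, ← hkw, isom_B]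
  rw [this]
  exact L.mul_mem (L.mul_mem hk hvwL) (L.inv_mem hk)

end Cfsg.Agent.GeomClasses
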