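import Cfsg.Agent.Components.FStar
import Cfsg.Agent.Components.CoreDetection
import Cfsg.Agent.Core.Subnormal

/-! # Thompson–Wielandt: second cores of two conjugate maximal subgroups

Let `B` be the core in `N` of `M ⊓ N` and `A ≠ 1` a subgroup of `B` normalized by `M`. A component of a
subgroup `H` with `B ≤ H ≤ N` normalizes `F*`-parts of `A`, so it lies in `M`; likewise a normal
`p`-subgroup of `H` when `A` is not a `p`-group. With the symmetric data this forces `E(M) = 1` and
makes `A` a `p`-group as soon as `O_p(M) ≠ 1`.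
-/

set_option autoImplicit false
set_option linter.unusedSectionVars false

open Subgroup

namespace Cfsg.Agent.GeomClasses.TW

open Cfsg.Agent.Components (normalizer_le_normalizer_map_char map_inj_eq_bot_iff)

variable {G : Type*} [Group G] [Finite G]

/-- Conjugation as a homomorphism. -/
abbrev cj (g : G) : G →* G := (MulAut.conj g).toMonoidHom

/-- The layer of a subgroup, inside `G`. -/
def ly (W : Subgroup G) : Subgroup G := (Cfsg.layer ↥W).map W.subtype

/-- `O_p` of a subgroup, inside `G`. -/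
def pc (p : ℕ) (W : Subgroup G) : Subgroup G := (Cfsg.pCore p ↥W).map W.subtype

theorem ly_le (W : Subgroup G) : ly W ≤ W := Subgroup.map_subtype_le _

theorem pc_le (p : ℕ) (W : Subgroup G) : pc p W ≤ W := Subgroup.map_subtype_le _

theorem le_normalizer_char (W : Subgroup G) (C : Subgroup ↥W) [C.Characteristic] :
    W ≤ normalizer ((C.map W.subtype : Subgroup G) : Set G) :=
  Subgroup.le_normalizer.trans (normalizer_le_normalizer_map_char C)

theorem normalizer_le_char (W : Subgroup G) (C : Subgroup ↥W) [C.Characteristic] :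
    normalizer (W : Set G) ≤ normalizer ((C.map W.subtype : Subgroup G) : Set G) :=
  normalizer_le_normalizer_map_char C

theorem conj_mem {M X : Subgroup G} (h : M ≤ normalizer (X : Set G)) {m a : G} (hm : m ∈ M) (ha : a ∈ X) :
    m * a * m⁻¹ ∈ X := (mem_normalizer_iff.mp (h hm) a).mp ha

theorem le_normalizer_of_forall {M X : Subgroup G} (h : ∀ m ∈ M, ∀ a ∈ X, m * a * m⁻¹ ∈ X) :
    M ≤ normalizer (X : Set G) := by
  intro m hm
  rw [mem_normalizer_iff]
  refine fun a => ⟨h m hm a, fun ha => ?_⟩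
  have := h m⁻¹ (M.inv_mem hm) _ ha
  simpa [mul_assoc] using this

theorem sub {X : Type*} [Group X] {L K : Subgroup X} (h : L ≤ K) (hL : (L.subgroupOf K).Normal)
    (hK : K.Normal) : L.IsSubnormal :=
  Components.isSubnormal_of_subgroupOf h hL.isSubnormal hK.isSubnormal

theorem map_sub {X : Type*} [Group X] {S : Subgroup X} (hS : S.IsSubnormal) {L : Subgroup ↥S} (hL : L.Normal) :
    (L.map S.subtype).IsSubnormal :=
  Components.isSubnormal_map_injective (f := S.subtype) (by rwa [Subgroup.range_subtype]) hL.isSubnormal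

/-- The data attached to one side. -/
structure Side (M N A B : Subgroup G) : Prop where
  maximal : ∀ X : Subgroup G, X ≠ ⊥ → X ≤ M → M ≤ normalizer (X : Set G) → normalizer (X : Set G) = M
  le : B ≤ M ⊓ N
  norm : N ≤ normalizer (B : Set G)
  core : ∀ z : G, (∀ m ∈ N, m * z * m⁻¹ ∈ M ⊓ N) → z ∈ B
  sub : A ≤ B
  ne : A ≠ ⊥
  normA : M ≤ normalizer (A : Set G)

variable {M N A B : Subgroup G}

/-- Components of a subgroup between `B` and `N` lie in `M`. -/
theorem component_le (hS : Side M N A B) {H : Subgroup G} (hBH : B ≤ H) (hHN : H ≤ N) {K : Subgroup ↥H}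
    (hK : Cfsg.IsComponent K) : K.map H.subtype ≤ M := by
  have hAM : A ≤ M := (hS.sub.trans hS.le).trans inf_le_left
  set A' := A.subgroupOf H with hA'
  set B' := B.subgroupOf H with hB'
  haveI : B'.Normal := (normal_subgroupOf_iff_le_normalizer hBH).mpr (hHN.trans hS.norm)
  have hA'B' : A' ≤ B' := fun z hz => hS.sub hz
  have hAsub : A'.IsSubnormal := by
    refine sub hA'B' ?_ this
    exact (normal_subgroupOf_iff_le_normalizer hA'B').mpr (le_normalizer_of_forall fun m hm a ha =>
      conj_mem ((hS.le.trans inf_le_left).trans hS.normA) (show (m : G) ∈ B from hm) (show (a : G) ∈ A from ha))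
  have key : ∀ (X' : Subgroup ↥A') [X'.Characteristic], X' ≠ ⊥ → K ≤ normalizer ((X'.map A'.subtype : Subgroup ↥H) : Set ↥H) →
      K.map H.subtype ≤ M := by
    intro X' _ hne hKn
    set X := (X'.map A'.subtype).map H.subtype with hX
    have e : A'.map H.subtype = A := map_subgroupOf_eq_of_le (hS.sub.trans hBH)
    let ψ : ↥A' ≃* ↥A := Subgroup.subgroupOfEquivOfLe (hS.sub.trans hBH)
    haveI : (X'.map ψ.toMonoidHom).Characteristic := by
      refine characteristic_iff_map_eq.mpr fun φ => ?_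
      have := characteristic_iff_map_eq.mp (inferInstance : X'.Characteristic) ((ψ.trans φ).trans ψ.symm)
      conv_rhs => rw [← this]
      rw [Subgroup.map_map, Subgroup.map_map]
      congr 1
    have hXA : X = (X'.map ψ.toMonoidHom).map A.subtype := by
      rw [hX, Subgroup.map_map, Subgroup.map_map]; rfl
    have hXne : X ≠ ⊥ := by
      rw [hX, ne_eq, map_inj_eq_bot_iff H.subtype_injective, map_inj_eq_bot_iff A'.subtype_injective]
      exact hne
    have hXM : M ≤ normalizer (X : Set G) := by rw [hXA]; exact hS.normA.trans (normalizer_le_char A _)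
    rw [← hS.maximal X hXne (by rw [hXA]; exact (Subgroup.map_subtype_le _).trans hAM) hXM]
    refine (Subgroup.map_mono hKn).trans ?_
    rw [hX]
    exact Subgroup.le_normalizer_map _
  by_cases hl : Cfsg.layer ↥A' = ⊥
  · have hf : Cfsg.fittingSubgroup ↥A' ≠ ⊥ := by
      intro hf
      apply hS.ne
      have h0 := Components.centralizer_generalizedFitting_le (G := ↥A')
      rw [Cfsg.generalizedFittingSubgroup, hl, hf, bot_sup_eq] at h0
      have h1 : A' = ⊥ := by
        rw [eq_bot_iff]
        intro a ha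
        have : (⟨a, ha⟩ : ↥A') ∈ (⊥ : Subgroup ↥A') := h0 (mem_centralizer_iff.mpr fun f hf => by
          rw [SetLike.mem_coe, mem_bot] at hf; rw [hf, one_mul, mul_one])
        rw [mem_bot] at this ⊢
        exact congrArg Subtype.val this
      rw [← map_subgroupOf_eq_of_le (hS.sub.trans hBH), ← hA', h1, Subgroup.map_bot]
    refine key _ hf ?_
    set S := (Cfsg.fittingSubgroup ↥A').map A'.subtype
    have hSsub : S.IsSubnormal := map_sub hAsub (inferInstance : (Cfsg.fittingSubgroup ↥A').Normal)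
    have hSn : Group.IsNilpotent ↥S :=
      Core.isNilpotent_map (Core.isNilpotent_fittingSubgroup ↥A') _
    have hKS : K ≤ centralizer (S : Set ↥H) := fun k hk => mem_centralizer_iff.mpr fun f hf =>
      mem_centralizer_iff.mp (Components.layer_le_centralizer_fitting (Components.component_le_layer hK hk)) f
        (Core.le_fittingSubgroup_of_isSubnormal hSsub hSn hf)
    exact hKS.trans (Subgroup.centralizer_le_normalizer _)
  · refine key _ hl ?_
    rw [Cfsg.layer, sSup_eq_iSup, Subgroup.map_iSup]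
    refine le_normalizer_of_forall fun k hk a ha => ?_
    induction ha using Subgroup.iSup_induction' with
    | hp L a ha =>
      rw [Subgroup.map_iSup] at ha
      by_cases hL : L ∈ {K : Subgroup ↥A' | Cfsg.IsComponent K}
      · have hLH : Cfsg.IsComponent (L.map A'.subtype) :=
          (Components.isComponent_subtype_iff hAsub L).mpr hL
        rw [iSup_pos hL] at ha
        by_cases e : K = L.map A'.subtype
        · refine mem_iSup_of_mem L ?_
          rw [Subgroup.map_iSup, iSup_pos hL, ← e]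
          rw [← e] at ha
          exact K.mul_mem (K.mul_mem hk ha) (K.inv_mem hk)
        · have hc := Components.components_commute hK hLH e
          rw [show k * a * k⁻¹ = a by
            rw [(mem_centralizer_iff.mp (commutator_eq_bot_iff_le_centralizer.mp hc hk) a ha).symm,
              mul_inv_cancel_right]]
          exact mem_iSup_of_mem L (by rw [Subgroup.map_iSup, iSup_pos hL]; exact ha)
      · rw [iSup_neg hL, mem_bot] at ha
        subst ha
        simpa using Subgroup.one_mem _
    | h1 => simpa using Subgroup.one_mem _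
    | hmul a b _ _ ha hb =>
      rw [show k * (a * b) * k⁻¹ = (k * a * k⁻¹) * (k * b * k⁻¹) by group]
      exact Subgroup.mul_mem _ ha hb

/-- Conjugating a component of `M ⊓ N` by an element of `N` keeps it in `M`. -/
theorem component_le_core (hS : Side M N A B) {K : Subgroup ↥(M ⊓ N)} (hK : Cfsg.IsComponent K) :
    K.map (M ⊓ N).subtype ≤ B := by
  intro z hz
  refine hS.core z fun m hm => ⟨?_, N.mul_mem (N.mul_mem hm ((Subgroup.map_subtype_le K hz).2)) (N.inv_mem hm)⟩
  set H := (M ⊓ N).map (cj m) with hH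
  let φ : ↥(M ⊓ N) ≃* ↥H := (M ⊓ N).equivMapOfInjective (cj m) (MulAut.conj m).injective
  have hBH : B ≤ H := fun b hb =>
    ⟨m⁻¹ * b * m, hS.le (by simpa using conj_mem hS.norm (N.inv_mem hm) hb), by simp [cj, mul_assoc]⟩
  have hHN : H ≤ N := by
    rintro _ ⟨w, hw, rfl⟩
    exact N.mul_mem (N.mul_mem hm hw.2) (N.inv_mem hm)
  obtain ⟨k, hk, rfl⟩ := hz
  exact component_le hS hBH hHN (Components.isComponent_map_equiv φ hK) ⟨φ k, ⟨k, hk, rfl⟩, rfl⟩

/-- The layer of `N` lies in `B`. -/
theorem ly_le_core (hS : Side M N A B) : ly N ≤ B := by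
  intro z hz
  refine hS.core z fun m hm => ?_
  have hz' := conj_mem (le_normalizer_char N (Cfsg.layer ↥N)) hm hz
  refine ⟨?_, ly_le N hz'⟩
  refine (?_ : ly N ≤ M) hz'
  rw [ly, Subgroup.map_le_iff_le_comap, Components.layer_le_iff]
  intro K hK
  rw [← Subgroup.map_le_iff_le_comap]
  exact component_le hS (hS.le.trans inf_le_right) le_rfl hK

/-- If both layers are in the intersection, the layer of `M` is in the layer of `N`. -/
theorem ly_le_ly (hS : Side M N A B) (hMN : ly M ≤ N) : ly M ≤ ly N := by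
  rw [ly, Subgroup.map_le_iff_le_comap, Components.layer_le_iff]
  intro L hL
  rw [← Subgroup.map_le_iff_le_comap]
  set D := (M ⊓ N).subgroupOf M
  have hLD : L ≤ D := fun x hx => ⟨x.2, hMN ⟨x, Components.component_le_layer hL hx, rfl⟩⟩
  let ψ : ↥D ≃* ↥(M ⊓ N) := Subgroup.subgroupOfEquivOfLe inf_le_left
  have hK : Cfsg.IsComponent ((L.subgroupOf D).map ψ.toMonoidHom) :=
    Components.isComponent_map_equiv ψ (Components.isComponent_subgroupOf hL hLD)
  set K := (L.subgroupOf D).map ψ.toMonoidHom with hKdef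
  have e : K.map (M ⊓ N).subtype = L.map M.subtype := by
    rw [hKdef, Subgroup.map_map]
    have : (M ⊓ N).subtype.comp ψ.toMonoidHom = M.subtype.comp D.subtype := by ext x; rfl
    rw [this, ← Subgroup.map_map, Subgroup.map_subgroupOf_eq_of_le hLD]
  rw [← e]
  have hB := component_le_core hS hK
  set B' := B.subgroupOf (M ⊓ N) with hB'
  have hKB : K ≤ B' := fun x hx => hB ⟨x, hx, rfl⟩
  let χ : ↥B' ≃* ↥B := Subgroup.subgroupOfEquivOfLe hS.le
  have hKB' : Cfsg.IsComponent ((K.subgroupOf B').map χ.toMonoidHom) :=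
    Components.isComponent_map_equiv χ (Components.isComponent_subgroupOf hK hKB)
  have hBN : B ≤ N := hS.le.trans inf_le_right
  let ξ : ↥B ≃* ↥(B.subgroupOf N) := (Subgroup.subgroupOfEquivOfLe hBN).symm
  haveI : (B.subgroupOf N).Normal := (normal_subgroupOf_iff_le_normalizer hBN).mpr hS.norm
  have hKN := (Components.isComponent_subtype_iff (this.isSubnormal) _).mpr (Components.isComponent_map_equiv ξ hKB')
  rintro _ ⟨x, hx, rfl⟩
  refine ⟨⟨x, hBN (hB ⟨x, hx, rfl⟩)⟩, Components.component_le_layer hKN ?_, rfl⟩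
  exact ⟨_, ⟨_, ⟨⟨x, hKB hx⟩, hx, rfl⟩, rfl⟩, rfl⟩

theorem eq_one_of_orders {p : ℕ} [Fact p.Prime] {H : Type*} [Group H] {z : H} {k : ℕ} (h : z ^ p ^ k = 1)
    (hc : (orderOf z).Coprime p) : z = 1 := by
  rw [← orderOf_eq_one_iff]
  exact Nat.eq_one_of_dvd_coprimes (hc.pow_right k) dvd_rfl (orderOf_dvd_of_pow_eq_one h)

/-- A `p`-subgroup normal in a subgroup between `B` and `N` lies in `M`, unless `A` is a `p`-group. -/
theorem pgroup_le (hS : Side M N A B) {p : ℕ} [hp : Fact p.Prime] (hA : ¬ IsPGroup p A) {H P : Subgroup G}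
    (hBH : B ≤ H) (hHN : H ≤ N) (hP : IsPGroup p P) (hPH : P ≤ H) (hn : H ≤ normalizer (P : Set G)) : P ≤ M := by
  have hAM : A ≤ M := (hS.sub.trans hS.le).trans inf_le_left
  set T : Set G := {x | x ∈ A ∧ (orderOf x).Coprime p} with hT
  set X := closure T with hX
  have hXA : X ≤ A := (closure_le A).mpr fun x hx => hx.1
  have stab : ∀ u : G, (∀ x ∈ T, u * x * u⁻¹ ∈ X) → ∀ a ∈ X, u * a * u⁻¹ ∈ X := by
    intro u hu a ha
    induction ha using Subgroup.closure_induction with
    | mem x hx => exact hu x hx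
    | one => simp
    | mul a b _ _ ha hb =>
      rw [show u * (a * b) * u⁻¹ = (u * a * u⁻¹) * (u * b * u⁻¹) by group]; exact X.mul_mem ha hb
    | inv a _ ha => rw [show u * a⁻¹ * u⁻¹ = (u * a * u⁻¹)⁻¹ by group]; exact X.inv_mem ha
  have hord : ∀ u x : G, orderOf (u * x * u⁻¹) = orderOf x := fun u x =>
    orderOf_injective (MulAut.conj u).toMonoidHom (MulAut.conj u).injective x
  have hXne : X ≠ ⊥ := by
    intro hbot
    refine hA fun a => ?_
    obtain ⟨k, m, hm, hn'⟩ := Nat.exists_eq_pow_mul_and_not_dvd (orderOf_pos (a : G)).ne' p hp.out.ne_one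
    refine ⟨k, Subtype.ext ?_⟩
    have : (a : G) ^ p ^ k ∈ X := subset_closure ⟨A.pow_mem a.2 _, by
      rw [orderOf_pow, hn', Nat.gcd_mul_right_left, Nat.mul_div_cancel_left _ (pow_pos hp.out.pos k)]
      exact (hp.out.coprime_iff_not_dvd.mpr hm).symm⟩
    rw [hbot, mem_bot] at this
    simpa using this
  have hXM : M ≤ normalizer (X : Set G) := le_normalizer_of_forall fun m hm => stab m fun x hx =>
    subset_closure ⟨conj_mem hS.normA hm hx.1, by rw [hord]; exact hx.2⟩
  rw [← hS.maximal X hXne (hXA.trans hAM) hXM]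
  refine le_normalizer_of_forall fun u hu => stab u fun x hx => subset_closure ⟨?_, by rw [hord]; exact hx.2⟩
  set y := u * x * u⁻¹ with hy
  have hxB : x ∈ B := hS.sub hx.1
  have hyB : y ∈ B := conj_mem hS.norm (hHN (hPH hu)) hxB
  have hwP : y * x⁻¹ ∈ P := by
    rw [hy, show u * x * u⁻¹ * x⁻¹ = u * (x * u⁻¹ * x⁻¹) by group]
    exact P.mul_mem hu (conj_mem hn (hBH hxB) (P.inv_mem hu))
  obtain ⟨k, hk⟩ := hP ⟨_, hwP⟩
  have hk' : (y * x⁻¹) ^ p ^ k = 1 := by simpa using congrArg Subtype.val hk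
  haveI : (A.subgroupOf B).Normal :=
    (normal_subgroupOf_iff_le_normalizer hS.sub).mpr ((hS.le.trans inf_le_left).trans hS.normA)
  set π := QuotientGroup.mk' (A.subgroupOf B) with hπ
  have hx1 : π ⟨x, hxB⟩ = 1 := (QuotientGroup.eq_one_iff _).mpr (show x ∈ A from hx.1)
  have h1 : π ⟨y, hyB⟩ = π ⟨y * x⁻¹, B.mul_mem hyB (B.inv_mem hxB)⟩ := by
    rw [show (⟨y, hyB⟩ : ↥B) = ⟨y * x⁻¹, B.mul_mem hyB (B.inv_mem hxB)⟩ * ⟨x, hxB⟩ from Subtype.ext (by simp),
      map_mul, hx1, mul_one]
  have h2 : π ⟨y, hyB⟩ = 1 := by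
    refine eq_one_of_orders (p := p) (k := k) ?_ ?_
    · rw [h1, ← map_pow]
      convert map_one π
      exact Subtype.ext (by simpa using hk')
    · refine Nat.Coprime.coprime_dvd_left (orderOf_map_dvd π _) ?_
      rw [← Subgroup.orderOf_coe]
      show (orderOf y).Coprime p
      rw [hy, hord]; exact hx.2
  exact (QuotientGroup.eq_one_iff (N := A.subgroupOf B) _).mp h2

/-- If `O_p(M) ≠ 1` and `A` is not a `p`-group, then `O_p(M) = O_p(N)`. -/
theorem pc_eq (hS : Side M N A B) {p : ℕ} [hp : Fact p.Prime] (hA : ¬ IsPGroup p A)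
    (hcard : Nat.card ↥(pc p M) = Nat.card ↥(pc p N)) (hNmax : ∀ X : Subgroup G, X ≠ ⊥ → X ≤ N →
      N ≤ normalizer (X : Set G) → normalizer (X : Set G) = N) (hne : pc p N ≠ ⊥) : pc p M = pc p N := by
  have hpM : IsPGroup p ↥(pc p M) := (Core.isPGroup_pCore p ↥M).map _
  have hpN : IsPGroup p ↥(pc p N) := (Core.isPGroup_pCore p ↥N).map _
  have hN1 := le_normalizer_char N (Cfsg.pCore p ↥N)
  have hM1 := le_normalizer_char M (Cfsg.pCore p ↥M)
  have hQ2 : pc p N ≤ M :=
    pgroup_le hS hA (hS.le.trans inf_le_right) le_rfl hpN (pc_le p N) hN1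
  set P := pc p M ⊓ N with hP
  have hPp : IsPGroup p ↥P := hpM.to_le inf_le_left
  have hPB : P ≤ B := by
    intro z hz
    refine hS.core z fun m hm => ⟨?_, N.mul_mem (N.mul_mem hm hz.2) (N.inv_mem hm)⟩
    refine pgroup_le hS hA (H := (M ⊓ N).map (cj m)) (P := P.map (cj m)) ?_ ?_ (hPp.map _) ?_ ?_ ⟨z, hz, rfl⟩
    · exact fun b hb => ⟨m⁻¹ * b * m, hS.le (by simpa using conj_mem hS.norm (N.inv_mem hm) hb), by simp [cj, mul_assoc]⟩
    · rintro _ ⟨w, hw, rfl⟩
      exact N.mul_mem (N.mul_mem hm hw.2) (N.inv_mem hm)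
    · exact Subgroup.map_mono (le_inf (inf_le_left.trans (pc_le p M)) inf_le_right)
    · refine (Subgroup.map_mono ?_).trans (Subgroup.le_normalizer_map _)
      exact le_normalizer_of_forall fun w hw a ha =>
        ⟨conj_mem hM1 hw.1 ha.1, N.mul_mem (N.mul_mem hw.2 ha.2) (N.inv_mem hw.2)⟩
  have hBN : B ≤ N := hS.le.trans inf_le_right
  have hPQ : P ≤ pc p N := by
    haveI : (B.subgroupOf N).Normal := (normal_subgroupOf_iff_le_normalizer hBN).mpr hS.norm
    have hPB' : P.subgroupOf N ≤ B.subgroupOf N := fun z hz => hPB hz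
    have hnorm : ((P.subgroupOf N).subgroupOf (B.subgroupOf N)).Normal :=
      (normal_subgroupOf_iff_le_normalizer hPB').mpr (le_normalizer_of_forall fun w hw a ha =>
        ⟨conj_mem hM1 (hS.le (show (w : G) ∈ B from hw)).1 ha.1, N.mul_mem (N.mul_mem w.2 a.2) (N.inv_mem w.2)⟩)
    have := Core.le_pCore_of_isSubnormal (sub hPB' hnorm this)
      (hPp.of_equiv (Subgroup.subgroupOfEquivOfLe inf_le_right).symm)
    rw [← Subgroup.map_subgroupOf_eq_of_le (show P ≤ N from inf_le_right)]
    exact Subgroup.map_mono this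
  have hle : pc p M ≤ pc p N := by
    set J := pc p M ⊔ pc p N with hJ
    have hJp : IsPGroup p ↥J := hpM.to_sup_of_normal_left' hpN (hQ2.trans hM1)
    by_contra hnot
    have hlt : (pc p N).subgroupOf J < ⊤ := by
      rw [lt_top_iff_ne_top, ne_eq, subgroupOf_eq_top]
      exact fun h => hnot (le_sup_left.trans h)
    haveI := hJp.isNilpotent
    have hgrow := Group.normalizerCondition_of_isNilpotent _ hlt
    obtain ⟨z, hz, hz'⟩ := SetLike.exists_of_lt hgrow
    have hzn : (z : G) ∈ N := by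
      rw [← hNmax (pc p N) hne (pc_le p N) hN1, mem_normalizer_iff]
      intro a
      constructor
      · intro ha
        exact (mem_normalizer_iff.mp hz ⟨a, (le_sup_right : pc p N ≤ J) ha⟩).mp ha
      · intro ha
        have haJ : a ∈ J := by
          have := J.mul_mem (J.mul_mem (J.inv_mem z.2) ((le_sup_right : pc p N ≤ J) ha : (z : G) * a * (z : G)⁻¹ ∈ J)) z.2
          simpa [mul_assoc] using this
        exact (mem_normalizer_iff.mp hz ⟨a, haJ⟩).mpr ha
    obtain ⟨a, ha, b, hb, hab⟩ : ∃ a ∈ pc p M, ∃ b ∈ pc p N, a * b = (z : G) := by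
      have : (z : G) ∈ ((pc p M ⊔ pc p N : Subgroup G) : Set G) := z.2
      rw [Subgroup.coe_mul_of_right_le_normalizer_left (pc p M) (pc p N) (hQ2.trans hM1)] at this
      exact Set.mem_mul.mp this
    have haN : a ∈ N := by
      rw [show a = (z : G) * b⁻¹ by rw [← hab, mul_inv_cancel_right]]
      exact N.mul_mem hzn (N.inv_mem (pc_le p N hb))
    exact hz' (show (z : G) ∈ pc p N by rw [← hab]; exact (pc p N).mul_mem (hPQ ⟨ha, haN⟩) hb)
  exact Subgroup.eq_of_le_of_card_ge hle hcard.ge

/-- With trivial layer and only one prime, the generalized Fitting subgroup is `O_p`. -/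
theorem gFit_eq_pCore {X : Type*} [Group X] [Finite X] (p : ℕ) [Fact p.Prime] (hl : Cfsg.layer X = ⊥)
    (hq : ∀ q, q.Prime → q ≠ p → Cfsg.pCore q X = ⊥) : Cfsg.generalizedFittingSubgroup X = Cfsg.pCore p X := by
  rw [Cfsg.generalizedFittingSubgroup, hl, bot_sup_eq]
  refine le_antisymm ?_ (Core.pCore_le_fittingSubgroup p X)
  rw [Core.fittingSubgroup_eq_iSup]
  refine iSup_le fun q => ?_
  by_cases e : (q : ℕ) = p
  · rw [e]
  · rw [hq q q.2 e]; exact bot_le

end Cfsg.Agent.GeomClasses.TW
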