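import Mathlib
import Cfsg.Agent.Dickson.Count

/-! # Root subgroups in a two-dimensional special linear group meeting a subfield -/

set_option autoImplicit false
set_option linter.unusedSectionVars false

namespace Cfsg.Agent.GeomClasses.TwoByTwo

open Matrix Cfsg.Agent.Dickson

variable {F : Type*} [Field F]

theorem lel_neg_inv (b : F) : (lel b)⁻¹ = lel (-b) := by apply ext2 <;> simp

/-- The swap matrix. -/
noncomputable def swapGL : GL (Fin 2) F :=
  Matrix.GeneralLinearGroup.mkOfDetNeZero !![0, 1; 1, 0] (by simp [Matrix.det_fin_two])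

theorem conj_swap_uel (b : F) : conjGL (swapGL : GL (Fin 2) F) (uel b) = lel b := by
  have h : ((swapGL : GL (Fin 2) F) : Matrix (Fin 2) (Fin 2) F) * (uel b : Matrix (Fin 2) (Fin 2) F) =
      (lel b : Matrix (Fin 2) (Fin 2) F) * ((swapGL : GL (Fin 2) F) : Matrix (Fin 2) (Fin 2) F) := by
    simp [swapGL, uel, lel, Matrix.GeneralLinearGroup.mkOfDetNeZero, Matrix.GeneralLinearGroup.mk',
      Matrix.unitOfDetInvertible]
  apply Subtype.ext
  show _ * _ * _ = _
  rw [h, mul_assoc, ← Units.val_mul, mul_inv_cancel, Units.val_one, mul_one]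

theorem conj_swap_lel (b : F) : conjGL (swapGL : GL (Fin 2) F) (lel b) = uel b := by
  have h : ((swapGL : GL (Fin 2) F) : Matrix (Fin 2) (Fin 2) F) * (lel b : Matrix (Fin 2) (Fin 2) F) =
      (uel b : Matrix (Fin 2) (Fin 2) F) * ((swapGL : GL (Fin 2) F) : Matrix (Fin 2) (Fin 2) F) := by
    simp [swapGL, uel, lel, Matrix.GeneralLinearGroup.mkOfDetNeZero, Matrix.GeneralLinearGroup.mk',
      Matrix.unitOfDetInvertible]
  apply Subtype.ext
  show _ * _ * _ = _
  rw [h, mul_assoc, ← Units.val_mul, mul_inv_cancel, Units.val_one, mul_one]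

variable {p : ℕ} [Fact p.Prime] [CharP F p]

/-- Even characteristic: the upper unipotent elements of a subgroup meeting the lower ones are closed under
`(a, b, x) ↦ x b a⁻¹`. -/
theorem closed_two [CharP F 2] [Finite F] (H : Subgroup (SL2 F)) {c : F} (hc : c ≠ 0) (hcH : lel c ∈ H) {a b x : F}
    (ha : a ≠ 0) (hb : b ≠ 0) (haH : uel a ∈ H) (hbH : uel b ∈ H) (hxH : uel x ∈ H) :
    uel (x * (b / a)) ∈ H := by
  have h2 : (2 : F) = 0 := CharTwo.two_eq_zero
  have key : ∀ {d : F}, d ≠ 0 → uel d ∈ H → ∃ g ∈ H, g * uel d * g⁻¹ = lel c := by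
    intro d hd hdH
    set u := uel d with hu
    set l := lel c with hl
    have huu : u * u = 1 := by rw [hu, ← uel_add, CharTwo.add_self_eq_zero, uel_zero]
    have hll : l * l = 1 := by rw [hl, ← lel_add, CharTwo.add_self_eq_zero, lel_zero]
    have hui : u⁻¹ = u := inv_eq_of_mul_eq_one_right huu
    have hli : l⁻¹ = l := inv_eq_of_mul_eq_one_right hll
    have hinv : (u * l)⁻¹ = l * u := by rw [_root_.mul_inv_rev, hui, hli]
    rcases Nat.even_or_odd (orderOf (u * l)) with ⟨k, hk⟩ | ⟨k, hk⟩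
    · exfalso
      have hpos : 0 < orderOf (u * l) := orderOf_pos _
      have hz1 : (u * l) ^ k ≠ 1 := fun h => by
        have := orderOf_le_of_pow_eq_one (by omega) h
        omega
      have hz2 : ((u * l) ^ k)⁻¹ = (u * l) ^ k := by
        refine inv_eq_of_mul_eq_one_right ?_
        rw [← pow_add, ← hk, pow_orderOf_eq_one]
      have hcu : u * (u * l) ^ k * u⁻¹ = (u * l) ^ k := by
        rw [← conj_pow, ← mul_assoc, huu, one_mul, hui, ← hinv, inv_pow, hz2]
      have hcl : l * (u * l) ^ k * l⁻¹ = (u * l) ^ k := by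
        rw [← conj_pow, hli, mul_assoc l (u * l) l, mul_assoc u l l, hll, mul_one, ← hinv, inv_pow, hz2]
      generalize (u * l) ^ k = z at hz1 hcu hcl
      apply hz1
      have e1 := congrArg (fun g : SL2 F => g 0 0) (mul_inv_eq_iff_eq_mul.mp hcu)
      have e2 := congrArg (fun g : SL2 F => g 0 1) (mul_inv_eq_iff_eq_mul.mp hcu)
      have e3 := congrArg (fun g : SL2 F => g 0 0) (mul_inv_eq_iff_eq_mul.mp hcl)
      simp only [hu, hl, mul_apply2, uel00, uel01, uel10, uel11, lel00, lel01, lel10, lel11] at e1 e2 e3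
      have z10 : z 1 0 = 0 := (mul_eq_zero.mp (show d * z 1 0 = 0 by linear_combination e1)).resolve_left hd
      have z11 : z 1 1 = z 0 0 := mul_left_cancel₀ hd (by linear_combination e2)
      have z01 : z 0 1 = 0 := (mul_eq_zero.mp (show c * z 0 1 = 0 by linear_combination -e3)).resolve_left hc
      have hdet := det_eq z
      rw [z10, z01, z11] at hdet
      have z00 : z 0 0 = 1 := by
        have : (z 0 0 - 1) * (z 0 0 - 1) = 0 := by linear_combination hdet + (1 - z 0 0) * h2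
        exact sub_eq_zero.mp (mul_self_eq_zero.mp this)
      apply ext2 <;> simp [z00, z01, z10, z11]
    · refine ⟨(u * l) ^ k, H.pow_mem (H.mul_mem hdH hcH) k, ?_⟩
      have e : (l * u) ^ (2 * k) = u * l := by
        rw [← hinv, inv_pow]
        refine inv_eq_of_mul_eq_one_right ?_
        rw [← pow_succ, ← hk, pow_orderOf_eq_one]
      have hsc : SemiconjBy u (l * u) (u * l) := by
        show u * (l * u) = (u * l) * u
        rw [mul_assoc]
      calc (u * l) ^ k * u * ((u * l) ^ k)⁻¹ = u * (l * u) ^ k * (l * u) ^ k := by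
            rw [← (hsc.pow_right k).eq, ← inv_pow, hinv]
        _ = u * (l * u) ^ (2 * k) := by rw [mul_assoc, ← pow_add, ← two_mul]
        _ = l := by rw [e, ← mul_assoc, huu, one_mul]
  obtain ⟨g, hg, hga⟩ := key ha haH
  obtain ⟨g', hg', hgb⟩ := key hb hbH
  have hh : g'⁻¹ * g ∈ H := H.mul_mem (H.inv_mem hg') hg
  have hhab : (g'⁻¹ * g) * uel a = uel b * (g'⁻¹ * g) := by
    have h1 : g * uel a * g⁻¹ = g' * uel b * g'⁻¹ := hga.trans hgb.symm
    calc (g'⁻¹ * g) * uel a = g'⁻¹ * (g * uel a * g⁻¹) * g := by group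
      _ = g'⁻¹ * (g' * uel b * g'⁻¹) * g := by rw [h1]
      _ = uel b * (g'⁻¹ * g) := by group
  have hx := H.mul_mem (H.mul_mem hh hxH) (H.inv_mem hh)
  generalize g'⁻¹ * g = h at hh hhab hx
  have e2 := congrArg (fun g : SL2 F => g 0 1) hhab
  have e3 := congrArg (fun g : SL2 F => g 1 1) hhab
  simp only [mul_apply2, uel00, uel01, uel10, uel11] at e2 e3
  have h10 : h 1 0 = 0 := (mul_eq_zero.mp (show a * h 1 0 = 0 by linear_combination e3)).resolve_left ha
  have hdet := det_eq h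
  rw [h10, mul_zero, sub_zero] at hdet
  have hsq : h 0 0 * h 0 0 = b / a := by
    rw [eq_div_iff ha]
    linear_combination (h 0 0) * e2 + b * hdet
  have : h * uel x * h⁻¹ = uel (x * (b / a)) := by
    rw [← hsq]
    apply ext2 <;> simp only [mul_apply2, inv00, inv01, inv10, inv11, uel00, uel01, uel10, uel11, h10]
    · linear_combination hdet
    · ring
    · ring
    · linear_combination hdet
  rwa [this] at hx

theorem inv_lower [Finite F] (hp : p ≠ 2) (H : Subgroup (SL2 F)) {s t : F} (hs : s ≠ 0) (ht : t ≠ 0)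
    (hsH : uel s ∈ H) (htH : uel t ∈ H) (hts : t ≠ s) (hts' : t ≠ -s) {c : F} (hc : c ≠ 0) (hcH : lel c ∈ H)
    {b : F} (hb : b ≠ 0) (hbH : uel b ∈ H) : lel b⁻¹ ∈ H := by
  classical
  have h2 : (2 : F) ≠ 0 := two_ne_zero' (F := F) hp
  obtain ⟨P, hP⟩ := exists_sylow_mem (p := p) (x := (⟨uel s, hsH⟩ : H)) (by simp [tr]; norm_num)
  obtain ⟨Q0, hQ0⟩ := exists_sylow_mem (p := p) (x := (⟨lel c, hcH⟩ : H)) (by simp [tr]; norm_num)
  have hmem := mem_P_iff (P := P) hp hs (ub := (⟨uel s, hsH⟩ : H)) rfl hP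
  have hPu : ∀ {x : H}, x ∈ P → (x : SL2 F) = uel ((x : SL2 F) 0 1) := fun {x} hx => by
    obtain ⟨e10, e00⟩ := (hmem x).mp hx
    have hdet := det_eq (x : SL2 F)
    rw [e10, e00] at hdet
    apply ext2 <;> simp [e10, e00]
    linear_combination hdet
  have huP : ∀ {y : F} (hy : uel y ∈ H), (⟨uel y, hy⟩ : H) ∈ P := fun {y} hy => (hmem _).mpr ⟨rfl, rfl⟩
  have hne : Q0 ≠ P := fun e => by
    subst e
    exact hc (((hmem _).mp hQ0).1)
  haveI : Nontrivial (Sylow p H) := ⟨⟨Q0, P, hne⟩⟩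
  have hN : 1 < Nat.card (Sylow p H) := Finite.one_lt_card
  have hcard : Nat.card (Sylow p H) = Nat.card (P : Subgroup H) + 1 := by
    rcases card_sylow_cases hp hN hs rfl hP with h | ⟨-, h3, -⟩
    · exact h
    · exfalso
      have hss : s ≠ -s := fun e => hs ((mul_eq_zero.mp (show (2 : F) * s = 0 by linear_combination e)).resolve_left h2)
      let f : Fin 4 → (P : Subgroup H) := ![1, ⟨⟨uel s, hsH⟩, hP⟩, ⟨⟨uel t, htH⟩, huP htH⟩,
        ⟨⟨uel (-s), uel_inv s ▸ H.inv_mem hsH⟩, huP _⟩]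
      have hf : Function.Injective f := by
        intro i j hij
        have h1 := congrArg (fun x : (P : Subgroup H) => ((x : H) : SL2 F) 0 1) hij
        fin_cases i <;> fin_cases j <;>
          first
            | rfl
            | (exfalso; simp [f, hs, hs.symm, ht, ht.symm, hts, hts.symm, hts', hts'.symm, hss, hss.symm] at h1)
      have h4 : Nat.card (Fin 4) ≤ 3 := h3 ▸ Nat.card_le_card_of_injective f hf
      rw [Nat.card_fin] at h4
      omega
  -- translations permute the other Sylow subgroups transitively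
  have htrans : ∀ R : Sylow p H, R ≠ P → ∃ x : F, ∃ hx : uel x ∈ H, (⟨uel x, hx⟩ : H) • Q0 = R := by
    intro R hR
    let f : ↥(P : Subgroup H) → {R : Sylow p H // R ≠ P} := fun u => ⟨(u : H) • Q0, fun e => hne (by
      have : (u : H)⁻¹ • ((u : H) • Q0) = (u : H)⁻¹ • P := by rw [e]
      rw [inv_smul_smul] at this
      exact this.trans (Sylow.smul_eq_iff_mem_normalizer.mpr (Subgroup.le_normalizer ((P : Subgroup H).inv_mem u.2))))⟩
    have hf : Function.Injective f := by
      intro u v huv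
      have h1 : (u : H) • Q0 = (v : H) • Q0 := congrArg Subtype.val huv
      have h2 : ((v : H)⁻¹ * u) • Q0 = Q0 := by rw [mul_smul, h1, inv_smul_smul]
      have h3 := eq_one_of_smul_eq hp hne ((P : Subgroup H).mul_mem ((P : Subgroup H).inv_mem v.2) u.2) h2
      exact Subtype.ext (inv_mul_eq_one.mp h3).symm
    have hbij : Function.Bijective f := by
      haveI : Fintype (Sylow p H) := Fintype.ofFinite _
      haveI : Fintype (P : Subgroup H) := Fintype.ofFinite _
      rw [Fintype.bijective_iff_injective_and_card]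
      refine ⟨hf, ?_⟩
      rw [Fintype.card_subtype_compl, Fintype.card_subtype_eq, ← Nat.card_eq_fintype_card, ← Nat.card_eq_fintype_card, hcard]
      omega
    obtain ⟨u, hu⟩ := hbij.2 ⟨R, hR⟩
    have h1 : (u : H) • Q0 = R := congrArg Subtype.val hu
    have h2 : (u : H) = ⟨uel (((u : H) : SL2 F) 0 1), hPu u.2 ▸ (u : H).2⟩ := Subtype.ext (hPu u.2)
    exact ⟨_, _, h2 ▸ h1⟩
  -- the fixed point of a lower element
  have hfix : ∀ {l : F}, lel l ∈ H → l ≠ 0 → uel l⁻¹ ∈ H := by
    intro l hl hl0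
    set R := (⟨lel l, hl⟩ : H) • P with hR
    have hu1 : (⟨lel l, hl⟩ : H) * ⟨uel s, hsH⟩ * (⟨lel l, hl⟩ : H)⁻¹ ∈ R := conj_mem_smul _ hP
    have hRP : R ≠ P := fun e => by
      rw [e] at hu1
      have h1 := ((hmem _).mp hu1).1
      simp only [Subgroup.coe_mul, Subgroup.coe_inv, mul_apply2, inv00, inv01, inv10, inv11, lel00, lel01, lel10,
        lel11, uel00, uel01, uel10, uel11] at h1
      exact hl0 ((mul_eq_zero.mp (show (l * l) * s = 0 by linear_combination -h1)).resolve_right hs |> mul_self_eq_zero.mp)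
    obtain ⟨x, hx, hxR⟩ := htrans R hRP
    have hu2 : (⟨uel x, hx⟩ : H) * ⟨lel c, hcH⟩ * (⟨uel x, hx⟩ : H)⁻¹ ∈ R := hxR ▸ conj_mem_smul _ hQ0
    have hcomm := congrArg (fun g : SL2 F => g 1 0) (comm_of_mem hp hu1 hu2)
    simp only [Subgroup.coe_mul, Subgroup.coe_inv, mul_apply2, inv00, inv01, inv10, inv11, lel00, lel01, lel10,
      lel11, uel00, uel01, uel10, uel11] at hcomm
    have h3 : (2 * s * c * l) * (1 - x * l) = 0 := by linear_combination hcomm
    have h4 : x * l = 1 := (sub_eq_zero.mp ((mul_eq_zero.mp h3).resolve_left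
      (mul_ne_zero (mul_ne_zero (mul_ne_zero h2 hs) hc) hl0))).symm
    rwa [eq_inv_of_mul_eq_one_left h4] at hx
  -- an element carrying `P` to `Q0`
  obtain ⟨g, hg⟩ := MulAction.exists_smul_eq H P Q0
  have hconj : ∀ {a : F}, uel a ∈ H → (g : SL2 F) * uel a * (g : SL2 F)⁻¹ ∈ H := fun {a} ha =>
    H.mul_mem (H.mul_mem g.2 ha) (H.inv_mem g.2)
  have hg00 : (g : SL2 F) 0 0 = 0 := by
    have h1 : g * ⟨uel s, hsH⟩ * g⁻¹ ∈ Q0 := hg ▸ conj_mem_smul g hP
    have hcomm := congrArg (fun g : SL2 F => g 0 0) (comm_of_mem hp h1 hQ0)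
    simp only [Subgroup.coe_mul, Subgroup.coe_inv, mul_apply2, inv00, inv01, inv10, inv11, lel00, lel01, lel10,
      lel11, uel00, uel01, uel10, uel11] at hcomm
    exact mul_self_eq_zero.mp ((mul_eq_zero.mp (show (s * c) * ((g : SL2 F) 0 0 * (g : SL2 F) 0 0) = 0 by
      linear_combination hcomm)).resolve_left (mul_ne_zero hs hc))
  have hdet := det_eq (g : SL2 F)
  rw [hg00, zero_mul, zero_sub] at hdet
  set μ := -((g : SL2 F) 1 0 * (g : SL2 F) 1 0) with hμ
  have hμ0 : μ ≠ 0 := by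
    rw [hμ, neg_ne_zero, mul_self_ne_zero]
    intro e
    rw [e, mul_zero, neg_zero] at hdet
    exact zero_ne_one hdet
  have hlow : ∀ {a : F}, uel a ∈ H → lel (μ * a) ∈ H := fun {a} ha => by
    convert hconj ha using 1
    apply ext2 <;> simp only [mul_apply2, inv00, inv01, inv10, inv11, lel00, lel01, lel10, lel11, uel00, uel01,
      uel10, uel11, hg00, hμ]
    · linear_combination -hdet
    · ring
    · ring
    · linear_combination -hdet
  let A : Set F := {a | uel a ∈ H ∧ a ≠ 0}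
  haveI : Finite A := Subtype.finite
  let f : A → A := fun a => ⟨(μ * (a : F))⁻¹, hfix (hlow a.2.1) (mul_ne_zero hμ0 a.2.2),
    inv_ne_zero (mul_ne_zero hμ0 a.2.2)⟩
  have hf : Function.Injective f := fun a a' e => Subtype.ext
    (mul_left_cancel₀ hμ0 (inv_injective (congrArg Subtype.val e)))
  obtain ⟨a, ha⟩ := (Finite.injective_iff_surjective.mp hf) ⟨b, hbH, hb⟩
  have h5 : (μ * (a : F))⁻¹ = b := congrArg Subtype.val ha
  rw [← h5, inv_inv]
  exact hlow a.2.1

/-- Odd characteristic: the upper parameters are closed under `(a, b, x) ↦ x a² b⁻²`. -/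
theorem closed_odd (H : Subgroup (SL2 F)) (hinv : ∀ {b : F}, b ≠ 0 → uel b ∈ H → lel b⁻¹ ∈ H)
    {a b x : F} (ha : a ≠ 0) (hb : b ≠ 0) (haH : uel a ∈ H) (hbH : uel b ∈ H) (hxH : uel x ∈ H) :
    uel (x * (a / b) ^ 2) ∈ H := by
  have hw : ∀ {a : F}, a ≠ 0 → uel a ∈ H → uel a * lel (-a⁻¹) * uel a ∈ H := fun {a} ha haH =>
    H.mul_mem (H.mul_mem haH (lel_neg_inv a⁻¹ ▸ H.inv_mem (hinv ha haH))) haH
  have hd := H.mul_mem (hw ha haH) (hw hb hbH)
  have := H.mul_mem (H.mul_mem hd hxH) (H.inv_mem hd)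
  convert this using 1
  apply ext2 <;> simp only [mul_apply2, inv00, inv01, inv10, inv11, lel00, lel01, lel10, lel11, uel00, uel01, uel10, uel11]
  all_goals field_simp
  all_goals ring

/-- A subgroup of `SL₂` with a non-trivial upper element, the lower elements with parameters in a multiple of a
subfield of prime index and one more lower element contains all lower elements. -/
theorem lel_full [Fintype F] (F₀ : Subfield F) (r : ℕ) (hr : r.Prime)
    (hcard : Fintype.card F = Nat.card F₀ ^ r) (H : Subgroup (SL2 F)) {c : F} (hc : c ≠ 0) (hcH : uel c ∈ H)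
    {s₁ : F} (hs1 : s₁ ≠ 0) (hA : ∀ a ∈ F₀, lel (a * s₁) ∈ H) {s₂ : F} (hs2 : lel s₂ ∈ H) (hne : s₂ / s₁ ∉ F₀)
    (s : F) : lel s ∈ H := by
  classical
  let H' := H.comap (conjGL (swapGL : GL (Fin 2) F))
  have huH : ∀ b : F, uel b ∈ H' ↔ lel b ∈ H := fun b => by rw [Subgroup.mem_comap, conj_swap_uel]
  have hlH : lel c ∈ H' := by rw [Subgroup.mem_comap, conj_swap_lel]; exact hcH
  have hs1H : uel s₁ ∈ H' := (huH _).mpr (by simpa using hA 1 F₀.one_mem)
  have hs20 : s₂ ≠ 0 := fun h => hne (by rw [h, zero_div]; exact F₀.zero_mem)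
  suffices hmul : ∀ a b : F, uel (a * s₁) ∈ H' → uel (b * s₁) ∈ H' → uel (a * b * s₁) ∈ H' by
    let B : Subalgebra F₀ F :=
      { carrier := {a | uel (a * s₁) ∈ H'}
        mul_mem' := fun {a b} ha hb => hmul a b ha hb
        one_mem' := by simpa using hs1H
        add_mem' := fun {a b} ha hb => by
          show uel ((a + b) * s₁) ∈ H'
          rw [add_mul, uel_add]; exact H'.mul_mem ha hb
        zero_mem' := by show uel (0 * s₁) ∈ H'; rw [zero_mul, uel_zero]; exact H'.one_mem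
        algebraMap_mem' := fun a => (huH _).mpr (hA a a.2) }
    haveI : Fintype F₀ := Fintype.ofFinite _
    have hrk : Module.finrank F₀ F = r := by
      have h1 := Module.card_eq_pow_finrank (K := F₀) (V := F)
      rw [hcard, Nat.card_eq_fintype_card] at h1
      exact (Nat.pow_right_injective Fintype.one_lt_card h1).symm
    haveI := Subalgebra.isSimpleOrder_of_finrank_prime F₀ F (hrk ▸ hr)
    rcases eq_bot_or_eq_top B with hB | hB
    · exfalso
      have h1 : s₂ / s₁ ∈ B := (huH _).mpr (by rwa [div_mul_cancel₀ _ hs1])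
      rw [hB, Algebra.mem_bot] at h1
      obtain ⟨a, ha⟩ := h1
      exact hne (ha ▸ a.2)
    · have h1 : s / s₁ ∈ B := hB ▸ Algebra.mem_top
      have h2 := (huH _).mp h1
      rwa [div_mul_cancel₀ _ hs1] at h2
  obtain ⟨p, hpc⟩ := CharP.exists F
  haveI hpf : Fact p.Prime := ⟨CharP.char_is_prime F p⟩
  intro a b ha hb
  by_cases ha0 : a = 0
  · subst ha0; rw [zero_mul]; exact ha
  by_cases hb0 : b = 0
  · subst hb0; rw [mul_zero]; exact hb
  by_cases hp : p = 2
  · subst hp
    have := closed_two H' hc hlH hs1 (mul_ne_zero hb0 hs1) hs1H hb ha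
    rwa [mul_div_cancel_right₀ b hs1, mul_right_comm] at this
  · have h2 : (2 : F) ≠ 0 := two_ne_zero' (F := F) hp
    have hts : s₂ ≠ s₁ := fun h => hne (by rw [h, div_self hs1]; exact F₀.one_mem)
    have hts' : s₂ ≠ -s₁ := fun h => hne (by rw [h, neg_div, div_self hs1]; exact F₀.neg_mem F₀.one_mem)
    have hinv : ∀ {b : F}, b ≠ 0 → uel b ∈ H' → lel b⁻¹ ∈ H' := fun hb0 hb =>
      inv_lower hp H' hs1 hs20 hs1H ((huH _).mpr hs2) hts hts' hc hlH hb0 hb
    have hsq : ∀ {u v : F}, uel (u * s₁) ∈ H' → uel (v * s₁) ∈ H' → uel (u ^ 2 * v * s₁) ∈ H' := by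
      intro u v hu hv
      by_cases hu0 : u = 0
      · subst hu0; simp [uel_zero]
      have := closed_odd H' hinv (mul_ne_zero hu0 hs1) hs1 hu hs1H hv
      rwa [mul_div_cancel_right₀ u hs1, show v * s₁ * u ^ 2 = u ^ 2 * v * s₁ by ring] at this
    have hb1 : uel ((a + 1) * s₁) ∈ H' := by
      rw [add_mul, one_mul, uel_add]; exact H'.mul_mem ha hs1H
    have h3 : uel (((a + 1) ^ 2 * b - a ^ 2 * b - b) * s₁) ∈ H' := by
      rw [sub_mul, sub_mul, sub_eq_add_neg, uel_add, ← uel_inv, sub_eq_add_neg, uel_add, ← uel_inv]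
      exact H'.mul_mem (H'.mul_mem (hsq hb1 hb) (H'.inv_mem (hsq ha hb))) (H'.inv_mem hb)
    obtain ⟨m, hm⟩ : ∃ m : ℕ, (m : F) * 2 = 1 := by
      obtain ⟨m, hm⟩ := (hpf.out.odd_of_ne_two hp)
      refine ⟨m + 1, ?_⟩
      have : ((p : ℕ) : F) = 0 := CharP.cast_eq_zero F p
      rw [hm] at this
      push_cast at this ⊢
      linear_combination this
    have h4 : ∀ (k : ℕ) (z : F), uel z ∈ H' → uel ((k : F) * z) ∈ H' := by
      intro k z hz
      induction k with
      | zero => simp [uel_zero]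
      | succ k ih => rw [Nat.cast_succ, add_mul, one_mul, uel_add]; exact H'.mul_mem ih hz
    convert h4 m _ h3 using 2
    linear_combination -(a * b * s₁) * hm

end Cfsg.Agent.GeomClasses.TwoByTwo
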