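import Cfsg.Agent.GeomClasses.UnitaryBasic

/-! # Witt calculus for hermitian spaces -/

set_option autoImplicit false

namespace Cfsg.Agent.GeomClasses.Unitary

open Matrix Cfsg.Agent.Forms

variable {F : Type*} [Field F] [Fintype F] {q n : ℕ} (hF : Fintype.card F = q ^ 2)

local notation "hh" => Cfsg.hermForm n F q

variable (q) in
/-- The form is non-degenerate on `X`. -/
def NonDeg (X : Submodule F (Fin n → F)) : Prop := ∀ u ∈ X, (∀ v ∈ X, hh u v = 0) → u = 0

include hF

theorem nonDeg_B {X : Submodule F (Fin n → F)} (hX : NonDeg q X) :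
    ∀ u ∈ X, (∀ v ∈ X, hermB n hF u v = 0) → u = 0 := fun u hu h =>
  hX u hu fun v hv => hh_comm_zero hF (h v hv)

theorem isCompl_perp' {X : Submodule F (Fin n → F)} (hX : NonDeg q X) : IsCompl X (perp (hermB n hF) X) :=
  (isForm_herm hF).isCompl_perp (nonDeg_B hF hX)

theorem pairing_in {X : Submodule F (Fin n → F)} (hX : NonDeg q X) {w y : Fin n → F} (hw : w ∈ X) (hy : y ∈ X)
    (hyw : y ∉ Submodule.span F {w}) (c : F) : ∃ d ∈ X, hh d w = 0 ∧ hh d y = c := by
  have hc := isCompl_perp' hF hX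
  have hy' : y ∉ Submodule.span F {w} ⊔ perp (hermB n hF) X := by
    intro h
    obtain ⟨a, ha, b, hb, hab⟩ := Submodule.mem_sup.mp h
    have haX : a ∈ X := (Submodule.span_singleton_le_iff_mem _ _).mpr hw ha
    have hbX : b ∈ X := by rw [show b = y - a by rw [← hab]; abel]; exact X.sub_mem hy haX
    rw [Submodule.disjoint_def.mp hc.disjoint b hbX hb, add_zero] at hab
    exact hyw (hab ▸ ha)
  obtain ⟨d, hd, hd'⟩ := (isForm_herm (n := n) hF).exists_perp_pairing hy' c
  refine ⟨d, ?_, hd w (Submodule.mem_sup_left (Submodule.mem_span_singleton_self w)), hd'⟩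
  rw [← (isForm_herm (n := n) hF).perp_perp X, mem_perp]
  exact fun x hx => hd x (Submodule.mem_sup_right hx)

theorem pairing_one {X : Submodule F (Fin n → F)} (hX : NonDeg q X) {u : Fin n → F} (hu : u ∈ X) (hu0 : u ≠ 0)
    (c : F) : ∃ d ∈ X, hh d u = c := by
  obtain ⟨d, hd, -, h⟩ := pairing_in hF hX X.zero_mem hu (by rwa [Submodule.span_singleton_eq_bot.mpr rfl, Submodule.mem_bot]) c
  exact ⟨d, hd, h⟩

/-- Vectors of `X` orthogonal to `u`. -/
theorem finrank_inf_perp {X : Submodule F (Fin n → F)} (hX : NonDeg q X) {S : Submodule F (Fin n → F)} (hS : S ≤ X) :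
    Module.finrank F ↥(X ⊓ perp (hermB n hF) S) + Module.finrank F S = Module.finrank F X ∧
      perp (hermB n hF) (X ⊓ perp (hermB n hF) S) = perp (hermB n hF) X ⊔ S := by
  have hc := isCompl_perp' hF hX
  have hI := isForm_herm (n := n) hF
  have heq : X ⊓ perp (hermB n hF) S = perp (hermB n hF) (perp (hermB n hF) X ⊔ S) := by
    ext v
    rw [Submodule.mem_inf, mem_perp, mem_perp]
    constructor
    · rintro ⟨hv, hvS⟩ x hx
      obtain ⟨a, ha, b, hb, rfl⟩ := Submodule.mem_sup.mp hx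
      rw [map_add, LinearMap.add_apply, hI.refl _ _ (ha v hv), hvS b hb, add_zero]
    · intro h
      refine ⟨?_, fun x hx => h x (Submodule.mem_sup_right hx)⟩
      rw [← hI.perp_perp X, mem_perp]
      exact fun x hx => h x (Submodule.mem_sup_left hx)
  refine ⟨?_, by rw [heq, hI.perp_perp]⟩
  have h1 := hI.finrank_perp (perp (hermB n hF) X ⊔ S)
  have h2 := Submodule.finrank_sup_add_finrank_inf_eq (perp (hermB n hF) X) S
  have h3 : perp (hermB n hF) X ⊓ S = ⊥ := (hc.disjoint.symm.mono_right hS).eq_bot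
  rw [h3, finrank_bot] at h2
  have h4 := hI.finrank_perp X
  rw [heq]
  omega

theorem exists_aniso_perp {X : Submodule F (Fin n → F)} (hX : NonDeg q X) {u : Fin n → F} (hu : u ∈ X)
    (hk : 3 ≤ Module.finrank F X ∨ (2 ≤ Module.finrank F X ∧ hh u u ≠ 0)) :
    ∃ d ∈ X, hh d u = 0 ∧ hh d d ≠ 0 := by
  classical
  by_contra hcon
  push_neg at hcon
  set S := Submodule.span F {u}
  obtain ⟨hdim, hperp⟩ := finrank_inf_perp hF hX (S := S) ((Submodule.span_singleton_le_iff_mem _ _).mpr hu)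
  have hmem : ∀ y ∈ X ⊓ perp (hermB n hF) S, y ∈ X ∧ hh y u = 0 := fun y hy =>
    ⟨hy.1, (mem_perp_iff hF).mp hy.2 u (Submodule.mem_span_singleton_self u)⟩
  have hTI : ∀ y ∈ X ⊓ perp (hermB n hF) S, ∀ z ∈ X ⊓ perp (hermB n hF) S, hh y z = 0 := by
    intro y hy z hz
    by_contra hne
    obtain ⟨t, ht⟩ := exists_trace_one hF
    let a := t / hh y z
    have := hcon (a • y + z) (X.add_mem (X.smul_mem _ hy.1) hz.1) (by
      rw [hh_add_left hF, hh_smul_left hF, (hmem y hy).2, (hmem z hz).2, mul_zero, add_zero])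
    rw [hh_add_left hF, hh_add_right hF, hh_add_right hF, hh_smul_left hF, hh_smul_left hF, hh_smul_right hF,
      hh_smul_right hF, hcon y hy.1 (hmem y hy).2, hcon z hz.1 (hmem z hz).2, ← hh_conj hF y z] at this
    simp only [a, mul_zero, zero_add, add_zero] at this
    rw [div_mul_cancel₀ _ hne, ← mul_pow, div_mul_cancel₀ _ hne, ht] at this
    exact one_ne_zero this
  have hle : X ⊓ perp (hermB n hF) S ≤ S := by
    intro y hy
    have hy' : y ∈ perp (hermB n hF) (X ⊓ perp (hermB n hF) S) := (mem_perp_iff hF).mpr (hTI y hy)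
    rw [hperp] at hy'
    obtain ⟨p, hp, s, hs, hps⟩ := Submodule.mem_sup.mp hy'
    have hpX : p ∈ X := by
      rw [show p = y - s by rw [← hps]; abel]
      exact X.sub_mem hy.1 ((Submodule.span_singleton_le_iff_mem _ _).mpr hu hs)
    rw [Submodule.disjoint_def.mp (isCompl_perp' hF hX).disjoint p hpX hp, zero_add] at hps
    exact hps ▸ hs
  have h1 : Module.finrank F S ≤ 1 := (finrank_span_le_card {u}).trans (by simp)
  have h2 := Submodule.finrank_mono hle
  rcases hk with hk | ⟨hk, huu⟩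
  · omega
  · obtain ⟨y, hy, hy0⟩ := (Submodule.ne_bot_iff _).mp (fun h => by
      rw [h, finrank_bot] at hdim; omega : X ⊓ perp (hermB n hF) S ≠ ⊥)
    obtain ⟨c, rfl⟩ := Submodule.mem_span_singleton.mp (hle hy)
    have := (hmem _ hy).2
    rw [hh_smul_left hF] at this
    rcases mul_eq_zero.mp this with h | h
    · exact hy0 (by rw [h, zero_smul])
    · exact huu h

theorem exists_unit {X : Submodule F (Fin n → F)} (hX : NonDeg q X) (hX0 : X ≠ ⊥) : ∃ u ∈ X, hh u u = 1 := by
  obtain ⟨u, hu, huu⟩ : ∃ u ∈ X, hh u u ≠ 0 := by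
    by_contra hcon
    push_neg at hcon
    obtain ⟨y, hy, hy0⟩ := (Submodule.ne_bot_iff X).mp hX0
    obtain ⟨t, ht⟩ := exists_trace_one hF
    obtain ⟨z, hz, hzy⟩ := pairing_one hF hX hy hy0 t
    have := hcon (z + y) (X.add_mem hz hy)
    rw [hh_add_left hF, hh_add_right hF, hh_add_right hF, hcon z hz, hcon y hy, hzy, ← hh_conj hF z y, hzy, zero_add,
      add_zero, ht] at this
    exact one_ne_zero this
  obtain ⟨r, hr⟩ := exists_norm hF (hh u u)⁻¹ (by rw [inv_pow, hh_self_fixed hF])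
  exact ⟨r • u, X.smul_mem _ hu, by rw [hh_smul_left hF, hh_smul_right hF, ← mul_assoc, hr, inv_mul_cancel₀ huu]⟩

theorem exists_isotropic_pair {X : Submodule F (Fin n → F)} (hX : NonDeg q X) (hk : 2 ≤ Module.finrank F X) :
    ∃ e ∈ X, ∃ f ∈ X, hh e e = 0 ∧ hh f f = 0 ∧ hh f e = 1 ∧ hh e f = 1 := by
  obtain ⟨u, hu, huu⟩ := exists_unit hF hX (fun h => by rw [h, finrank_bot] at hk; omega)
  obtain ⟨d, hd, hdu, hdd⟩ := exists_aniso_perp hF hX hu (Or.inr ⟨hk, by rw [huu]; exact one_ne_zero⟩)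
  obtain ⟨r, hr⟩ := exists_norm hF (-(hh d d)⁻¹) (by rw [pow_neg_q hF, inv_pow, hh_self_fixed hF])
  have hud := hh_comm_zero hF hdu
  have hee : hh (u + r • d) (u + r • d) = 0 := by
    simp only [hh_add_left hF, hh_add_right hF, hh_smul_left hF, hh_smul_right hF, huu, hdu, hud, mul_zero, add_zero, zero_add]
    rw [← mul_assoc, hr, neg_mul, inv_mul_cancel₀ hdd]
    ring
  have he0 : u + r • d ≠ 0 := fun h => by
    have := congrArg (fun x => hh x u) h
    simp only [hh_add_left hF, hh_smul_left hF, huu, hdu, mul_zero, add_zero, hh_zero_left hF] at this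
    exact one_ne_zero this
  set e := u + r • d
  have heX : e ∈ X := X.add_mem hu (X.smul_mem _ hd)
  obtain ⟨x, hx, hxe⟩ := pairing_one hF hX heX he0 1
  obtain ⟨t, ht⟩ := exists_trace_one hF
  refine ⟨e, heX, x + (-(hh x x) * t) • e, X.add_mem hx (X.smul_mem _ heX), hee, ?_, ?_, ?_⟩
  · rw [hh_add_left hF, hh_add_right hF, hh_add_right hF, hh_smul_left hF, hh_smul_right hF, hh_smul_left hF,
      hh_smul_right hF, hee, hxe, ← hh_conj hF x e, hxe, one_pow, mul_pow, pow_neg_q hF, hh_self_fixed hF]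
    linear_combination (-(hh x x)) * ht
  · rw [hh_add_left hF, hh_smul_left hF, hee, hxe, mul_zero, add_zero]
  · rw [hh_add_right hF, hh_smul_right hF, hee, ← hh_conj hF x e, hxe, one_pow, mul_zero, add_zero]

theorem nonDeg_inf_unit {X : Submodule F (Fin n → F)} (hX : NonDeg q X) {u : Fin n → F} (hu : u ∈ X)
    (huu : hh u u = 1) : NonDeg q (X ⊓ perp (hermB n hF) (Submodule.span F {u})) := by
  intro w hw h
  have hwu : hh w u = 0 := (mem_perp_iff hF).mp hw.2 u (Submodule.mem_span_singleton_self u)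
  refine hX w hw.1 fun v hv => ?_
  have hv' : v - hh v u • u ∈ X ⊓ perp (hermB n hF) (Submodule.span F {u}) := by
    refine ⟨X.sub_mem hv (X.smul_mem _ hu), (mem_perp_iff hF).mpr fun x hx => ?_⟩
    obtain ⟨a, rfl⟩ := Submodule.mem_span_singleton.mp hx
    rw [hh_smul_right hF, hh_sub_left hF, hh_smul_left hF, huu]; ring
  have := h _ hv'
  rwa [hh_sub_right hF, hh_smul_right hF, hwu, mul_zero, sub_zero] at this

end Cfsg.Agent.GeomClasses.Unitary
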