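import Cfsg.Agent.GeomClasses.UnitaryMax
import Cfsg.Agent.GeomClasses.SympInSL

/-! # Unitary similarity groups are maximal in special linear groups -/

set_option autoImplicit false

namespace Cfsg.Agent.GeomClasses.Unitary

open Matrix Cfsg.Agent.Forms

variable {F : Type*} [Field F] [Fintype F] {q n : ℕ} (hF : Fintype.card F = q ^ 2)

local notation "hh" => Cfsg.hermForm n F q

include hF

/-- A perpendicular space of a small subspace contains a unit vector. -/
theorem exists_unit_perp {S : Submodule F (Fin n → F)} (hS : 2 * Module.finrank F S < n) :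
    ∃ e, hh e e = 1 ∧ ∀ x ∈ S, hh e x = 0 := by
  classical
  set P := perp (hermB n hF) S
  obtain ⟨d, hd, hdd⟩ : ∃ d ∈ P, hh d d ≠ 0 := by
    by_contra hc
    push_neg at hc
    obtain ⟨t, ht⟩ := exists_trace_one hF
    have hTI : P ≤ perp (hermB n hF) P := fun y hy => (mem_perp_iff hF).mpr fun z hz => by
      by_contra hne
      have h1 := hc ((t / hh y z) • y + z) (add_mem (Submodule.smul_mem _ _ hy) hz)
      simp only [hh_add_left hF, hh_add_right hF, hh_smul_left hF, hh_smul_right hF, hc y hy, hc z hz, mul_zero,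
        zero_add, add_zero, ← hh_conj hF y z] at h1
      rw [div_mul_cancel₀ _ hne, ← mul_pow, div_mul_cancel₀ _ hne, ht] at h1
      exact one_ne_zero h1
    have h1 := Submodule.finrank_mono hTI
    have h2 := (isForm_herm (n := n) hF).finrank_perp S
    have h3 := (isForm_herm (n := n) hF).finrank_perp P
    rw [Module.finrank_pi, Fintype.card_fin] at h2 h3
    have h4 : Module.finrank F P = Module.finrank F ↥(perp (hermB n hF) S) := rfl
    omega
  obtain ⟨r, hr⟩ := exists_norm hF (hh d d)⁻¹ (by rw [inv_pow, hh_self_fixed hF])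
  refine ⟨r • d, by rw [hh_smul_left hF, hh_smul_right hF, ← mul_assoc, hr, inv_mul_cancel₀ hdd], fun x hx => ?_⟩
  rw [hh_smul_left hF, (mem_perp_iff hF).mp hd x hx, mul_zero]

theorem finrank_pair_le (u v : Fin n → F) :
    Module.finrank F ↥(Submodule.span F {u} ⊔ Submodule.span F {v}) ≤ 2 := by
  have h1 := Submodule.finrank_sup_add_finrank_inf_eq (Submodule.span F {u}) (Submodule.span F {v})
  have h3 : Module.finrank F (Submodule.span F {u}) ≤ 1 := (finrank_span_le_card {u}).trans (by simp)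
  have h4 : Module.finrank F (Submodule.span F {v}) ≤ 1 := (finrank_span_le_card {v}).trans (by simp)
  omega

theorem mem_perp_single {u v : Fin n → F} :
    v ∈ perp (hermB n hF) (Submodule.span F {u}) ↔ hh v u = 0 :=
  mem_perp_span_singleton

/-- The transvection `x ↦ x + h(x, w) v`. -/
def hT (v w : Fin n → F) (h : hh v w = 0) : GL (Fin n) F := fT (hermB n hF w) v h

theorem hT_mulVec (v w : Fin n → F) (h : hh v w = 0) (x : Fin n → F) :
    (hT hF v w h : Matrix (Fin n) (Fin n) F) *ᵥ x = x + hh x w • v := fT_mulVec _ _ _ _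

omit hF in
variable (q) in
/-- The special similarities of the standard form. -/
abbrev simSL (n : ℕ) (F : Type*) [Field F] (q : ℕ) : Subgroup (GL (Fin n) F) :=
  Cfsg.Geo.similarityGroup (Cfsg.hermForm n F q) ⊓ Cfsg.Geo.specialLinear (Fin n) F

theorem SUgl_le_simSL : SUgl n F q ≤ simSL n F q := fun g hg =>
  ⟨⟨1, fun u v => by rw [Units.val_one, one_mul]; exact mem_GU_iff.mp hg.1 u v⟩, hg.2⟩

theorem isMaximalIn_sim (hn : 8 ≤ n) :
    Cfsg.Geo.IsMaximalIn (Cfsg.Geo.specialLinear (Fin n) F) (simSL n F q) := by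
  classical
  have hI := isForm_herm (n := n) hF
  have hq0 : q ≠ 0 := by have := two_le_q hF; omega
  have hι : Nontrivial (Fin n) := Fin.nontrivial_iff_two_le.mpr (by omega)
  obtain ⟨e0, he0, -⟩ := exists_unit_perp hF (S := (⊥ : Submodule F (Fin n → F))) (by rw [finrank_bot]; omega)
  obtain ⟨e1, he1, he1'⟩ := exists_unit_perp hF (S := Submodule.span F {e0}) (by
    have : Module.finrank F (Submodule.span F {e0}) ≤ 1 := (finrank_span_le_card {e0}).trans (by simp)
    omega)
  have h10 : hh e1 e0 = 0 := he1' e0 (Submodule.mem_span_singleton_self e0)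
  have h01 := hh_comm_zero hF h10
  refine ⟨lt_of_le_of_ne inf_le_right fun h => ?_, fun L hL hLS => ?_⟩
  · have h1 : hT hF e0 e1 h01 ∈ simSL n F q := h.symm ▸ fT_mem_specialLinear _ _ _
    obtain ⟨c, hc⟩ := h1.1
    have h2 := hc e0 e0
    have h3 := hc e1 e1
    rw [hT_mulVec, h01, zero_smul, add_zero, he0, mul_one] at h2
    rw [hT_mulVec, he1, one_smul, ← h2, one_mul] at h3
    simp only [hh_add_left hF, hh_add_right hF, he0, he1, h01, h10] at h3
    exact one_ne_zero (α := F) (by linear_combination h3)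
  by_cases hle : L ≤ Cfsg.Geo.similarityGroup (Cfsg.hermForm n F q)
  · exact Or.inl (le_antisymm (le_inf hle hLS) hL)
  obtain ⟨g, hg, hg'⟩ := SetLike.not_le_iff_exists.mp hle
  refine Or.inr (le_antisymm hLS ?_)
  let Pr : (Fin n → F) → (Fin n → F) → Prop := fun v w => ∃ h : hh v w = 0, hT hF v w h ∈ L
  have hSU : SUgl n F q ≤ L := (SUgl_le_simSL hF).trans hL
  have hconj : ∀ k ∈ L, k ∈ Cfsg.GU n F q → ∀ v w, Pr v w →
      Pr ((k : Matrix (Fin n) (Fin n) F) *ᵥ v) ((k : Matrix (Fin n) (Fin n) F) *ᵥ w) := by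
    rintro k hk hkU v w ⟨h, hvw⟩
    refine ⟨by rw [mem_GU_iff.mp hkU, h], ?_⟩
    rw [show hT hF _ _ _ = k * hT hF v w h * k⁻¹ by
      rw [eq_mul_inv_iff_mul_eq]
      refine gl_ext fun x => ?_
      rw [Units.val_mul, Units.val_mul, ← Matrix.mulVec_mulVec, ← Matrix.mulVec_mulVec, hT_mulVec, hT_mulVec,
        mem_GU_iff.mp hkU, Matrix.mulVec_add, Matrix.mulVec_smul]]
    exact L.mul_mem (L.mul_mem hk hvw) (L.inv_mem hk)
  have haddR : ∀ v w w', Pr v w → Pr v w' → Pr v (w + w') := by
    rintro v w w' ⟨h, h1⟩ ⟨h', h2⟩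
    refine ⟨by rw [hh_add_right hF, h, h', add_zero], ?_⟩
    rw [show hT hF v (w + w') _ = hT hF v w h * hT hF v w' h' from gl_ext fun x => by
      rw [Units.val_mul, ← Matrix.mulVec_mulVec, hT_mulVec, hT_mulVec, hT_mulVec, hh_add_left hF, hh_smul_left hF,
        hh_add_right hF, h, mul_zero, add_zero]
      module]
    exact L.mul_mem h1 h2
  have haddL : ∀ v v' w, Pr v w → Pr v' w → Pr (v + v') w := by
    rintro v v' w ⟨h, h1⟩ ⟨h', h2⟩
    refine ⟨by rw [hh_add_left hF, h, h', add_zero], ?_⟩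
    rw [show hT hF (v + v') w _ = hT hF v w h * hT hF v' w h' from gl_ext fun x => by
      rw [Units.val_mul, ← Matrix.mulVec_mulVec, hT_mulVec, hT_mulVec, hT_mulVec, hh_add_left hF, hh_smul_left hF,
        h', mul_zero, add_zero]
      module]
    exact L.mul_mem h1 h2
  have hzero : ∀ v, Pr v 0 := fun v => ⟨hh_zero_right hF v, by
    rw [show hT hF v 0 _ = 1 from gl_ext fun x => by
      rw [hT_mulVec, hh_zero_right hF, zero_smul, add_zero, Units.val_one, Matrix.one_mulVec]]
    exact L.one_mem⟩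
  have hzero' : ∀ w, Pr 0 w := fun w => ⟨hh_zero_left hF w, by
    rw [show hT hF 0 w _ = 1 from gl_ext fun x => by
      rw [hT_mulVec, smul_zero, add_zero, Units.val_one, Matrix.one_mulVec]]
    exact L.one_mem⟩
  have hscal : ∀ v w (r : F), r ≠ 0 → Pr v w → Pr (r • v) ((r⁻¹) ^ q • w) := by
    rintro v w r hr ⟨h, h1⟩
    refine ⟨by rw [hh_smul_left hF, hh_smul_right hF, h, mul_zero, mul_zero], ?_⟩
    rw [show hT hF (r • v) _ _ = hT hF v w h from gl_ext fun x => by
      rw [hT_mulVec, hT_mulVec, hh_smul_right hF, pow_q_q hF, smul_smul, mul_comm r⁻¹, mul_assoc,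
        inv_mul_cancel₀ hr, mul_one]]
    exact h1
  -- moving vectors inside the perpendicular space of an anisotropic vector
  have hmove : ∀ u, hh u u ≠ 0 → ∀ a a', hh a u = 0 → hh a' u = 0 → a ≠ 0 → a' ≠ 0 → hh a a = hh a' a' →
      ∃ k ∈ L, k ∈ Cfsg.GU n F q ∧ (k : Matrix (Fin n) (Fin n) F) *ᵥ u = u ∧
        (k : Matrix (Fin n) (Fin n) F) *ᵥ a = a' := by
    intro u hu a a' ha ha' ha0 ha'0 hN
    set X := perp (hermB n hF) (Submodule.span F {u})
    have hXn : NonDeg q X := nonDeg_perp hF fun z hz hz' => by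
      obtain ⟨c, rfl⟩ := Submodule.mem_span_singleton.mp hz
      have h1 := hz' u (Submodule.mem_span_singleton_self u)
      rw [hh_smul_left hF] at h1
      rw [(mul_eq_zero.mp h1).resolve_right hu, zero_smul]
    obtain ⟨k, hk, hkG, hka⟩ := exists_good_map hF hXn ((mem_perp_single hF).mpr ha) ((mem_perp_single hF).mpr ha')
      ha0 ha'0 hN (Y := X) fun b hb => by
        obtain ⟨e, he, he'⟩ := exists_unit_perp hF (S := Submodule.span F {u} ⊔ Submodule.span F {b})
          (by have := finrank_pair_le hF u b; omega)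
        refine ⟨e, (mem_perp_single hF).mpr (he' u (Submodule.mem_sup_left (Submodule.mem_span_singleton_self u))),
          he, hh_comm_zero hF (he' b (Submodule.mem_sup_right (Submodule.mem_span_singleton_self b)))⟩
    refine ⟨k, hSU hk, hk.1, hkG.2.1 u (fun x hx => ?_) (fun x hx => ?_), hka⟩ <;>
      exact hh_comm_zero hF ((mem_perp_single hF).mp hx)
  -- all isotropic vectors of a hyperplane
  have hiso : ∀ u, hh u u ≠ 0 → ∀ w, hh w u = 0 → w ≠ 0 →
      ∃ d, hh d u = 0 ∧ hh d d = 0 ∧ d ≠ 0 ∧ hh (w + d) (w + d) = hh w w ∧ w + d ≠ 0 ∨ (d = w ∧ hh w w = 0) := by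
    intro u hu w hwu hw0
    by_cases hww : hh w w = 0
    · exact ⟨w, Or.inr ⟨rfl, hww⟩⟩
    set S := Submodule.span F {u} ⊔ Submodule.span F {w}
    have h3 : Module.finrank F S ≤ 2 := finrank_pair_le hF u w
    obtain ⟨a, ha, ha'⟩ := exists_unit_perp hF (S := S) (by omega)
    obtain ⟨b, hb, hb'⟩ := exists_unit_perp hF (S := S ⊔ Submodule.span F {a}) (by
      have h1 := Submodule.finrank_sup_add_finrank_inf_eq S (Submodule.span F {a})
      have h2 : Module.finrank F (Submodule.span F {a}) ≤ 1 := (finrank_span_le_card {a}).trans (by simp)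
      omega)
    obtain ⟨r, hr⟩ := exists_norm hF (-1 : F) (by rw [pow_neg_q hF, one_pow])
    have hba : hh b a = 0 := hb' a (Submodule.mem_sup_right (Submodule.mem_span_singleton_self a))
    have hS : ∀ x ∈ S, hh (a + r • b) x = 0 := fun x hx => by
      rw [hh_add_left hF, hh_smul_left hF, ha' x hx, hb' x (Submodule.mem_sup_left hx), mul_zero, add_zero]
    have hdu := hS u (Submodule.mem_sup_left (Submodule.mem_span_singleton_self u))
    have hdw := hS w (Submodule.mem_sup_right (Submodule.mem_span_singleton_self w))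
    have hdd : hh (a + r • b) (a + r • b) = 0 := by
      simp only [hh_add_left hF, hh_add_right hF, hh_smul_left hF, hh_smul_right hF, ha, hb, hba, hh_comm_zero hF hba]
      linear_combination hr
    have hda : hh (a + r • b) a = 1 := by rw [hh_add_left hF, hh_smul_left hF, ha, hba, mul_zero, add_zero]
    have hN : hh (w + (a + r • b)) (w + (a + r • b)) = hh w w := by
      generalize a + r • b = d at hdd hdw ⊢
      rw [hh_add_left hF, hh_add_right hF, hh_add_right hF, hdd, hdw, hh_comm_zero hF hdw]; ring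
    exact ⟨a + r • b, Or.inl ⟨hdu, hdd, fun h => by rw [h, hh_zero_left hF] at hda; exact zero_ne_one hda, hN,
      fun h => by rw [h, hh_zero_left hF] at hN; exact hww hN.symm⟩⟩
  -- the perpendicular space of an anisotropic centre or axis
  have hfill : ∀ (R : (Fin n → F) → Prop) (u : Fin n → F), hh u u ≠ 0 →
      (∀ a b, R a → R b → R (a + b)) → R 0 → (∀ a, R a → R (-a)) →
      (∀ k ∈ L, k ∈ Cfsg.GU n F q → (k : Matrix (Fin n) (Fin n) F) *ᵥ u = u → ∀ a, R a →
        R ((k : Matrix (Fin n) (Fin n) F) *ᵥ a)) →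
      ∀ w, w ≠ 0 → hh w u = 0 → R w → ∀ x, hh x u = 0 → R x := by
    intro R u hu hadd h0 hneg hinv w hw0 hwu hw x hx
    obtain ⟨d, hdu, hd0, hdd, hd⟩ : ∃ d, hh d u = 0 ∧ d ≠ 0 ∧ hh d d = 0 ∧ R d := by
      obtain ⟨d, ⟨hdu, hdd, hd0, hN, hne⟩ | ⟨rfl, hww⟩⟩ := hiso u hu w hwu hw0
      · refine ⟨d, hdu, hd0, hdd, ?_⟩
        obtain ⟨k, hk, hkU, hku, hkw⟩ := hmove u hu w (w + d) hwu
          (by rw [hh_add_left hF, hwu, hdu, add_zero]) hw0 hne hN.symm
        have h1 := hadd _ _ (hinv k hk hkU hku w hw) (hneg w hw)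
        rwa [hkw, add_neg_cancel_comm] at h1
      · exact ⟨d, hwu, hw0, hww, hw⟩
    have hall : ∀ a, hh a u = 0 → hh a a = 0 → R a := fun a hau haa => by
      rcases eq_or_ne a 0 with rfl | ha0
      · exact h0
      obtain ⟨k, hk, hkU, hku, rfl⟩ := hmove u hu d a hdu hau hd0 ha0 (hdd.trans haa.symm)
      exact hinv k hk hkU hku d hd
    let A : AddSubgroup (Fin n → F) := AddSubgroup.closure {a | hh a u = 0 ∧ hh a a = 0}
    have hAR : ∀ a ∈ A, R a := fun a ha => by
      induction ha using AddSubgroup.closure_induction with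
      | mem a ha => exact hall a ha.1 ha.2
      | zero => exact h0
      | add a b _ _ ha hb => exact hadd a b ha hb
      | neg a _ ha => exact hneg a ha
    let M : Submodule F (Fin n → F) :=
      { A with
        smul_mem' := fun c a ha => by
          induction ha using AddSubgroup.closure_induction with
          | mem a ha => exact AddSubgroup.subset_closure ⟨by rw [hh_smul_left hF, ha.1, mul_zero],
              by rw [hh_smul_left hF, hh_smul_right hF, ha.2, mul_zero, mul_zero]⟩
          | zero => rw [smul_zero]; exact A.zero_mem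
          | add a b _ _ ha hb => rw [smul_add]; exact A.add_mem ha hb
          | neg a _ ha => rw [smul_neg]; exact A.neg_mem ha }
    have hXn : NonDeg q (perp (hermB n hF) (Submodule.span F {u})) := nonDeg_perp hF fun z hz hz' => by
      obtain ⟨c, rfl⟩ := Submodule.mem_span_singleton.mp hz
      have h1 := hz' u (Submodule.mem_span_singleton_self u)
      rw [hh_smul_left hF] at h1
      rw [(mul_eq_zero.mp h1).resolve_right hu, zero_smul]
    refine hAR x (mem_of_iso_mem hF hXn ?_ (A := M) (fun a ha haa => ?_) ((mem_perp_single hF).mpr hx))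
    · have h1 := hI.finrank_perp (Submodule.span F {u})
      have h2 : Module.finrank F (Submodule.span F {u}) ≤ 1 := (finrank_span_le_card {u}).trans (by simp)
      rw [Module.finrank_pi, Fintype.card_fin] at h1
      omega
    · exact AddSubgroup.subset_closure ⟨(mem_perp_single hF).mp ha, haa⟩
  have hnegR : ∀ v w, Pr v w → Pr v (-w) := by
    rintro v w ⟨h, h1⟩
    have h' : hh v (-w) = 0 := by rw [← neg_one_smul F w, hh_smul_right hF, h, mul_zero]
    refine ⟨h', ?_⟩
    rw [show hT hF v (-w) h' = (hT hF v w h)⁻¹ from eq_inv_of_mul_eq_one_left (gl_ext fun x => by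
      rw [Units.val_mul, ← Matrix.mulVec_mulVec, hT_mulVec, hT_mulVec, hh_add_left hF, hh_smul_left hF, h', mul_zero,
        add_zero, Units.val_one, Matrix.one_mulVec, ← neg_one_smul F w, hh_smul_right hF, pow_neg_q hF, one_pow]
      module)]
    exact L.inv_mem h1
  have hnegL : ∀ v w, Pr v w → Pr (-v) w := by
    intro v w h
    have h1 := hscal v (-w) (-1) (neg_ne_zero.mpr one_ne_zero) (hnegR v w h)
    rwa [neg_one_smul, inv_neg, inv_one, pow_neg_q hF, one_pow, neg_smul, one_smul, neg_neg] at h1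
  -- an anisotropic centre gives everything
  have hA : ∀ v w, hh v v ≠ 0 → w ≠ 0 → Pr v w → ∀ x y, hh x y = 0 → Pr x y := by
    intro v w hvv hw0 hvw
    have h1 : ∀ y, hh y v = 0 → Pr v y := hfill (Pr v) v hvv (haddR v) (hzero v) (hnegR v)
      (fun k hk hkU hku a ha => by have := hconj k hk hkU v a ha; rwa [hku] at this) w hw0
      (hh_comm_zero hF hvw.1) hvw
    have h2 : ∀ x, hh x x ≠ 0 → ∀ y, hh x y = 0 → Pr x y := by
      intro x hxx y hxy
      obtain ⟨r, hr⟩ := exists_norm hF (hh x x / hh v v) (by rw [div_pow, hh_self_fixed hF, hh_self_fixed hF])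
      have hr0 : r ≠ 0 := fun h => by
        rw [h, zero_mul, eq_comm, div_eq_zero_iff] at hr; exact hr.elim hxx hvv
      have hN : hh (r • v) (r • v) = hh x x := by
        rw [hh_smul_left hF, hh_smul_right hF, ← mul_assoc, hr, div_mul_cancel₀ _ hvv]
      have hv0 : v ≠ 0 := fun h => hvv (by rw [h, hh_zero_left hF])
      have hx0 : x ≠ 0 := fun h => hxx (by rw [h, hh_zero_left hF])
      obtain ⟨k, hk, -, hkx⟩ := exists_good_map hF (nonDeg_top hF) (Y := ⊤) (Submodule.mem_top (x := r • v))
        (Submodule.mem_top (x := x)) (smul_ne_zero hr0 hv0) hx0 hN (fun b _ => by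
          obtain ⟨e, he, he'⟩ := exists_unit_perp hF (S := Submodule.span F {b}) (by
            have : Module.finrank F (Submodule.span F {b}) ≤ 1 := (finrank_span_le_card {b}).trans (by simp)
            omega)
          exact ⟨e, trivial, he, hh_comm_zero hF (he' b (Submodule.mem_span_singleton_self b))⟩)
      set y' := ((k⁻¹ : GL (Fin n) F) : Matrix (Fin n) (Fin n) F) *ᵥ y
      have hy : (k : Matrix (Fin n) (Fin n) F) *ᵥ y' = y := by
        rw [Matrix.mulVec_mulVec, ← Units.val_mul, mul_inv_cancel, Units.val_one, Matrix.one_mulVec]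
      have hy' : hh (r • v) y' = 0 := by rw [← mem_GU_iff.mp hk.1, hkx, hy, hxy]
      have h3 := hscal v (r ^ q • y') r hr0 (h1 _ (by
        rw [hh_smul_left hF] at hy'
        rw [hh_smul_left hF, hh_comm_zero hF ((mul_eq_zero.mp hy').resolve_left hr0), mul_zero]))
      rw [smul_smul, ← mul_pow, inv_mul_cancel₀ hr0, one_pow, one_smul] at h3
      have h4 := hconj k (hSU hk) hk.1 _ _ h3
      rwa [hkx, hy] at h4
    intro x y hxy
    by_cases hxx : hh x x = 0
    swap
    · exact h2 x hxx y hxy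
    obtain ⟨d, hdd, hd⟩ := exists_unit_perp hF (S := Submodule.span F {x} ⊔ Submodule.span F {y})
      (by have := finrank_pair_le hF x y; omega)
    have hdx := hd x (Submodule.mem_sup_left (Submodule.mem_span_singleton_self x))
    have hdy := hd y (Submodule.mem_sup_right (Submodule.mem_span_singleton_self y))
    have hN : hh (x - d) (x - d) = 1 := by
      rw [hh_sub_left hF, hh_sub_right hF, hh_sub_right hF, hxx, hdd, hdx, hh_comm_zero hF hdx]; ring
    have := haddL _ _ y (h2 d (by rw [hdd]; exact one_ne_zero) y hdy)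
      (h2 (x - d) (by rw [hN]; exact one_ne_zero) y (by rw [hh_sub_left hF, hxy, hdy, sub_zero]))
    rwa [add_sub_cancel] at this
  -- an anisotropic axis gives an anisotropic centre
  have hB : ∀ v w, hh w w ≠ 0 → v ≠ 0 → Pr v w → ∀ x y, hh x y = 0 → Pr x y := by
    intro v w hww hv0 hvw
    obtain ⟨x, hxx, hxw⟩ := exists_unit_perp hF (S := Submodule.span F {w}) (by
      have : Module.finrank F (Submodule.span F {w}) ≤ 1 := (finrank_span_le_card {w}).trans (by simp)
      omega)
    have hw0 : w ≠ 0 := fun h => hww (by rw [h, hh_zero_left hF])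
    refine hA x w (by rw [hxx]; exact one_ne_zero) hw0 (hfill (Pr · w) w hww (fun a b => haddL a b w) (hzero' w)
      (fun a => hnegL a w) (fun k hk hkU hku a ha => by have := hconj k hk hkU a w ha; rwa [hku] at this) v hv0
      hvw.1 hvw x (hxw w (Submodule.mem_span_singleton_self w)))
  suffices hall : ∀ x y, hh x y = 0 → Pr x y by
    refine specialLinear_le_of_fT (fun φ v hφ => ?_) hι
    obtain ⟨z, hz⟩ := hI.exists_right φ
    have hz' : ∀ x, hh x z = φ x := fun x => by
      have h1 : hh z x = φ x ^ q := hz x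
      rw [← hh_conj hF z x, h1, pow_q_q hF]
    obtain ⟨h, h1⟩ := hall v z ((hz' v).trans hφ)
    rwa [show fT φ v hφ = hT hF v z h from gl_ext fun x => by rw [fT_mulVec, hT_mulVec, hz']]
  -- two independent vectors
  have hind : ∀ v w, v ≠ 0 → w ∉ Submodule.span F {v} → Pr v w → ∀ x y, hh x y = 0 → Pr x y := by
    intro v w hv0 hw hvw
    by_cases hvv : hh v v = 0
    swap
    · exact hA v w hvv (fun h => hw (h ▸ Submodule.zero_mem _)) hvw
    by_cases hww : hh w w = 0
    swap
    · exact hB v w hww hv0 hvw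
    have hwv : hh w v = 0 := hh_comm_zero hF hvw.1
    obtain ⟨t, ht⟩ := exists_trace_one hF
    obtain ⟨d, -, hdv, hdw⟩ := pairing_in hF (nonDeg_top hF) (X := ⊤) (Submodule.mem_top (x := v))
      (Submodule.mem_top (x := w)) hw t
    have ht0 : t ≠ 0 := fun h => by rw [h, zero_pow hq0, add_zero] at ht; exact zero_ne_one ht
    obtain ⟨a, ha⟩ := exists_adjust hF hww (by rw [hdw]; exact ht0) (zero_pow_q hF)
    obtain ⟨w2, ha, hw2v, hw2w⟩ : ∃ w2, hh w2 w2 = 0 ∧ hh w2 v = 0 ∧ hh w2 w = t :=
      ⟨d + a • w, ha, by rw [hh_add_left hF, hh_smul_left hF, hdv, hwv, mul_zero, add_zero],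
        by rw [hh_add_left hF, hh_smul_left hF, hdw, hww, mul_zero, add_zero]⟩
    obtain ⟨e, hee, he⟩ := exists_unit_perp hF (S := Submodule.span F {v} ⊔ Submodule.span F {w2})
      (by have := finrank_pair_le hF v w2; omega)
    set X := perp (hermB n hF) (Submodule.span F {v})
    obtain ⟨k, hk1, hk2, hkw⟩ := exists_good_step hF (X := X) (Y := X) ((mem_perp_single hF).mpr hwv)
      ((mem_perp_single hF).mpr hw2v) (hww.trans ha.symm)
      (by rw [hww]; intro h; exact ht0 (hw2w.symm.trans (hh_comm_zero hF h)))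
      ⟨e, (mem_perp_single hF).mpr (he v (Submodule.mem_sup_left (Submodule.mem_span_singleton_self v))), hee,
        hh_comm_zero hF (he w2 (Submodule.mem_sup_right (Submodule.mem_span_singleton_self w2)))⟩
    have hkv : (k : Matrix (Fin n) (Fin n) F) *ᵥ v = v := hk2.2.1 v
      (fun x hx => hh_comm_zero hF ((mem_perp_single hF).mp hx)) (fun x hx => hh_comm_zero hF ((mem_perp_single hF).mp hx))
    have h1 := hconj k (hSU ⟨hk2.1, hk1⟩) hk2.1 v w hvw
    rw [hkv, hkw] at h1
    refine hB v (w + w2) ?_ hv0 (haddR v w w2 hvw h1)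
    rw [hh_add_left hF, hh_add_right hF, hh_add_right hF, hww, ha, hw2w, ← hh_conj hF w2 w, hw2w, zero_add, add_zero,
      add_comm, ht]
    exact one_ne_zero
  -- a transvection of L that is not unitary
  let G := Matrix.toLin' (g : Matrix (Fin n) (Fin n) F)
  let G' := Matrix.toLin' ((g⁻¹ : GL (Fin n) F) : Matrix (Fin n) (Fin n) F)
  have hGG : ∀ x, G' (G x) = x := fun x => by
    simp only [G, G', Matrix.toLin'_apply, Matrix.mulVec_mulVec, ← Units.val_mul, inv_mul_cancel, Units.val_one,
      Matrix.one_mulVec]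
  have hGG' : ∀ x, G (G' x) = x := fun x => by
    simp only [G, G', Matrix.toLin'_apply, Matrix.mulVec_mulVec, ← Units.val_mul, mul_inv_cancel, Units.val_one,
      Matrix.one_mulVec]
  have hψ : ∀ z, ∃ w, ∀ x, hh x w = hh (G' x) z := fun z => by
    obtain ⟨w, hw⟩ := hI.exists_right ((hermB n hF z).comp G')
    refine ⟨w, fun x => ?_⟩
    have h1 : hh w x = (hh (G' x) z) ^ q := hw x
    rw [← hh_conj hF w x, h1, pow_q_q hF]
  choose ψ hψ using hψ
  have huniq : ∀ a b : Fin n → F, (∀ x, hh x a = hh x b) → a = b := fun a b h => by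
    refine sub_eq_zero.mp (nonDeg_top hF (a - b) trivial fun x _ => hh_comm_zero hF ?_)
    rw [hh_sub_right hF, h, sub_self]
  obtain ⟨τ, hτ0, hτ⟩ := exists_trace_zero hF
  have hPr : ∀ z, hh z z = 0 → Pr (G z) (τ ^ q • ψ z) := by
    intro z hzz
    have h0 : hh (G z) (τ ^ q • ψ z) = 0 := by rw [hh_smul_right hF, hψ, hGG, hzz, mul_zero]
    refine ⟨h0, ?_⟩
    rw [show hT hF _ _ h0 = g * uT z τ hzz * g⁻¹ from gl_ext fun x => by
      rw [Units.val_mul, Units.val_mul, ← Matrix.mulVec_mulVec, ← Matrix.mulVec_mulVec, uT_mulVec, hT_mulVec,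
        hh_smul_right hF, pow_q_q hF, hψ, Matrix.mulVec_add, Matrix.mulVec_smul]
      simp only [G, G', Matrix.toLin'_apply, Matrix.mulVec_mulVec, ← Units.val_mul, mul_inv_cancel, Units.val_one,
        Matrix.one_mulVec]]
    exact L.mul_mem (L.mul_mem hg (hSU (uT_mem hF z τ hzz hτ))) (L.inv_mem hg)
  have hG0 : ∀ z, z ≠ 0 → G z ≠ 0 := fun z hz h => hz (by rw [← hGG z, h, map_zero])
  by_cases hpar : ∀ z, z ≠ 0 → hh z z = 0 → hh (G z) (G z) = 0 ∧ ψ z ∈ Submodule.span F {G z}
  swap
  · push_neg at hpar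
    obtain ⟨z, hz0, hzz, hz⟩ := hpar
    refine hind (G z) (τ ^ q • ψ z) (hG0 z hz0) (fun h => ?_) (hPr z hzz)
    rw [Submodule.smul_mem_iff _ (pow_ne_zero _ hτ0)] at h
    by_cases hGz : hh (G z) (G z) = 0
    · exact hz hGz h
    obtain ⟨c, hc⟩ := Submodule.mem_span_singleton.mp h
    have h1 : hh (G z) (ψ z) = 0 := by rw [hψ, hGG, hzz]
    rw [← hc, hh_smul_right hF] at h1
    rcases mul_eq_zero.mp h1 with h2 | h2
    · have hc0 : c = 0 := pow_eq_zero_iff hq0 |>.mp h2
      rw [hc0, zero_smul] at hc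
      exact hz0 (nonDeg_top hF z trivial fun x _ => by
        have h3 := hψ z (G x)
        rw [hGG, ← hc, hh_zero_right hF] at h3
        exact hh_comm_zero hF h3.symm)
    · exact hGz h2
  -- every isotropic vector is an eigenvector of the adjoint
  exfalso
  refine hg' ?_
  have hψadd : ∀ a b, ψ (a + b) = ψ a + ψ b := fun a b => huniq _ _ fun x => by
    rw [hψ, hh_add_right hF, hh_add_right hF, hψ, hψ]
  have hψsmul : ∀ (c : F) a, ψ (c • a) = c • ψ a := fun c a => huniq _ _ fun x => by
    rw [hψ, hh_smul_right hF, hh_smul_right hF, hψ]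
  choose! a ha using fun z (hz : z ≠ 0 ∧ hh z z = 0) => Submodule.mem_span_singleton.mp (hpar z hz.1 hz.2).2
  have hlink : ∀ z z', hh z z = 0 → hh z' z' = 0 → hh z' z ≠ 0 → a z = a z' := by
    intro z z' hz hz' hne
    have hz0 : z ≠ 0 := fun h => hne (by rw [h, hh_zero_right hF])
    have hz'0 : z' ≠ 0 := fun h => hne (by rw [h, hh_zero_left hF])
    set b := τ / hh z' z with hb
    have hb0 : b ≠ 0 := div_ne_zero hτ0 hne
    have hu : hh (z + b • z') (z + b • z') = 0 := by
      simp only [hh_add_left hF, hh_add_right hF, hh_smul_left hF, hh_smul_right hF, hz, hz', ← hh_conj hF z' z]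
      rw [← mul_pow, hb, div_mul_cancel₀ _ hne]
      linear_combination hτ
    have hu0 : z + b • z' ≠ 0 := fun h => by
      have h1 := congrArg (fun x => hh x z) h
      simp only [hh_add_left hF, hh_smul_left hF, hz, zero_add, hh_zero_left hF] at h1
      exact mul_ne_zero hb0 hne h1
    have h1 := ha _ ⟨hu0, hu⟩
    rw [hψadd, hψsmul, ← ha z ⟨hz0, hz⟩, ← ha z' ⟨hz'0, hz'⟩, map_add, map_smul] at h1
    have h2 : (a (z + b • z') - a z) • z + (b * (a (z + b • z') - a z')) • z' = 0 := by
      have := congrArg G' h1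
      simp only [map_add, map_smul, hGG] at this
      linear_combination (norm := module) this
    have h3 := congrArg (fun x => hh x z) h2
    have h4 := congrArg (fun x => hh x z') h2
    simp only [hh_add_left hF, hh_smul_left hF, hz, hz', mul_zero, zero_add, add_zero, hh_zero_left hF] at h3 h4
    have h5 : hh z z' ≠ 0 := fun h => hne (hh_comm_zero hF h)
    have e1 := (mul_eq_zero.mp h4).resolve_right h5
    have e2 := ((mul_eq_zero.mp h3).resolve_right hne)
    have e3 := (mul_eq_zero.mp e2).resolve_left hb0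
    linear_combination e3 - e1
  obtain ⟨p, -, f, -, hpp, hff, hfp, hpf⟩ := exists_isotropic_pair hF (nonDeg_top (n := n) hF)
    (by rw [finrank_top, Module.finrank_pi, Fintype.card_fin]; omega)
  have hp0 : p ≠ 0 := fun h => by rw [h, hh_zero_right hF] at hfp; exact zero_ne_one hfp
  have hconst : ∀ z, z ≠ 0 → hh z z = 0 → a z = a p := by
    intro z hz0 hzz
    by_cases h : hh p z = 0
    · obtain ⟨v, -, hvv, hv1, hv2⟩ := exists_iso_pairing hF (nonDeg_top hF) (X := ⊤) (Submodule.mem_top (x := z))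
        (Submodule.mem_top (x := p)) hz0 hp0 hzz h
      exact (hlink z v hzz hvv hv1).trans (hlink p v hpp hvv hv2).symm
    · exact hlink z p hzz hpp h
  let E : Submodule F (Fin n → F) :=
    { carrier := {z | ψ z = a p • G z}
      add_mem' := fun {x y} hx hy => by
        show ψ (x + y) = _
        rw [hψadd, show ψ x = _ from hx, show ψ y = _ from hy, map_add, smul_add]
      zero_mem' := by
        show ψ 0 = _
        rw [map_zero, smul_zero, ← zero_smul F (0 : Fin n → F), hψsmul, zero_smul, zero_smul]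
      smul_mem' := fun c x hx => by
        show ψ (c • x) = _
        rw [hψsmul, show ψ x = _ from hx, map_smul, smul_comm] }
  have hE : ⊤ ≤ E := mem_of_iso_mem hF (nonDeg_top hF)
    (by rw [finrank_top, Module.finrank_pi, Fintype.card_fin]; omega) fun z _ hzz => by
      show ψ z = _
      rcases eq_or_ne z 0 with rfl | hz0
      · rw [map_zero, smul_zero, ← zero_smul F (0 : Fin n → F), hψsmul, zero_smul, zero_smul]
      · rw [← hconst z hz0 hzz]; exact (ha z ⟨hz0, hzz⟩).symm
  have hsim : ∀ x z, hh x z = a p ^ q * hh (G x) (G z) := fun x z => by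
    conv_lhs => rw [← hGG x]
    rw [← hψ z (G x), show ψ z = _ from hE (Submodule.mem_top (x := z)), hh_smul_right hF]
  have hap : a p ^ q ≠ 0 := fun h => by
    have h1 := hsim f p
    rw [h, zero_mul, hfp] at h1
    exact one_ne_zero h1
  refine ⟨(Units.mk0 _ hap)⁻¹, fun x z => ?_⟩
  rw [Units.val_inv_eq_inv_val, Units.val_mk0, hsim x z, ← mul_assoc, inv_mul_cancel₀ hap, one_mul]
  rfl

end Cfsg.Agent.GeomClasses.Unitary
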