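import Cfsg.Agent.GeomClasses.UnitaryGen
import Cfsg.Agent.S0780

/-! # Maximality of subspace stabilisers in special unitary groups -/

set_option autoImplicit false

namespace Cfsg.Agent.GeomClasses.Unitary

open Matrix Cfsg.Agent.Forms

variable {F : Type*} [Field F] [Fintype F] {q n : ℕ} (hF : Fintype.card F = q ^ 2)

local notation "hh" => Cfsg.hermForm n F q

include hF

theorem SU_le_of_uT (hn : 4 ≤ n) {K : Subgroup (GL (Fin n) F)}
    (h : ∀ (v : Fin n → F) (c : F) (hv : hh v v = 0), c + c ^ q = 0 → uT v c hv ∈ K) : SUgl n F q ≤ K := by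
  classical
  let f : ↥(Cfsg.SU n F q) →* GL (Fin n) F := Matrix.SpecialLinearGroup.toGL.comp (Subgroup.subtype _)
  have htop : K.comap f = ⊤ := by
    rw [eq_top_iff, ← Cfsg.Agent.S0780.result hF n (by omega) (by omega), Subgroup.closure_le]
    rintro A ⟨v, c, hv, hA⟩
    rw [SetLike.mem_coe, Subgroup.mem_comap]
    have hAx : ∀ x, ((A : Matrix.SpecialLinearGroup (Fin n) F) : Matrix (Fin n) (Fin n) F) *ᵥ x = x + (c * hh x v) • v := fun x => by
      rw [hA, Cfsg.unitaryTransvection, Matrix.add_mulVec, Matrix.one_mulVec, Matrix.smul_mulVec,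
        Matrix.vecMulVec_mulVec, op_smul_eq_smul, smul_smul, dot_conj]
    rcases eq_or_ne v 0 with rfl | hv0
    · have : f A = 1 := Units.ext (matrix_ext_mulVec fun x => by
        rw [Units.val_one, Matrix.one_mulVec]; exact (hAx x).trans (by rw [smul_zero, add_zero]))
      rw [this]; exact K.one_mem
    obtain ⟨x, hx⟩ := (isForm_herm (n := n) hF).exists_pairing hv0 (1 : F)
    have hvx : hh x v = 1 ∨ hh v x = 1 := by
      first | exact Or.inl hx | exact Or.inr hx
    have hxv : hh x v = 1 ∧ hh v x = 1 := by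
      rcases hvx with h | h
      · exact ⟨h, by rw [← hh_conj hF x v, h, one_pow]⟩
      · exact ⟨by rw [← hh_conj hF v x, h, one_pow], h⟩
    have hc : c + c ^ q = 0 := by
      have h1 : hh (((A : Matrix.SpecialLinearGroup (Fin n) F) : Matrix (Fin n) (Fin n) F) *ᵥ x)
          (((A : Matrix.SpecialLinearGroup (Fin n) F) : Matrix (Fin n) (Fin n) F) *ᵥ x) = hh x x := A.2 x x
      rw [hAx, hxv.1, mul_one] at h1
      simp only [hh_add_left hF, hh_add_right hF, hh_smul_left hF, hh_smul_right hF, hv, hxv.1, hxv.2] at h1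
      linear_combination h1
    have : f A = uT v c hv := Units.ext (matrix_ext_mulVec fun x => by rw [uT_mulVec]; exact hAx x)
    rw [this]; exact h v c hv hc
  intro g hg
  let A : Matrix.SpecialLinearGroup (Fin n) F := ⟨(g : Matrix (Fin n) (Fin n) F), mem_specialLinear_iff.mp hg.2⟩
  have hA : A ∈ Cfsg.SU n F q := fun u v => mem_GU_iff.mp hg.1 u v
  have hmem : (⟨A, hA⟩ : ↥(Cfsg.SU n F q)) ∈ K.comap f := htop ▸ Subgroup.mem_top _
  have : f ⟨A, hA⟩ = g := Units.ext rfl
  rwa [Subgroup.mem_comap, this] at hmem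

theorem nonDeg_top : NonDeg q (⊤ : Submodule F (Fin n → F)) := by
  intro u _ hu
  by_contra h0
  obtain ⟨d, hd⟩ := (isForm_herm (n := n) hF).exists_pairing h0 (1 : F)
  have h1 := hu d trivial
  have h2 := hh_comm_zero hF h1
  have hd' : hh d u = 1 ∨ hh u d = 1 := by first | exact Or.inl hd | exact Or.inr hd
  rw [h1, h2] at hd'
  exact zero_ne_one (or_self_iff.mp hd')

theorem nonDeg_perp {W : Submodule F (Fin n → F)} (hW : NonDeg q W) : NonDeg q (perp (hermB n hF) W) := fun u hu h =>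
  (isForm_herm (n := n) hF).perp_nondeg (nonDeg_B hF hW) u hu fun v hv => hh_comm_zero hF (h v hv)

/-- A vector adjusted along an isotropic vector to a prescribed norm. -/
theorem exists_adjust {x e : Fin n → F} (he : hh e e = 0) (hxe : hh x e ≠ 0) {μ : F} (hμ : μ ^ q = μ) :
    ∃ a : F, hh (x + a • e) (x + a • e) = μ := by
  obtain ⟨t, ht⟩ := exists_trace_one hF
  refine ⟨(μ - hh x x) * t / hh e x, ?_⟩
  have hex : hh e x ≠ 0 := fun h => hxe (hh_comm_zero hF h)
  set b := (μ - hh x x) * t / hh e x with hb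
  have h1 : b * hh e x = (μ - hh x x) * t := div_mul_cancel₀ _ hex
  have h2 : b ^ q * hh x e = (μ - hh x x) * t ^ q := by
    rw [← hh_conj hF e x, ← mul_pow, h1, mul_pow, pow_sub_q hF, hμ, hh_self_fixed hF]
  simp only [hh_add_left hF, hh_add_right hF, hh_smul_left hF, hh_smul_right hF, he]
  linear_combination h1 + h2 + (μ - hh x x) * ht

theorem exists_iso_pairing {X : Submodule F (Fin n → F)} (hX : NonDeg q X) {u z : Fin n → F} (hu : u ∈ X)
    (hz : z ∈ X) (hu0 : u ≠ 0) (hz0 : z ≠ 0) (huu : hh u u = 0) (hzu : hh z u = 0) :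
    ∃ v ∈ X, hh v v = 0 ∧ hh v u ≠ 0 ∧ hh v z ≠ 0 := by
  obtain ⟨r, hr, hru, hrz⟩ : ∃ r ∈ X, hh r u = 1 ∧ hh r z ≠ 0 := by
    obtain ⟨r, hr, hru⟩ := pairing_one hF hX hu hu0 1
    by_cases hzs : z ∈ Submodule.span F {u}
    · obtain ⟨c, rfl⟩ := Submodule.mem_span_singleton.mp hzs
      refine ⟨r, hr, hru, ?_⟩
      rw [hh_smul_right hF, hru, mul_one]
      exact pow_ne_zero _ fun h => hz0 (by rw [h, zero_smul])
    by_cases hrz : hh r z = 0
    · obtain ⟨p, hp, hpu, hpz⟩ := pairing_in hF hX hu hz hzs 1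
      refine ⟨r + p, X.add_mem hr hp, by rw [hh_add_left hF, hru, hpu, add_zero], ?_⟩
      rw [hh_add_left hF, hrz, hpz, zero_add]
      exact one_ne_zero
    · exact ⟨r, hr, hru, hrz⟩
  obtain ⟨a, ha⟩ := exists_adjust hF huu (by rw [hru]; exact one_ne_zero) (zero_pow_q hF)
  refine ⟨r + a • u, X.add_mem hr (X.smul_mem _ hu), ha, ?_, ?_⟩
  · rw [hh_add_left hF, hh_smul_left hF, huu, hru, mul_zero, add_zero]; exact one_ne_zero
  · rw [hh_add_left hF, hh_smul_left hF, hh_comm_zero hF hzu, mul_zero, add_zero]; exact hrz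

/-! ## Pseudo-reflections and transitivity -/

/-- The pseudo-reflection with centre a unit vector `u`. -/
theorem exists_refl {u : Fin n → F} (huu : hh u u = 1) {l : F} (hl : l * l ^ q = 1) :
    ∃ g : GL (Fin n) F, g ∈ Cfsg.GU n F q ∧ (g : Matrix (Fin n) (Fin n) F).det = l ∧
      ∀ y, (g : Matrix (Fin n) (Fin n) F) *ᵥ y = y + ((l - 1) * hh y u) • u := by
  classical
  have hdet : (1 + vecMulVec ((l - 1) • u) (fun j => u j ^ q) : Matrix (Fin n) (Fin n) F).det = l := by
    rw [Matrix.vecMulVec_eq Unit, Matrix.det_one_add_replicateCol_mul_replicateRow, dotProduct_smul, dot_conj, huu,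
      smul_eq_mul, mul_one, add_sub_cancel]
  have hl0 : l ≠ 0 := left_ne_zero_of_mul_eq_one hl
  have hmul : ∀ y, (1 + vecMulVec ((l - 1) • u) (fun j => u j ^ q) : Matrix (Fin n) (Fin n) F) *ᵥ y
      = y + ((l - 1) * hh y u) • u := fun y => by
    rw [Matrix.add_mulVec, Matrix.one_mulVec, Matrix.vecMulVec_mulVec, op_smul_eq_smul, dot_conj, smul_smul, mul_comm]
  refine ⟨Matrix.GeneralLinearGroup.mkOfDetNeZero _ (hdet.symm ▸ hl0), ?_, hdet, hmul⟩
  refine mem_GU_iff.mpr fun a b => ?_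
  show hh (_ *ᵥ a) (_ *ᵥ b) = _
  erw [hmul, hmul]
  simp only [hh_add_left hF, hh_add_right hF, hh_smul_left hF, hh_smul_right hF, huu, mul_pow, hh_conj hF,
    pow_sub_q hF, one_pow]
  linear_combination (hh a u * hh u b) * hl

omit hF in
variable (q) in
/-- An element of the special unitary group acting through `X` and `Y`. -/
def Good (X Y : Submodule F (Fin n → F)) (g : GL (Fin n) F) : Prop :=
  g ∈ Cfsg.GU n F q ∧ (∀ y, (∀ x ∈ X, hh y x = 0) → (∀ x ∈ Y, hh y x = 0) → (g : Matrix (Fin n) (Fin n) F) *ᵥ y = y) ∧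
    ∀ Z : Submodule F (Fin n → F), (X ≤ Z ∨ ∀ x ∈ X, ∀ z ∈ Z, hh z x = 0) → (Y ≤ Z ∨ ∀ x ∈ Y, ∀ z ∈ Z, hh z x = 0) →
      g ∈ Cfsg.Geo.subspaceStabilizer Z

omit hF in
theorem good_mul {X Y : Submodule F (Fin n → F)} {g g' : GL (Fin n) F} (h : Good q X Y g) (h' : Good q X Y g') :
    Good q X Y (g * g') :=
  ⟨mul_mem h.1 h'.1, fun y hy hy' => by rw [Units.val_mul, ← Matrix.mulVec_mulVec, h'.2.1 y hy hy', h.2.1 y hy hy'],
    fun Z hZ hZ' => mul_mem (h.2.2 Z hZ hZ') (h'.2.2 Z hZ hZ')⟩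

omit hF in
theorem good_of_formula {X Y : Submodule F (Fin n → F)} {g : GL (Fin n) F} (hg : g ∈ Cfsg.GU n F q) {d : Fin n → F}
    (hd : d ∈ X ∨ d ∈ Y) {c : F} (h : ∀ y, (g : Matrix (Fin n) (Fin n) F) *ᵥ y = y + (c * hh y d) • d) :
    Good q X Y g := by
  refine ⟨hg, fun y hy hy' => ?_, fun Z hZ hZ' => mem_subspaceStabilizer_iff.mpr fun z hz => ?_⟩
  · rw [h, hd.elim (hy d) (hy' d), mul_zero, zero_smul, add_zero]
  · rw [h]
    have : d ∈ Z ∨ hh z d = 0 := by
      rcases hd with hd | hd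
      · exact hZ.imp (fun h => h hd) (fun h => h d hd z hz)
      · exact hZ'.imp (fun h => h hd) (fun h => h d hd z hz)
    rcases this with h' | h'
    · exact Z.add_mem hz (Z.smul_mem _ h')
    · rw [h', mul_zero, zero_smul, add_zero]; exact hz

theorem exists_good_step {X Y : Submodule F (Fin n → F)} {a a' : Fin n → F} (ha : a ∈ X) (ha' : a' ∈ X)
    (hN : hh a a = hh a' a') (hne : hh a a' ≠ hh a a) (hY : ∃ e ∈ Y, hh e e = 1 ∧ hh a' e = 0) :
    ∃ g, g ∈ Cfsg.Geo.specialLinear (Fin n) F ∧ Good q X Y g ∧ (g : Matrix (Fin n) (Fin n) F) *ᵥ a = a' := by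
  set d := a' - a with hd
  set x := hh a d with hx
  have hx0 : x ≠ 0 := by rw [hx, hd, hh_sub_right hF, sub_ne_zero]; exact hne
  have hsum : hh d d + x + x ^ q = 0 := by
    rw [hx, hh_conj hF, hd, hh_sub_right hF, hh_sub_left hF, hh_sub_left hF, hh_sub_right hF, ← hN]
    ring
  by_cases hdd : hh d d = 0
  · have hc : x⁻¹ + x⁻¹ ^ q = 0 := trace_zero_inv hF (by linear_combination hsum - hdd)
    refine ⟨uT d x⁻¹ hdd, (uT_mem hF d _ hdd hc).2,
      good_of_formula (uT_mem hF d _ hdd hc).1 (Or.inl (X.sub_mem ha' ha)) (uT_mulVec d _ hdd), ?_⟩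
    rw [uT_mulVec, ← hx, inv_mul_cancel₀ hx0, one_smul, hd, add_sub_cancel]
  · obtain ⟨r, hr⟩ := exists_norm hF (hh d d)⁻¹ (by rw [inv_pow, hh_self_fixed hF])
    have hu : hh (r • d) (r • d) = 1 := by
      rw [hh_smul_left hF, hh_smul_right hF, ← mul_assoc, hr, inv_mul_cancel₀ hdd]
    have hl : (1 + hh d d / x) * (1 + hh d d / x) ^ q = 1 := by
      rw [pow_add_q hF, one_pow, div_pow, hh_self_fixed hF]
      have hxq : x ^ q ≠ 0 := pow_ne_zero _ hx0
      field_simp
      linear_combination (hh d d) * hsum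
    obtain ⟨e, he, hee, hae⟩ := hY
    obtain ⟨g1, hg1, hd1, hg1v⟩ := exists_refl hF hu hl
    obtain ⟨g2, hg2, hd2, hg2v⟩ := exists_refl hF hee (l := (1 + hh d d / x)⁻¹) (by rw [inv_pow, ← mul_inv, hl, inv_one])
    refine ⟨g2 * g1, mem_specialLinear_iff.mpr ?_,
      good_mul (good_of_formula hg2 (Or.inr he) hg2v)
        (good_of_formula hg1 (Or.inl (X.smul_mem _ (X.sub_mem ha' ha))) hg1v), ?_⟩
    · rw [Units.val_mul, Matrix.det_mul, hd1, hd2, inv_mul_cancel₀ (left_ne_zero_of_mul_eq_one hl)]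
    · have h1 : (g1 : Matrix (Fin n) (Fin n) F) *ᵥ a = a' := by
        have hc : (1 + hh d d / x - 1) * (r ^ q * x) * r = 1 := by
          field_simp
          linear_combination (norm := (field_simp; ring)) (hh d d) * hr
        rw [hg1v, hh_smul_right hF, ← hx, smul_smul, hc, one_smul, hd, add_sub_cancel]
      rw [Units.val_mul, ← Matrix.mulVec_mulVec, h1, hg2v, hae, mul_zero, zero_smul, add_zero]

theorem exists_good_map {X Y : Submodule F (Fin n → F)} (hX : NonDeg q X) {a a' : Fin n → F} (ha : a ∈ X)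
    (ha' : a' ∈ X) (ha0 : a ≠ 0) (ha'0 : a' ≠ 0) (hN : hh a a = hh a' a')
    (hY : ∀ b ∈ X, ∃ e ∈ Y, hh e e = 1 ∧ hh b e = 0) :
    ∃ g ∈ SUgl n F q, Good q X Y g ∧ (g : Matrix (Fin n) (Fin n) F) *ᵥ a = a' := by
  suffices h : ∃ g, g ∈ Cfsg.Geo.specialLinear (Fin n) F ∧ Good q X Y g ∧ (g : Matrix (Fin n) (Fin n) F) *ᵥ a = a' by
    obtain ⟨g, h1, h2, h3⟩ := h
    exact ⟨g, ⟨h2.1, h1⟩, h2, h3⟩
  by_cases hne : hh a a' = hh a a
  swap
  · exact exists_good_step hF ha ha' hN hne (hY a' ha')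
  obtain ⟨b, hb, hbb, hab, hba'⟩ : ∃ b ∈ X, hh b b = hh a a ∧ hh a b ≠ hh a a ∧ hh b a' ≠ hh b b := by
    by_cases h0 : hh a a = 0
    · obtain ⟨v, hv, hvv, hva, hva'⟩ := exists_iso_pairing hF hX ha ha' ha0 ha'0 h0
        (hh_comm_zero hF (hne.trans h0))
      exact ⟨v, hv, hvv.trans h0.symm, fun h => hva (hh_comm_zero hF (h.trans h0)), fun h => hva' (h.trans hvv)⟩
    · obtain ⟨w, hw⟩ := exists_not_fixed hF
      have hw0 : w ≠ 0 := by rintro rfl; exact hw (zero_pow_q hF)
      have hwq : w ^ q ≠ 0 := pow_ne_zero _ hw0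
      have hz : (w / w ^ q) * (w / w ^ q) ^ q = 1 := by
        rw [div_pow, pow_q_q hF]; field_simp
      have hz1 : w / w ^ q ≠ 1 := fun h => hw (div_eq_one_iff_eq hwq |>.mp h).symm
      refine ⟨(w / w ^ q) • a, X.smul_mem _ ha, by rw [hh_smul_left hF, hh_smul_right hF, ← mul_assoc, hz, one_mul],
        fun h => ?_, fun h => ?_⟩
      · rw [hh_smul_right hF] at h
        have := (mul_eq_right₀ h0).mp h
        exact hz1 (by rw [← pow_q_q hF (w / w ^ q), this, one_pow])
      · rw [hh_smul_left hF, hne, hh_smul_left hF, hh_smul_right hF, ← mul_assoc, hz, one_mul] at h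
        exact hz1 ((mul_eq_right₀ h0).mp h)
  obtain ⟨g1, h1, hg1, h1a⟩ := exists_good_step hF ha hb hbb.symm hab (hY b hb)
  obtain ⟨g2, h2, hg2, h2a⟩ := exists_good_step hF hb ha' (hbb.trans hN) hba' (hY a' ha')
  exact ⟨g2 * g1, mul_mem h2 h1, good_mul hg2 hg1, by rw [Units.val_mul, ← Matrix.mulVec_mulVec, h1a, h2a]⟩

/-! ## Centres -/

omit hF in
variable (q) in
/-- The centres of the transvections of a subgroup. -/
def IsCentre (L : Subgroup (GL (Fin n) F)) (z : Fin n → F) : Prop :=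
  ∃ hz : hh z z = 0, ∀ c, c + c ^ q = 0 → uT z c hz ∈ L

theorem isCentre_smul {L : Subgroup (GL (Fin n) F)} {z : Fin n → F} (hz : IsCentre q L z) (a : F) :
    IsCentre q L (a • z) := by
  obtain ⟨hz, h⟩ := hz
  refine ⟨by rw [hh_smul_left hF, hh_smul_right hF, hz, mul_zero, mul_zero], fun c hc => ?_⟩
  have he : uT (a • z) c (by rw [hh_smul_left hF, hh_smul_right hF, hz, mul_zero, mul_zero]) = uT z (c * (a * a ^ q)) hz := by
    refine Units.ext (matrix_ext_mulVec fun x => ?_)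
    rw [uT_mulVec, uT_mulVec, hh_smul_right hF, smul_smul]
    congr 2
    ring
  rw [he]
  refine h _ ?_
  rw [mul_pow, norm_fixed hF, ← add_mul, hc, zero_mul]

theorem isCentre_mulVec {L : Subgroup (GL (Fin n) F)} (hL : L ≤ SUgl n F q) {g : GL (Fin n) F} (hg : g ∈ L)
    {z : Fin n → F} (hz : IsCentre q L z) : IsCentre q L ((g : Matrix (Fin n) (Fin n) F) *ᵥ z) := by
  obtain ⟨hz, h⟩ := hz
  have hgz : hh ((g : Matrix (Fin n) (Fin n) F) *ᵥ z) ((g : Matrix (Fin n) (Fin n) F) *ᵥ z) = 0 := by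
    rw [mem_GU_iff.mp (hL hg).1, hz]
  refine ⟨hgz, fun c hc => ?_⟩
  have he : uT _ c hgz = g * uT z c hz * g⁻¹ := by
    rw [eq_mul_inv_iff_mul_eq]
    refine Units.ext (matrix_ext_mulVec fun x => ?_)
    rw [Units.val_mul, Units.val_mul, ← Matrix.mulVec_mulVec, ← Matrix.mulVec_mulVec, uT_mulVec, uT_mulVec,
      mem_GU_iff.mp (hL hg).1, Matrix.mulVec_add, Matrix.mulVec_smul]
  rw [he]
  exact L.mul_mem (L.mul_mem hg (h c hc)) (L.inv_mem hg)

theorem isCentre_shift {L : Subgroup (GL (Fin n) F)} (hL : L ≤ SUgl n F q) {u v : Fin n → F} (hu : IsCentre q L u)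
    (hv : IsCentre q L v) {c : F} (hc : c + c ^ q = 0) : IsCentre q L (v + (c * hh v u) • u) := by
  obtain ⟨hu, h⟩ := hu
  have := isCentre_mulVec hF hL (h c hc) hv
  rwa [uT_mulVec] at this

theorem uT_stab {W : Submodule F (Fin n → F)} {z : Fin n → F} (hz : hh z z = 0) (c : F)
    (hzW : z ∈ W ∨ z ∈ perp (hermB n hF) W) : uT z c hz ∈ Cfsg.Geo.subspaceStabilizer W := by
  rw [mem_subspaceStabilizer_iff]
  intro x hx
  rw [uT_mulVec]
  rcases hzW with h | h
  · exact W.add_mem hx (W.smul_mem _ h)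
  · rw [hh_comm_zero hF ((mem_perp_iff hF).mp h x hx), mul_zero, zero_smul, add_zero]; exact hx

theorem stab_of_perp_stab {W : Submodule F (Fin n → F)} {g : GL (Fin n) F} (hgS : g ∈ Cfsg.GU n F q)
    (hg : g ∈ Cfsg.Geo.subspaceStabilizer (perp (hermB n hF) W)) : g ∈ Cfsg.Geo.subspaceStabilizer W := by
  rw [mem_subspaceStabilizer_iff]
  intro x hx
  have hinv := mem_subspaceStabilizer_iff.mp (inv_mem hg)
  rw [← (isForm_herm (n := n) hF).perp_perp W, mem_perp_iff hF]
  intro y hy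
  have h1 := mem_GU_iff.mp hgS x (((g⁻¹ : GL (Fin n) F) : Matrix (Fin n) (Fin n) F) *ᵥ y)
  rw [Matrix.mulVec_mulVec, ← Units.val_mul, mul_inv_cancel, Units.val_one, Matrix.one_mulVec] at h1
  rw [h1]
  exact hh_comm_zero hF ((mem_perp_iff hF).mp (hinv y hy) x hx)

theorem isMaximalIn_stab {W : Submodule F (Fin n → F)} (hn : 4 ≤ n)
    (hstrict : ∃ g ∈ SUgl n F q, g ∉ Cfsg.Geo.subspaceStabilizer W)
    (hgrow : ∀ L : Subgroup (GL (Fin n) F), Cfsg.Geo.subspaceStabilizer W ⊓ SUgl n F q ≤ L → L ≤ SUgl n F q →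
      ∀ g ∈ L, g ∉ Cfsg.Geo.subspaceStabilizer W → ∀ z, hh z z = 0 → IsCentre q L z) :
    Cfsg.Geo.IsMaximalIn (SUgl n F q) (Cfsg.Geo.subspaceStabilizer W ⊓ SUgl n F q) := by
  refine ⟨lt_of_le_of_ne inf_le_right fun h => ?_, fun L hL hLS => ?_⟩
  · obtain ⟨g, hg, hgW⟩ := hstrict
    rw [← h] at hg
    exact hgW hg.1
  · by_cases hle : L ≤ Cfsg.Geo.subspaceStabilizer W
    · exact Or.inl (le_antisymm (le_inf hle hLS) hL)
    · obtain ⟨g, hg, hg'⟩ := SetLike.not_le_iff_exists.mp hle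
      refine Or.inr (le_antisymm hLS (SU_le_of_uT hF hn fun v c hv hc => ?_))
      obtain ⟨_, h⟩ := hgrow L hL hLS g hg hg' v hv
      exact h c hc

theorem isMaximalIn_singular (hn : 4 ≤ n) {W : Submodule F (Fin n → F)} (hW0 : W ≠ ⊥)
    (hW : ∀ a ∈ W, ∀ b ∈ W, hh a b = 0) :
    Cfsg.Geo.IsMaximalIn (SUgl n F q) (Cfsg.Geo.subspaceStabilizer W ⊓ SUgl n F q) := by
  classical
  refine isMaximalIn_stab hF hn ?_ fun L hL hLS g hg hg' => ?_
  · obtain ⟨x, hx, hx0⟩ := (Submodule.ne_bot_iff W).mp hW0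
    obtain ⟨d, -, hd⟩ := pairing_one hF (nonDeg_top hF) (X := ⊤) (Submodule.mem_top (x := x)) hx0 1
    obtain ⟨a, ha⟩ := exists_adjust hF (hW x hx x hx) (by rw [hd]; exact one_ne_zero) (zero_pow_q hF)
    obtain ⟨τ, hτ0, hτ⟩ := exists_trace_zero hF
    have hxd : hh x (d + a • x) = 1 := by
      rw [hh_add_right hF, hh_smul_right hF, hW x hx x hx, mul_zero, add_zero, ← hh_conj hF d x, hd, one_pow]
    refine ⟨uT _ τ ha, uT_mem hF _ _ ha hτ, fun h => ?_⟩
    have h1 := mem_subspaceStabilizer_iff.mp h x hx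
    rw [uT_mulVec, hxd, mul_one, Submodule.add_mem_iff_right _ hx, Submodule.smul_mem_iff _ hτ0] at h1
    exact zero_ne_one ((hW x hx _ h1).symm.trans hxd)
  · have hC : ∀ z, hh z z = 0 → (z ∈ W ∨ z ∈ perp (hermB n hF) W) → IsCentre q L z := fun z hz hzW =>
      ⟨hz, fun c hc => hL ⟨uT_stab hF hz c hzW, uT_mem hF z c hz hc⟩⟩
    have hgU := mem_GU_iff.mp (hLS hg).1
    -- an isotropic vector of the perpendicular space moved out of it
    obtain ⟨y, hy, hyy, hgy⟩ : ∃ y ∈ perp (hermB n hF) W, hh y y = 0 ∧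
        (g : Matrix (Fin n) (Fin n) F) *ᵥ y ∉ perp (hermB n hF) W := by
      by_contra hc
      push_neg at hc
      let S := {y : Fin n → F // y ∈ perp (hermB n hF) W ∧ hh y y = 0}
      let φ : S → S := fun y => ⟨(g : Matrix (Fin n) (Fin n) F) *ᵥ y.1, hc y.1 y.2.1 y.2.2, by rw [hgU, y.2.2]⟩
      have hφ : Function.Injective φ := fun y y' h => by
        have h' := congrArg (fun z : S => ((g⁻¹ : GL (Fin n) F) : Matrix (Fin n) (Fin n) F) *ᵥ z.1) h
        simp only [φ, Matrix.mulVec_mulVec, ← Units.val_mul, inv_mul_cancel, Units.val_one, Matrix.one_mulVec] at h'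
        exact Subtype.ext h'
      have hsurj := Finite.injective_iff_surjective.mp hφ
      refine hg' (mem_subspaceStabilizer_iff.mpr fun x hx => ?_)
      have hxP : x ∈ perp (hermB n hF) W := (mem_perp_iff hF).mpr fun w hw => hW x hx w hw
      set z := (g : Matrix (Fin n) (Fin n) F) *ᵥ x
      have hzz : hh z z = 0 := by rw [hgU, hW x hx x hx]
      by_contra hz
      have hzP : z ∈ perp (hermB n hF) W := hc x hxP (hW x hx x hx)
      rw [← (isForm_herm (n := n) hF).perp_perp W, mem_perp_iff hF] at hz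
      push_neg at hz
      obtain ⟨d, hd, hzd⟩ := hz
      obtain ⟨a, ha⟩ := exists_adjust hF hzz (fun h => hzd (hh_comm_zero hF h)) (zero_pow_q hF)
      obtain ⟨⟨d', hd', hd'd'⟩, hφd⟩ := hsurj ⟨d + a • z, add_mem hd (Submodule.smul_mem _ _ hzP), ha⟩
      have h2 := congrArg Subtype.val hφd
      simp only [φ] at h2
      have h3 := hgU x d'
      rw [h2, hh_comm_zero hF ((mem_perp_iff hF).mp hd' x hx), hh_add_right hF, hh_smul_right hF, hzz, mul_zero,
        add_zero] at h3
      exact hzd h3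
    set v := (g : Matrix (Fin n) (Fin n) F) *ᵥ y with hv
    have hvC : IsCentre q L v := isCentre_mulVec hF hLS hg (hC y hyy (Or.inr hy))
    have hvv : hh v v = 0 := by rw [hgU, hyy]
    obtain ⟨u, hu, hvu⟩ : ∃ u ∈ W, hh v u = 1 := by
      rw [mem_perp_iff hF] at hgy
      push_neg at hgy
      obtain ⟨x, hx, hvx⟩ := hgy
      refine ⟨((hh v x)⁻¹) ^ q • x, W.smul_mem _ hx, ?_⟩
      rw [hh_smul_right hF, pow_q_q hF, inv_mul_cancel₀ hvx]
    have huu := hW u hu u hu
    have huv : hh u v = 1 := by rw [← hh_conj hF v u, hvu, one_pow]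
    have hone : ∀ z, hh z z = 0 → hh z u = 1 → IsCentre q L z := by
      intro z hzz hzu
      have hw : KnownA.ub hF u (z - v) = 0 := by
        show hh (z - v) u = 0
        rw [hh_sub_left hF, hzu, hvu, sub_self]
      have hc : hh v z + frobQ hF (hh v z) = -KnownA.ub hF (z - v) (z - v) := by
        show hh v z + hh v z ^ q = -hh (z - v) (z - v)
        rw [hh_sub_left hF, hh_sub_right hF, hh_sub_right hF, hzz, hvv, hh_conj hF]
        ring
      obtain ⟨A, hA⟩ := KnownA.exists_root hF u (z - v) (hh v z) huu hw hc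
      let D : GL (Fin n) F := Matrix.SpecialLinearGroup.toGL A.1
      have hDx : ∀ x, (D : Matrix (Fin n) (Fin n) F) *ᵥ x = x + hh x u • (z - v) + (hh v z * hh x u - hh x (z - v)) • u :=
        fun x => (Matrix.toLin'_apply _ x).symm.trans (hA x)
      have hDU : D ∈ SUgl n F q :=
        ⟨mem_GU_iff.mpr fun a b => A.2 a b, mem_specialLinear_iff.mpr A.1.2⟩
      have hDW : D ∈ Cfsg.Geo.subspaceStabilizer W := by
        rw [mem_subspaceStabilizer_iff]
        intro a ha
        rw [hDx, hW a ha u hu, zero_smul, add_zero]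
        exact W.add_mem ha (W.smul_mem _ hu)
      have h1 := isCentre_mulVec hF hLS (hL ⟨hDW, hDU⟩) hvC
      rw [hDx, hvu, one_smul, hh_sub_right hF, hvv, mul_one, sub_zero, sub_self, zero_smul, add_zero, add_sub_cancel] at h1
      exact h1
    have hne : ∀ z, hh z z = 0 → hh z u ≠ 0 → IsCentre q L z := by
      intro z hzz hzu
      have h1 := isCentre_smul hF (hone ((hh z u)⁻¹ • z)
        (by rw [hh_smul_left hF, hh_smul_right hF, hzz, mul_zero, mul_zero])
        (by rw [hh_smul_left hF, inv_mul_cancel₀ hzu])) (hh z u)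
      rwa [smul_smul, mul_inv_cancel₀ hzu, one_smul] at h1
    intro z hzz
    by_cases hzu : hh z u = 0
    swap
    · exact hne z hzz hzu
    by_cases hz0 : z = 0
    · exact hC z hzz (Or.inl (hz0 ▸ W.zero_mem))
    have hu0 : u ≠ 0 := fun h => by rw [h, hh_zero_right hF] at hvu; exact zero_ne_one hvu
    obtain ⟨v', -, hv'v', hv'u, hv'z⟩ :=
      exists_iso_pairing hF (nonDeg_top hF) (X := ⊤) (Submodule.mem_top (x := u)) (Submodule.mem_top (x := z)) hu0 hz0 huu hzu
    obtain ⟨τ, hτ0, hτ⟩ := exists_trace_zero hF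
    have hzv' : hh z v' ≠ 0 := fun h => hv'z (hh_comm_zero hF h)
    have hz' : hh (z + (τ * hh z v') • v') (z + (τ * hh z v') • v') = 0 := by
      have := mem_GU_iff.mp (uT_mem hF v' τ hv'v' hτ).1 z z
      rwa [uT_mulVec, hzz] at this
    have h1 := hne _ hz' (by
      rw [hh_add_left hF, hh_smul_left hF, hzu, zero_add]
      exact mul_ne_zero (mul_ne_zero hτ0 hzv') hv'u)
    have h2 := isCentre_shift hF hLS (hne v' hv'v' hv'u) h1 (trace_zero_neg hF hτ)
    convert h2 using 1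
    rw [hh_add_left hF, hh_smul_left hF, hv'v', mul_zero, add_zero]
    module

theorem mem_of_iso_mem {P A : Submodule F (Fin n → F)} (hP : NonDeg q P) (hk : 3 ≤ Module.finrank F P)
    (h : ∀ x ∈ P, hh x x = 0 → x ∈ A) : P ≤ A := by
  intro x hx
  by_cases hxx : hh x x = 0
  · exact h x hx hxx
  obtain ⟨d, hd, hdx, hdd⟩ := exists_aniso_perp hF hP hx (Or.inl hk)
  obtain ⟨r, hr⟩ := exists_norm hF (-(hh x x) / hh d d) (by rw [div_pow, pow_neg_q hF, hh_self_fixed hF, hh_self_fixed hF])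
  obtain ⟨w, hw⟩ := exists_not_fixed hF
  have hw0 : w ≠ 0 := by rintro rfl; exact hw (zero_pow_q hF)
  have hwq : w ^ q ≠ 0 := pow_ne_zero _ hw0
  have hz : (w / w ^ q) * (w / w ^ q) ^ q = 1 := by rw [div_pow, pow_q_q hF]; field_simp
  have hz1 : w / w ^ q ≠ 1 := fun h => hw (div_eq_one_iff_eq hwq |>.mp h).symm
  have hiso : ∀ l : F, l * l ^ q = 1 → x + (l * r) • d ∈ A := by
    intro l hl
    refine h _ (P.add_mem hx (P.smul_mem _ hd)) ?_
    simp only [hh_add_left hF, hh_add_right hF, hh_smul_left hF, hh_smul_right hF, hdx, hh_comm_zero hF hdx, mul_pow]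
    rw [eq_div_iff hdd] at hr
    linear_combination (r * r ^ q * hh d d) * hl + hr
  have h1 := hiso 1 (by rw [one_pow, one_mul])
  have h2 := A.sub_mem (hiso _ hz) h1
  have hr0 : r ≠ 0 := fun h0 => by
    rw [h0, zero_mul, eq_comm, div_eq_zero_iff, neg_eq_zero] at hr
    exact hr.elim hxx hdd
  rw [show x + (w / w ^ q * r) • d - (x + (1 * r) • d) = ((w / w ^ q - 1) * r) • d by module,
    Submodule.smul_mem_iff _ (mul_ne_zero (sub_ne_zero.mpr hz1) hr0)] at h2
  have := A.sub_mem h1 (A.smul_mem (1 * r) h2)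
  rwa [add_sub_cancel_right] at this

theorem isMaximalIn_nondegenerate (hn : 6 ≤ n) {W : Submodule F (Fin n → F)} (hW0 : W ≠ ⊥) (hW : NonDeg q W)
    (hdim : 2 * Module.finrank F W < n) :
    Cfsg.Geo.IsMaximalIn (SUgl n F q) (Cfsg.Geo.subspaceStabilizer W ⊓ SUgl n F q) := by
  classical
  set P := perp (hermB n hF) W with hPdef
  have hP : NonDeg q P := nonDeg_perp hF hW
  have hcompl : IsCompl W P := isCompl_perp' hF hW
  have hdimP : Module.finrank F W + Module.finrank F P = n := by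
    have := Submodule.finrank_add_eq_of_isCompl hcompl
    rwa [Module.finrank_pi, Fintype.card_fin] at this
  have hP3 : 3 ≤ Module.finrank F P := by omega
  have hP0 : P ≠ ⊥ := fun h => by rw [h, finrank_bot] at hP3; omega
  have hdec : ∀ z, ∃ a ∈ W, ∃ b ∈ P, z = a + b := fun z => by
    obtain ⟨a, ha, b, hb, h⟩ := Submodule.mem_sup.mp (hcompl.sup_eq_top ▸ Submodule.mem_top (x := z))
    exact ⟨a, ha, b, hb, h.symm⟩
  have hort : ∀ a ∈ W, ∀ b ∈ P, hh b a = 0 ∧ hh a b = 0 := fun a ha b hb =>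
    ⟨(mem_perp_iff hF).mp hb a ha, hh_comm_zero hF ((mem_perp_iff hF).mp hb a ha)⟩
  have hnorm : ∀ a ∈ W, ∀ b ∈ P, hh (a + b) (a + b) = hh a a + hh b b := fun a ha b hb => by
    rw [hh_add_left hF, hh_add_right hF, hh_add_right hF, (hort a ha b hb).1, (hort a ha b hb).2, add_zero, zero_add]
  obtain ⟨u1, hu1, hu1u⟩ := exists_unit hF hW hW0
  refine isMaximalIn_stab hF (by omega) ?_ fun L hL hLS g hg hg' => ?_
  · obtain ⟨p, hp, hpp⟩ : ∃ p ∈ P, hh p p = -1 := by
      obtain ⟨e, he, hee⟩ := exists_unit hF hP hP0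
      obtain ⟨r, hr⟩ := exists_norm hF (-1 : F) (by rw [pow_neg_q hF, one_pow])
      exact ⟨r • e, P.smul_mem _ he, by rw [hh_smul_left hF, hh_smul_right hF, hee, mul_one, hr]⟩
    obtain ⟨τ, hτ0, hτ⟩ := exists_trace_zero hF
    have hz : hh (u1 + p) (u1 + p) = 0 := by rw [hnorm u1 hu1 p hp, hu1u, hpp, add_neg_cancel]
    refine ⟨uT _ τ hz, uT_mem hF _ _ hz hτ, fun h => ?_⟩
    have h1 := mem_subspaceStabilizer_iff.mp h u1 hu1
    rw [uT_mulVec, hh_add_right hF, hu1u, (hort u1 hu1 p hp).2, add_zero, mul_one,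
      Submodule.add_mem_iff_right _ hu1, Submodule.smul_mem_iff _ hτ0, Submodule.add_mem_iff_right _ hu1] at h1
    rw [Submodule.disjoint_def.mp hcompl.disjoint p h1 hp, hh_zero_left hF, zero_eq_neg] at hpp
    exact one_ne_zero hpp
  · have hC : ∀ z, hh z z = 0 → (z ∈ W ∨ z ∈ P) → IsCentre q L z := fun z hz hzW =>
      ⟨hz, fun c hc => hL ⟨uT_stab hF hz c hzW, uT_mem hF z c hz hc⟩⟩
    have hgU := mem_GU_iff.mp (hLS hg).1
    -- a mixed centre
    obtain ⟨a0, ha0, ha00, b0, hb0, hb00, hab0⟩ :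
        ∃ a ∈ W, a ≠ 0 ∧ ∃ b ∈ P, b ≠ 0 ∧ IsCentre q L (a + b) := by
      by_contra hc
      push_neg at hc
      let φ := Matrix.toLin' (g : Matrix (Fin n) (Fin n) F)
      have hφ : Function.Injective φ := fun x y h => by
        have h' := congrArg ((g⁻¹ : GL (Fin n) F) : Matrix (Fin n) (Fin n) F).mulVec h
        simpa [φ, Matrix.mulVec_mulVec, ← Units.val_mul] using h'
      have hsplit : ∀ y ∈ P, hh y y = 0 → φ y ∈ W ∨ φ y ∈ P := by
        intro y hy hyy
        obtain ⟨a, ha, b, hb, h⟩ := hdec (φ y)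
        by_cases ha0 : a = 0
        · right; rw [h, ha0, zero_add]; exact hb
        by_cases hb0 : b = 0
        · left; rw [h, hb0, add_zero]; exact ha
        refine absurd ?_ (hc a ha ha0 b hb hb0)
        rw [← h, Matrix.toLin'_apply]
        exact isCentre_mulVec hF hLS hg (hC y hyy (Or.inr hy))
      obtain ⟨y1, hy1, hy1', hy1W⟩ : ∃ y ∈ P, hh y y = 0 ∧ φ y ∉ P := by
        by_contra h
        push_neg at h
        refine hg' (stab_of_perp_stab hF (hLS hg).1 (mem_subspaceStabilizer_iff.mpr fun x hx => ?_))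
        have := mem_of_iso_mem hF hP hP3 (A := P.comap φ) h hx
        simpa [φ] using this
      obtain ⟨y2, hy2, hy2', hy2P⟩ : ∃ y ∈ P, hh y y = 0 ∧ φ y ∉ W := by
        by_contra h
        push_neg at h
        have h1 : P.map φ ≤ W := Submodule.map_le_iff_le_comap.mpr (mem_of_iso_mem hF hP hP3 (A := W.comap φ) h)
        have h2 := Submodule.finrank_mono h1
        rw [← (Submodule.equivMapOfInjective φ hφ P).finrank_eq] at h2
        omega
      have h1 := (hsplit y1 hy1 hy1').resolve_right hy1W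
      have h2 := (hsplit y2 hy2 hy2').resolve_left hy2P
      have h12 : hh y1 y2 = 0 := by
        rw [← hgU y1 y2, ← Matrix.toLin'_apply, ← Matrix.toLin'_apply]
        exact (hort _ h1 _ h2).2
      rcases hsplit (y1 + y2) (P.add_mem hy1 hy2)
        (by rw [hh_add_left hF, hh_add_right hF, hh_add_right hF, hy1', hy2', h12, hh_comm_zero hF h12]; ring) with h | h
      · rw [map_add, Submodule.add_mem_iff_right _ h1] at h; exact hy2P h
      · rw [map_add, Submodule.add_mem_iff_left _ h2] at h; exact hy1W h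
    -- the set of reachable components
    let M : (Fin n → F) → Prop := fun a => ∃ b ∈ P, b ≠ 0 ∧ IsCentre q L (a + b)
    have hcompP : ∀ b ∈ P, ∃ e ∈ P, hh e e = 1 ∧ hh b e = 0 := by
      intro b hb
      obtain ⟨d, hd, hdb, hdd⟩ := exists_aniso_perp hF hP hb (Or.inl hP3)
      obtain ⟨r, hr⟩ := exists_norm hF (hh d d)⁻¹ (by rw [inv_pow, hh_self_fixed hF])
      exact ⟨r • d, P.smul_mem _ hd, by rw [hh_smul_left hF, hh_smul_right hF, ← mul_assoc, hr, inv_mul_cancel₀ hdd],
        by rw [hh_smul_right hF, hh_comm_zero hF hdb, mul_zero]⟩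
    have hcompW : ∀ a ∈ W, ∃ e ∈ P, hh e e = 1 ∧ hh a e = 0 := by
      intro a ha
      obtain ⟨e, he, hee⟩ := exists_unit hF hP hP0
      exact ⟨e, he, hee, (hort a ha e he).2⟩
    have hMb : ∀ a ∈ W, M a → ∀ b' ∈ P, b' ≠ 0 → hh (a + b') (a + b') = 0 → IsCentre q L (a + b') := by
      intro a ha ⟨b, hb, hb0, hab⟩ b' hb' hb'0 hiso
      have hN : hh b b = hh b' b' := by
        have h1 : hh (a + b) (a + b) = 0 := hab.choose
        rw [hnorm a ha b hb] at h1
        rw [hnorm a ha b' hb'] at hiso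
        linear_combination h1 - hiso
      obtain ⟨D, hD, hDG, hDb⟩ := exists_good_map hF hP hb hb' hb0 hb'0 hN hcompP
      have hDW : D ∈ Cfsg.Geo.subspaceStabilizer W :=
        hDG.2.2 W (Or.inr fun x hx z hz => (hort z hz x hx).2) (Or.inr fun x hx z hz => (hort z hz x hx).2)
      have hDa : (D : Matrix (Fin n) (Fin n) F) *ᵥ a = a :=
        hDG.2.1 a (fun x hx => (hort a ha x hx).2) (fun x hx => (hort a ha x hx).2)
      have := isCentre_mulVec hF hLS (hL ⟨hDW, hD⟩) hab
      rwa [Matrix.mulVec_add, hDa, hDb] at this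
    have hMa : ∀ a ∈ W, a ≠ 0 → M a → ∀ a' ∈ W, a' ≠ 0 → hh a a = hh a' a' → M a' := by
      intro a ha ha0 ⟨b, hb, hb0, hab⟩ a' ha' ha'0 hN
      obtain ⟨D, hD, hDG, hDa⟩ := exists_good_map hF hW ha ha' ha0 ha'0 hN hcompW
      have hDW : D ∈ Cfsg.Geo.subspaceStabilizer W :=
        hDG.2.2 W (Or.inl le_rfl) (Or.inr fun x hx z hz => (hort z hz x hx).2)
      have hDP : D ∈ Cfsg.Geo.subspaceStabilizer P :=
        hDG.2.2 P (Or.inr fun x hx z hz => (hort x hx z hz).1) (Or.inl le_rfl)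
      refine ⟨(D : Matrix (Fin n) (Fin n) F) *ᵥ b, mem_subspaceStabilizer_iff.mp hDP b hb, fun h => hb0 ?_, ?_⟩
      · have h' := congrArg (((D⁻¹ : GL (Fin n) F) : Matrix (Fin n) (Fin n) F) *ᵥ ·) h
        simpa [Matrix.mulVec_mulVec, ← Units.val_mul] using h'
      · have := isCentre_mulVec hF hLS (hL ⟨hDW, hD⟩) hab
        rwa [Matrix.mulVec_add, hDa] at this
    have hMsmul : ∀ a, M a → ∀ r : F, r ≠ 0 → M (r • a) := by
      rintro a ⟨b, hb, hb0, hab⟩ r hr
      refine ⟨r • b, P.smul_mem _ hb, smul_ne_zero hr hb0, ?_⟩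
      rw [← smul_add]; exact isCentre_smul hF hab r
    have hAll : ∀ a ∈ W, a ≠ 0 → M a → ∀ a' ∈ W, a' ≠ 0 → hh a a ≠ 0 → hh a' a' ≠ 0 → M a' := by
      intro a ha ha0 hM a' ha' ha'0 h h'
      obtain ⟨r, hr⟩ := exists_norm hF (hh a' a' / hh a a) (by rw [div_pow, hh_self_fixed hF, hh_self_fixed hF])
      have hr0 : r ≠ 0 := fun h0 => by
        rw [h0, zero_mul, eq_comm, div_eq_zero_iff] at hr
        exact hr.elim h' h
      refine hMa _ (W.smul_mem r ha) (smul_ne_zero hr0 ha0) (hMsmul a hM r hr0) a' ha' ha'0 ?_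
      rw [hh_smul_left hF, hh_smul_right hF, ← mul_assoc, hr, div_mul_cancel₀ _ h]
    obtain ⟨τ, hτ0, hτ⟩ := exists_trace_zero hF
    -- combining two mixed centres
    have hcomb : ∀ a ∈ W, ∀ b ∈ P, ∀ a2 ∈ W, ∀ b2 ∈ P, IsCentre q L (a + b) → IsCentre q L (a2 + b2) →
        ∀ l : F, l = τ * (hh a2 a + hh b2 b) → b2 + l • b ≠ 0 → M (a2 + l • a) := by
      intro a ha b hb a2 ha2 b2 hb2 h1 h2 l hl hne
      refine ⟨b2 + l • b, P.add_mem hb2 (P.smul_mem _ hb), hne, ?_⟩
      have := isCentre_shift hF hLS h1 h2 hτ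
      have hval : hh (a2 + b2) (a + b) = hh a2 a + hh b2 b := by
        rw [hh_add_left hF, hh_add_right hF, hh_add_right hF, (hort a2 ha2 b hb).2, (hort a ha b2 hb2).1,
          add_zero, zero_add]
      rw [hval, ← hl] at this
      convert this using 1
      module
    -- all components are reachable
    have hM : ∀ a' ∈ W, a' ≠ 0 → M a' := by
      have hsingle : M a0 := ⟨b0, hb0, hb00, hab0⟩
      have hiso0 : hh a0 a0 + hh b0 b0 = 0 := by rw [← hnorm a0 ha0 b0 hb0]; exact hab0.choose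
      intro a' ha' ha'0
      by_cases hN0 : hh a0 a0 = 0 <;> by_cases hN' : hh a' a' = 0
      · exact hMa a0 ha0 ha00 hsingle a' ha' ha'0 (hN0.trans hN'.symm)
      · -- from isotropic to anisotropic
        have hb0b0 : hh b0 b0 = 0 := by linear_combination hiso0 - hN0
        obtain ⟨d, hd, hda⟩ := pairing_one hF hW ha0 ha00 1
        obtain ⟨s, hs⟩ := exists_adjust hF hN0 (by rw [hda]; exact one_ne_zero) (zero_pow_q hF)
        set a2 := d + s • a0 with ha2def
        have ha2 : a2 ∈ W := W.add_mem hd (W.smul_mem _ ha0)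
        have ha2a : hh a2 a0 = 1 := by rw [ha2def, hh_add_left hF, hh_smul_left hF, hda, hN0, mul_zero, add_zero]
        have ha20 : a2 ≠ 0 := fun h => by rw [h, hh_zero_left hF] at ha2a; exact zero_ne_one ha2a
        obtain ⟨t, ht⟩ := exists_trace_one hF
        obtain ⟨b2, hb2, hb20, hb2b2, hb2b⟩ : ∃ b2 ∈ P, b2 ≠ 0 ∧ hh b2 b2 = 0 ∧ hh b2 b0 = t / τ - 1 := by
          by_cases hx : t / τ - 1 = 0
          · exact ⟨b0, hb0, hb00, hb0b0, by rw [hx, hb0b0]⟩
          obtain ⟨e, he, heb⟩ := pairing_one hF hP hb0 hb00 (t / τ - 1)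
          obtain ⟨s, hs⟩ := exists_adjust hF hb0b0 (by rw [heb]; exact hx) (zero_pow_q hF)
          have h2 : hh (e + s • b0) b0 = t / τ - 1 := by rw [hh_add_left hF, hh_smul_left hF, heb, hb0b0, mul_zero, add_zero]
          exact ⟨_, P.add_mem he (P.smul_mem _ hb0), fun h => hx (by rw [← h2, h, hh_zero_left hF]), hs, h2⟩
        have h2 : IsCentre q L (a2 + b2) :=
          hMb a2 ha2 (hMa a0 ha0 ha00 hsingle a2 ha2 ha20 (hN0.trans hs.symm)) b2 hb2 hb20
            (by rw [hnorm a2 ha2 b2 hb2, hb2b2, hs, add_zero])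
        have hnorm2 : hh (a2 + t • a0) (a2 + t • a0) = 1 := by
          simp only [hh_add_left hF, hh_add_right hF, hh_smul_left hF, hh_smul_right hF, hs, hN0, ha2a,
            ← hh_conj hF a2 a0, one_pow]
          linear_combination ht
        have hl : t = τ * (hh a2 a0 + hh b2 b0) := by
          rw [ha2a, hb2b, add_sub_cancel, mul_div_cancel₀ _ hτ0]
        have hne : b2 + t • b0 ≠ 0 := by
          intro h
          have h3 : hh (a2 + b2) (a2 + b2) = 0 := h2.choose
          have h4 := mem_GU_iff.mp (uT_mem hF (a0 + b0) τ hab0.choose hτ).1 (a2 + b2) (a2 + b2)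
          have hval : hh (a2 + b2) (a0 + b0) = hh a2 a0 + hh b2 b0 := by
            rw [hh_add_left hF, hh_add_right hF, hh_add_right hF, (hort a2 ha2 b0 hb0).2, (hort a0 ha0 b2 hb2).1,
              add_zero, zero_add]
          rw [uT_mulVec, hval, ← hl, show a2 + b2 + t • (a0 + b0) = (a2 + t • a0) + (b2 + t • b0) by module, h,
            add_zero, hnorm2, h3] at h4
          exact one_ne_zero h4
        exact hAll _ (W.add_mem ha2 (W.smul_mem _ ha0))
          (fun h => by rw [h, hh_zero_left hF] at hnorm2; exact zero_ne_one hnorm2)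
          (hcomb a0 ha0 b0 hb0 a2 ha2 b2 hb2 hab0 h2 t hl hne) a' ha' ha'0 (by rw [hnorm2]; exact one_ne_zero) hN'
      · -- from anisotropic to isotropic
        have hk2 : 2 ≤ Module.finrank F W := by
          by_contra h
          have heq : Submodule.span F {a0} = W := Submodule.eq_of_le_of_finrank_le
            ((Submodule.span_singleton_le_iff_mem _ _).mpr ha0) (by rw [finrank_span_singleton ha00]; omega)
          obtain ⟨c, rfl⟩ := Submodule.mem_span_singleton.mp (heq.symm ▸ ha')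
          rw [hh_smul_left hF, hh_smul_right hF, ← mul_assoc] at hN'
          rcases mul_eq_zero.mp hN' with h | h
          · rcases mul_eq_zero.mp h with h | h
            · exact ha'0 (by rw [h, zero_smul])
            · exact ha'0 (by rw [(pow_eq_zero_iff (by have := two_le_q hF; omega)).mp h, zero_smul])
          · exact hN0 h
        obtain ⟨d, hd, hda, hdd⟩ := exists_aniso_perp hF hW ha0 (Or.inr ⟨hk2, hN0⟩)
        obtain ⟨r, hr⟩ := exists_norm hF (hh a0 a0 / hh d d) (by rw [div_pow, hh_self_fixed hF, hh_self_fixed hF])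
        set a2 := r • d with ha2def
        have ha2' : a2 ∈ W := W.smul_mem _ hd
        have ha2N : hh a2 a2 = hh a0 a0 := by
          rw [ha2def, hh_smul_left hF, hh_smul_right hF, ← mul_assoc, hr, div_mul_cancel₀ _ hdd]
        have ha2a : hh a2 a0 = 0 := by rw [ha2def, hh_smul_left hF, hda, mul_zero]
        have ha20 : a2 ≠ 0 := fun h => by rw [h, hh_zero_left hF] at ha2N; exact hN0 ha2N.symm
        obtain ⟨l, hl1⟩ := exists_norm hF (-1 : F) (by rw [pow_neg_q hF, one_pow])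
        have hbN : hh b0 b0 = -hh a0 a0 := by linear_combination hiso0
        have hbN0 : hh b0 b0 ≠ 0 := by rw [hbN]; exact neg_ne_zero.mpr hN0
        obtain ⟨r', hr'⟩ := exists_norm hF (hh b0 b0)⁻¹ (by rw [inv_pow, hh_self_fixed hF])
        have hr'0 : r' ≠ 0 := fun h => by rw [h, zero_mul, eq_comm, inv_eq_zero] at hr'; exact hbN0 hr'
        have hu' : hh (r' • b0) (r' • b0) = 1 := by
          rw [hh_smul_left hF, hh_smul_right hF, ← mul_assoc, hr', inv_mul_cancel₀ hbN0]
        set Y := P ⊓ perp (hermB n hF) (Submodule.span F {r' • b0}) with hYdef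
        have hY : NonDeg q Y := nonDeg_inf_unit hF hP (P.smul_mem _ hb0) hu'
        have hY2 : 2 ≤ Module.finrank F Y := by
          have h1 := (finrank_inf_perp hF hP (S := Submodule.span F {r' • b0})
            ((Submodule.span_singleton_le_iff_mem _ _).mpr (P.smul_mem _ hb0))).1
          rw [finrank_span_singleton (smul_ne_zero hr'0 hb00)] at h1
          show 2 ≤ Module.finrank F ↥(P ⊓ perp (hermB n hF) (Submodule.span F {r' • b0}))
          omega
        obtain ⟨e, he, f, hf, hee, -, hfe, -⟩ := exists_isotropic_pair hF hY hY2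
        set x := l / τ / hh b0 b0 with hxdef
        obtain ⟨s, hs⟩ := exists_adjust hF hee (x := f) (by rw [hfe]; exact one_ne_zero)
          (μ := hh b0 b0 - x * x ^ q * hh b0 b0) (by rw [pow_sub_q hF, mul_pow, norm_fixed hF, hh_self_fixed hF])
        set y := f + s • e with hydef
        have hy : y ∈ Y := Y.add_mem hf (Y.smul_mem _ he)
        have hy0 : y ≠ 0 := fun h => by
          have h' : hh y e = 1 := by rw [hydef, hh_add_left hF, hh_smul_left hF, hee, mul_zero, add_zero, hfe]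
          rw [h, hh_zero_left hF] at h'
          exact zero_ne_one h'
        have hyb : hh y b0 = 0 := by
          have h1 := (mem_perp_iff hF).mp hy.2 _ (Submodule.mem_span_singleton_self _)
          rw [hh_smul_right hF] at h1
          exact (mul_eq_zero.mp h1).resolve_left (pow_ne_zero _ hr'0)
        set b2 := x • b0 + y with hb2def
        have hb2 : b2 ∈ P := P.add_mem (P.smul_mem _ hb0) hy.1
        have hb2b : hh b2 b0 = l / τ := by
          rw [hb2def, hh_add_left hF, hh_smul_left hF, hyb, add_zero, hxdef, div_mul_cancel₀ _ hbN0]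
        have hb2N : hh b2 b2 = hh b0 b0 := by
          simp only [hb2def, hh_add_left hF, hh_add_right hF, hh_smul_left hF, hh_smul_right hF, hyb,
            hh_comm_zero hF hyb, hs]
          ring
        have hb20 : b2 ≠ 0 := fun h => by rw [h, hh_zero_left hF] at hb2N; exact hbN0 hb2N.symm
        have h2 : IsCentre q L (a2 + b2) :=
          hMb a2 ha2' (hMa a0 ha0 ha00 hsingle a2 ha2' ha20 ha2N.symm) b2 hb2 hb20
            (by rw [hnorm a2 ha2' b2 hb2, ha2N, hb2N, hiso0])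
        have hnorm2 : hh (a2 + l • a0) (a2 + l • a0) = 0 := by
          simp only [hh_add_left hF, hh_add_right hF, hh_smul_left hF, hh_smul_right hF, ha2N, ha2a,
            hh_comm_zero hF ha2a]
          linear_combination (hh a0 a0) * hl1
        have hl0 : l ≠ 0 := fun h => by rw [h, zero_mul, zero_eq_neg] at hl1; exact one_ne_zero hl1
        have hne2 : a2 + l • a0 ≠ 0 := fun h => by
          have := congrArg (fun z => hh z a0) h
          simp only [hh_add_left hF, hh_smul_left hF, ha2a, zero_add, hh_zero_left hF] at this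
          exact mul_ne_zero hl0 hN0 this
        have hl : l = τ * (hh a2 a0 + hh b2 b0) := by rw [ha2a, hb2b, zero_add, mul_div_cancel₀ _ hτ0]
        have hne : b2 + l • b0 ≠ 0 := fun h => by
          have := congrArg (fun z => hh z b0) h
          simp only [hb2def, hh_add_left hF, hh_smul_left hF, hyb, hh_zero_left hF, add_zero] at this
          have hxl : x + l = 0 := (mul_eq_zero.mp (by rw [add_mul]; exact this)).resolve_right hbN0
          rw [hb2def, show x • b0 + y + l • b0 = (x + l) • b0 + y by module, hxl, zero_smul, zero_add] at h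
          exact hy0 h
        exact hMa _ (W.add_mem ha2' (W.smul_mem _ ha0)) hne2
          (hcomb a0 ha0 b0 hb0 a2 ha2' b2 hb2 hab0 h2 l hl hne) a' ha' ha'0 (hnorm2.trans hN'.symm)
      · exact hAll a0 ha0 ha00 hsingle a' ha' ha'0 hN0 hN'
    intro z hzz
    obtain ⟨a, ha, b, hb, rfl⟩ := hdec z
    by_cases ha0 : a = 0
    · exact hC _ hzz (Or.inr (by rwa [ha0, zero_add]))
    by_cases hb0 : b = 0
    · exact hC _ hzz (Or.inl (by rwa [hb0, add_zero]))
    exact hMb a ha (hM a ha ha0) b hb hb0 hzz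

end Cfsg.Agent.GeomClasses.Unitary
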